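import Mathlib
import Cfsg.Agent.CS4.Rel

set_option autoImplicit false

/-!
# S4284: class sizes `{1, m, m n}` with `(m, n) = 1` -- definitions

Blueprint: `notes/S4284_blueprint_helper8.md`.  `idx g` (from `Cfsg.Agent.CS4`) is the index of the
centralizer of `g`, i.e. the class size; `IsPEl r g` says that `g` has `r`-power order.  `cs3_H G m n`
is the hypothesis of S4284.  For an `r`-element `y` of class size `m` the centralizer `C(y)` has one
of three types: `cs3_Ta r y` (every `r`-regular element of `C(y)` is central in `C(y)`), `n` a power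
of `r`, or `cs3_Tc n r t y` for a prime `t`.
-/

namespace Cfsg.Agent.CS3

open Subgroup
open Cfsg.Agent.CS4

variable {G : Type*} [Group G]

/-- the hypothesis of S4284: the class sizes are exactly `1`, `m`, `m * n` with `1 < m`, `1 < n`
coprime, and there is no nontrivial abelian direct factor. -/
structure cs3_H (G : Type*) [Group G] (m n : ℕ) : Prop where
  hm : 1 < m
  hn : 1 < n
  cop : m.Coprime n
  cs : ∀ g : G, idx g = 1 ∨ idx g = m ∨ idx g = m * n
  exm : ∃ g : G, idx g = m
  exmn : ∃ g : G, idx g = m * n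
  nodf : ∀ A B : Subgroup G, A.Normal → B.Normal → A ⊓ B = ⊥ → A ⊔ B = ⊤ →
    IsMulCommutative A → A = ⊥

/-- type (6a): every `r`-regular element of `C(y)` is central in `C(y)`. -/
def cs3_Ta (r : ℕ) (y : G) : Prop :=
  ∀ z c : G, Commute z y → Commute c y → (orderOf z).Coprime r → Commute c z

/-- type (6c) with special prime `t`: `t ≠ r` divides `n`, `n` is an `{r, t}`-number, some
`t`-element of `C(y)` is not central in `C(y)`, and for the primes `ℓ ∉ {r, t}` all `ℓ`-elements
of `C(y)` are central in `C(y)`. -/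
def cs3_Tc (n r t : ℕ) (y : G) : Prop :=
  t.Prime ∧ t ≠ r ∧ t ∣ n ∧ (∀ ℓ : ℕ, ℓ.Prime → ℓ ∣ n → ℓ = r ∨ ℓ = t) ∧
  (∃ z c : G, Commute z y ∧ Commute c y ∧ IsPEl t z ∧ ¬ Commute c z) ∧
  ∀ ℓ : ℕ, ℓ.Prime → ℓ ≠ r → ℓ ≠ t →
    ∀ z c : G, Commute z y → Commute c y → IsPEl ℓ z → Commute c z

/-- hypothesis `𝔄(p)`: every noncentral `p`-element has an abelian centralizer, which contains a
noncentral `p`-regular element. -/
def cs3_AA (p : ℕ) (G : Type*) [Group G] : Prop :=
  ∀ a : G, IsPEl p a → a ∉ center G →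
    (∀ c d : G, Commute c a → Commute d a → Commute c d) ∧
    ∃ k : G, Commute k a ∧ (orderOf k).Coprime p ∧ k ∉ center G

/-- the conclusion of S4284 -/
def cs3_Concl (G : Type*) [Group G] (m n : ℕ) : Prop :=
  m.Prime ∧ m ∣ n - 1 ∧
  (∃ M : Subgroup G, M.Normal ∧
    (M : Set G) = {x : G | (Subgroup.centralizer ({x} : Set G)).index = 1 ∨
      (Subgroup.centralizer ({x} : Set G)).index = m} ∧ M.index = m ∧ IsMulCommutative M) ∧
  (∃ N : Subgroup G, N.Normal ∧ (Nat.card N).Coprime m ∧ ∃ a : ℕ, N.index = m ^ a) ∧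
  ∀ P : Sylow m G, Nat.card (commutator (P : Subgroup G)) = m

end Cfsg.Agent.CS3
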