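import Mathlib
import Cfsg.Agent.CS3.Defs

set_option autoImplicit false

/-!
# S4284: basic lemmas

Arithmetic of the class sizes `1`, `m`, `m * n`; no prime outside `m * n` divides the order of the
group (B0); centralizers of elements of the largest class size (B2); class sizes inside the
centralizer of an element of class size `m` (B3); elements of `q`-power order, `q ∣ n` (B6).
-/

namespace Cfsg.Agent.CS3

open Subgroup
open Cfsg.Agent.CS4

variable {G : Type*} [Group G] {m n : ℕ}

theorem cs3_H.m_pos (h : cs3_H G m n) : 0 < m := by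
  have := h.hm
  omega

theorem cs3_H.n_pos (h : cs3_H G m n) : 0 < n := by
  have := h.hn
  omega

theorem cs3_H.m_lt_mn (h : cs3_H G m n) : m < m * n := by
  have h1 := h.hm
  have h2 := h.hn
  nlinarith

theorem cs3_H.idx_of_not_center (h : cs3_H G m n) {g : G} (hg : g ∉ center G) :
    idx g = m ∨ idx g = m * n := by
  rcases h.cs g with h1 | h1 | h1
  · exact absurd ((idx_eq_one_iff g).mp h1) hg
  · exact Or.inl h1
  · exact Or.inr h1

/-- a class size that is not `m * n` is `1` or `m` -/
theorem cs3_H.idx_of_ne (h : cs3_H G m n) {g : G} (hg : idx g ≠ m * n) : idx g = 1 ∨ idx g = m := by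
  rcases h.cs g with h1 | h1 | h1
  · exact Or.inl h1
  · exact Or.inr h1
  · exact absurd h1 hg

theorem cs3_H.idx_dvd_mn (h : cs3_H G m n) (g : G) : idx g ∣ m * n := by
  rcases h.cs g with h1 | h1 | h1
  · rw [h1]; exact one_dvd _
  · rw [h1]; exact dvd_mul_right _ _
  · rw [h1]

theorem cs3_H.m_dvd_idx (h : cs3_H G m n) {g : G} (hg : g ∉ center G) : m ∣ idx g := by
  rcases h.idx_of_not_center hg with h1 | h1
  · rw [h1]
  · rw [h1]; exact dvd_mul_right _ _

/-- for a prime `p ∣ m` and `g` noncentral the `p`-part of `idx g` is the `p`-part of `m` -/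
theorem cs3_H.factorization_idx (h : cs3_H G m n) {p : ℕ} (hp : p.Prime) (hpm : p ∣ m) {g : G}
    (hg : g ∉ center G) : (idx g).factorization p = m.factorization p := by
  rcases h.idx_of_not_center hg with h1 | h1
  · rw [h1]
  · rw [h1, Nat.factorization_mul h.m_pos.ne' h.n_pos.ne']
    have hpn : ¬ p ∣ n := fun hd =>
      hp.one_lt.ne' (Nat.eq_one_of_dvd_coprimes h.cop hpm hd)
    simp [Nat.factorization_eq_zero_of_not_dvd hpn]

/-- for a prime `q ∣ n`: `q ∣ idx g` iff `g ∈ L` -/
theorem cs3_H.dvd_idx_iff (h : cs3_H G m n) {q : ℕ} (hq : q.Prime) (hqn : q ∣ n) (g : G) :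
    q ∣ idx g ↔ idx g = m * n := by
  have hqm : ¬ q ∣ m := fun hd =>
    hq.one_lt.ne' (Nat.eq_one_of_dvd_coprimes h.cop hd hqn)
  constructor
  · intro hd
    rcases h.cs g with h1 | h1 | h1
    · rw [h1] at hd
      exact absurd hd hq.not_dvd_one
    · rw [h1] at hd
      exact absurd hd hqm
    · exact h1
  · intro h1
    rw [h1]
    exact hqn.mul_left m

variable [Finite G]

/-- (B0) a central subgroup whose order is prime to its index is trivial. -/
theorem cs3_H.central_hall_eq_bot (h : cs3_H G m n) (A : Subgroup G) (hA : A ≤ center G)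
    (hcop : (Nat.card A).Coprime A.index) : A = ⊥ := by
  have hAn : A.Normal := by
    constructor
    intro a ha g
    have h1 : g * a * g⁻¹ = a := by
      rw [(mem_center_iff.mp (hA ha) g), mul_assoc, mul_inv_cancel, mul_one]
    rw [h1]
    exact ha
  obtain ⟨K, hK⟩ := Subgroup.exists_right_complement'_of_coprime hcop
  have hsup : A ⊔ K = ⊤ := hK.sup_eq_top
  have hKn : K.Normal := by
    constructor
    intro k hk g
    obtain ⟨⟨⟨a, ha⟩, ⟨k', hk'⟩⟩, hak⟩ := hK.2 g
    have hak' : a * k' = g := hak
    subst hak'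
    have hac : ∀ x : G, a * x = x * a := fun x => (mem_center_iff.mp (hA ha) x).symm
    have h1 : a * k' * k * (a * k')⁻¹ = k' * k * k'⁻¹ := by
      calc a * k' * k * (a * k')⁻¹ = a * (k' * k * k'⁻¹) * a⁻¹ := by group
        _ = k' * k * k'⁻¹ * a * a⁻¹ := by rw [hac]
        _ = k' * k * k'⁻¹ := by group
    rw [h1]
    exact K.mul_mem (K.mul_mem hk' hk) (K.inv_mem hk')
  have hcomm : IsMulCommutative A :=
    ⟨⟨fun a b => Subtype.ext (mem_center_iff.mp (hA b.2) a)⟩⟩
  exact h.nodf A K hAn hKn (disjoint_iff.mp hK.disjoint) hsup hcomm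

/-- (B0) the primes dividing `|G|` divide `m * n`. -/
theorem cs3_H.prime_dvd_card (h : cs3_H G m n) {r : ℕ} (hr : r.Prime) (hd : r ∣ Nat.card G) :
    r ∣ m ∨ r ∣ n := by
  by_contra hcon
  push Not at hcon
  obtain ⟨hrm, hrn⟩ := hcon
  have : Fact r.Prime := ⟨hr⟩
  have hall : ∀ y : G, ¬ r ∣ idx y := by
    intro y hdy
    have h1 := hdy.trans (h.idx_dvd_mn y)
    rcases (Nat.Prime.dvd_mul hr).mp h1 with h2 | h2
    · exact hrm h2
    · exact hrn h2
  -- all `r`-elements are central
  have hcen : ∀ u : G, IsPEl r u → u ∈ center G := by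
    intro u hu
    obtain ⟨H, -, -, hcard, hcomm⟩ := Cfsg.Agent.Helper4.CaminaLemma.camina (K := G) r
      (fun y _ => hall y)
    have hle : H ≤ centralizer ({u} : Set G) := by
      intro y hy
      rw [mem_centralizer_singleton_iff]
      exact (hcomm y hy u hu).symm
    have h1 : idx u ∣ H.index := index_dvd_of_le hle
    have h2 : H.index = r ^ (Nat.card G).factorization r := by
      have h3 := H.card_mul_index
      rw [hcard] at h3
      have h4 := Nat.ordProj_mul_ordCompl_eq_self (Nat.card G) r
      have hpos : 0 < ordCompl[r] (Nat.card G) := Nat.ordCompl_pos r Nat.card_pos.ne'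
      apply Nat.eq_of_mul_eq_mul_left hpos
      rw [h3, mul_comm, h4]
    rw [h2] at h1
    obtain ⟨i, -, hi⟩ := (Nat.dvd_prime_pow hr).mp h1
    rw [← idx_eq_one_iff, hi]
    rcases Nat.eq_zero_or_pos i with rfl | hi0
    · rfl
    · exfalso
      exact hall u (hi ▸ dvd_pow_self r hi0.ne')
  obtain ⟨R⟩ : Nonempty (Sylow r G) := inferInstance
  have hRc : (R : Subgroup G) ≤ center G := by
    intro x hx
    exact hcen x (IsPEl.of_mem R.isPGroup' hx)
  have hcop : (Nat.card (R : Subgroup G)).Coprime (R : Subgroup G).index := by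
    rw [R.card_eq_multiplicity]
    apply Nat.Coprime.pow_left
    rw [Nat.Prime.coprime_iff_not_dvd hr]
    exact R.not_dvd_index
  have hbot := h.central_hall_eq_bot (R : Subgroup G) hRc hcop
  have h1 : Nat.card (R : Subgroup G) = 1 := by rw [hbot]; exact Subgroup.card_bot
  have h2 := R.card_eq_multiplicity
  rw [h1] at h2
  have h3 : (Nat.card G).factorization r = 0 := by
    by_contra h0
    have : 1 < r ^ (Nat.card G).factorization r := Nat.one_lt_pow h0 hr.one_lt
    omega
  have h4 : 0 < (Nat.card G).factorization r :=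
    (hr.factorization_pos_of_dvd Nat.card_pos.ne' hd)
  omega

/-- (B2) `x ∈ L`, `y` commuting with `x` of coprime order: `C(x) ≤ C(y)`. -/
theorem cs3_H.cent_le_of_L (h : cs3_H G m n) {x y : G} (hx : idx x = m * n) (hxy : Commute x y)
    (hcop : (orderOf x).Coprime (orderOf y)) :
    centralizer ({x} : Set G) ≤ centralizer ({y} : Set G) := by
  have h1 := cent_mul_of_coprime hxy hcop
  have hle : centralizer ({x * y} : Set G) ≤ centralizer ({x} : Set G) := h1 ▸ inf_le_left
  have hd : idx x ∣ idx (x * y) := index_dvd_of_le hle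
  have hpos : 0 < m * n := Nat.mul_pos h.m_pos h.n_pos
  have hidx : idx (x * y) = m * n := by
    rw [hx] at hd
    exact Nat.dvd_antisymm (h.idx_dvd_mn _) hd
  have heq : centralizer ({x * y} : Set G) = centralizer ({x} : Set G) := by
    have h3 := relIndex_mul_index hle
    rw [show (centralizer ({x * y} : Set G)).index = m * n from hidx,
      show (centralizer ({x} : Set G)).index = m * n from hx] at h3
    have h4 : (centralizer ({x * y} : Set G)).relIndex (centralizer ({x} : Set G)) = 1 := by
      have : (centralizer ({x * y} : Set G)).relIndex (centralizer ({x} : Set G)) * (m * n) =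
          1 * (m * n) := by rw [one_mul]; exact h3
      exact Nat.eq_of_mul_eq_mul_right hpos this
    exact le_antisymm hle (relIndex_eq_one.mp h4)
  rw [← heq, h1]
  exact inf_le_right

/-- coprimality of the orders of an `r`-element and an `r`-regular element -/
theorem cs3_coprime_of_isPEl {r : ℕ} {y z : G} (hy : IsPEl r y) (hzr : (orderOf z).Coprime r) :
    (orderOf y).Coprime (orderOf z) := by
  obtain ⟨k, hk⟩ := hy
  rw [hk]
  exact Nat.Coprime.pow_left _ hzr.symm

/-- (B3) `y ∈ S` an `r`-element, `z ∈ C(y)` `r`-regular: the `C(y)`-class of `z` has size `1` or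
`n`. -/
theorem cs3_H.relIndex_of_S (h : cs3_H G m n) {r : ℕ} (hr : r.Prime) {y z : G} (hy : IsPEl r y)
    (hyS : idx y = m) (hz : Commute z y) (hzr : (orderOf z).Coprime r) :
    (centralizer ({z} : Set G)).relIndex (centralizer ({y} : Set G)) = 1 ∨
      (centralizer ({z} : Set G)).relIndex (centralizer ({y} : Set G)) = n := by
  have h1 := relIndex_cent_mul hz.symm (cs3_coprime_of_isPEl hy hzr)
  rw [hyS] at h1
  have hle : centralizer ({y * z} : Set G) ≤ centralizer ({y} : Set G) := by
    rw [cent_mul_of_coprime hz.symm (cs3_coprime_of_isPEl hy hzr)]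
    exact inf_le_left
  have hd : idx y ∣ idx (y * z) := index_dvd_of_le hle
  rcases h.cs (y * z) with h2 | h2 | h2
  · exfalso
    rw [h2, hyS] at hd
    have := Nat.le_of_dvd Nat.one_pos hd
    have := h.hm
    omega
  · left
    rw [h2] at h1
    have : (centralizer ({z} : Set G)).relIndex (centralizer ({y} : Set G)) * m = 1 * m := by
      rw [one_mul]; exact h1
    exact Nat.eq_of_mul_eq_mul_right h.m_pos this
  · right
    rw [h2, mul_comm m n] at h1
    exact Nat.eq_of_mul_eq_mul_right h.m_pos h1

/-- (B3') in the situation of (B3), if `z` is not central in `C(y)` then `y * z ∈ L` -/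
theorem cs3_H.idx_mul_of_S (h : cs3_H G m n) {r : ℕ} (hr : r.Prime) {y z c : G} (hy : IsPEl r y)
    (hyS : idx y = m) (hz : Commute z y) (hzr : (orderOf z).Coprime r) (hc : Commute c y)
    (hcz : ¬ Commute c z) : idx (y * z) = m * n := by
  have h1 := relIndex_cent_mul hz.symm (cs3_coprime_of_isPEl hy hzr)
  rw [hyS] at h1
  rcases h.relIndex_of_S hr hy hyS hz hzr with h2 | h2
  · exfalso
    apply hcz
    have h3 : centralizer ({y} : Set G) ≤ centralizer ({z} : Set G) := relIndex_eq_one.mp h2
    exact mem_cent_iff.mp (h3 (mem_cent_iff.mpr hc))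
  · rw [h2] at h1
    rw [← h1, mul_comm]

/-- two elements of the same class size one of whose centralizers contains the other have the same
centralizer -/
theorem cs3_H.cent_eq_of_le (h : cs3_H G m n) {x y : G} (hx : idx x = idx y)
    (hle : centralizer ({x} : Set G) ≤ centralizer ({y} : Set G)) :
    centralizer ({x} : Set G) = centralizer ({y} : Set G) := by
  have h3 := relIndex_mul_index hle
  have hpos : 0 < idx y := idx_pos y
  have h4 : (centralizer ({x} : Set G)).relIndex (centralizer ({y} : Set G)) = 1 := by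
    have : (centralizer ({x} : Set G)).relIndex (centralizer ({y} : Set G)) * idx y =
        1 * idx y := by rw [one_mul]; exact h3.trans hx
    exact Nat.eq_of_mul_eq_mul_right hpos this
  exact le_antisymm hle (relIndex_eq_one.mp h4)

/-- (B6) for a prime `q ∣ n`, a `q`-element is not in `L` iff it is central in some Sylow
`q`-subgroup. -/
theorem cs3_H.qel_not_L_iff (h : cs3_H G m n) {q : ℕ} [Fact q.Prime] (hqn : q ∣ n) {t : G}
    (ht : IsPEl q t) :
    idx t ≠ m * n ↔ ∃ Q : Sylow q G, t ∈ Q ∧ ∀ g ∈ Q, Commute g t := by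
  have hq : q.Prime := Fact.out
  constructor
  · intro hne
    have hnd : ¬ q ∣ idx t := fun hd => hne ((h.dvd_idx_iff hq hqn t).mp hd)
    obtain ⟨Q, hQ⟩ := exists_sylow_le_cent hnd
    have hc : ∀ g ∈ Q, Commute g t := fun g hg => mem_cent_iff.mp (hQ hg)
    exact ⟨Q, mem_sylow_of_centralizes Q ht (fun v hv => (hc v hv).symm), hc⟩
  · rintro ⟨Q, -, hc⟩ heq
    have hle : (Q : Subgroup G) ≤ centralizer ({t} : Set G) := fun g hg =>
      mem_cent_iff.mpr (hc g hg)
    have h1 : idx t ∣ (Q : Subgroup G).index := index_dvd_of_le hle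
    have h2 : q ∣ idx t := (h.dvd_idx_iff hq hqn t).mpr heq
    exact Q.not_dvd_index (h2.trans h1)

end Cfsg.Agent.CS3
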