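import Mathlib
import Cfsg.Agent.CS3.Defs
import Cfsg.Agent.Helper4.ConjUnion

set_option autoImplicit false

/-!
# S4284: primary parts, Sylow covering, nilpotent centralizers, the conjugation trick

General lemmas on finite groups (no class-size hypothesis).
-/

namespace Cfsg.Agent.CS3

open Subgroup
open Cfsg.Agent.CS4

variable {G : Type*} [Group G] [Finite G]

/-- an `ℓ`-element is `r`-regular for every prime `r ≠ ℓ` -/
theorem cs3_isPEl_coprime {ℓ r : ℕ} (hℓ : ℓ.Prime) (hr : r.Prime) (hne : ℓ ≠ r) {z : G}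
    (hz : IsPEl ℓ z) : (orderOf z).Coprime r := by
  obtain ⟨k, hk⟩ := hz
  rw [hk]
  exact Nat.Coprime.pow_left k ((Nat.coprime_primes hℓ hr).mpr hne)

/-- an element of a subgroup generated by an element commuting with `a` commutes with `a` -/
theorem cs3_commute_of_mem_zpowers {a g g' : G} (h : Commute a g) (hg' : g' ∈ zpowers g) :
    Commute a g' := by
  obtain ⟨k, rfl⟩ := mem_zpowers_iff.mp hg'
  exact h.zpow_right k

/-- (A8) if `a` does not commute with `g`, it does not commute with some primary part of `g`. -/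
theorem cs3_exists_primary_not_commute {a g : G} (hag : ¬ Commute a g) :
    ∃ ℓ : ℕ, ℓ.Prime ∧ ℓ ∣ orderOf g ∧ ∃ g' ∈ zpowers g, IsPEl ℓ g' ∧ ¬ Commute a g' := by
  have key : ∀ (N : ℕ) (g : G), orderOf g = N → ¬ Commute a g →
      ∃ ℓ : ℕ, ℓ.Prime ∧ ℓ ∣ orderOf g ∧ ∃ g' ∈ zpowers g, IsPEl ℓ g' ∧ ¬ Commute a g' := by
    intro N
    induction N using Nat.strong_induction_on with
    | _ N ih =>
      intro g hN hg
      have hg1 : orderOf g ≠ 1 := by
        intro h1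
        rw [orderOf_eq_one_iff] at h1
        exact hg (h1 ▸ Commute.one_right a)
      obtain ⟨r, hr, hrd⟩ := Nat.exists_prime_and_dvd hg1
      obtain ⟨c₁, c₂, hc₁, hc₂, hk, hc₂r, hc⟩ := Cfsg.Agent.Helper4.ItoTwo.exists_parts r hr g
      by_cases h1 : Commute a c₁
      · have h2 : ¬ Commute a c₂ := by
          intro h2
          exact hg (hc ▸ h1.mul_right h2)
        have hd : orderOf c₂ ∣ orderOf g := by
          obtain ⟨j, rfl⟩ := mem_zpowers_iff.mp hc₂
          exact orderOf_dvd_of_pow_eq_one (by rw [← zpow_natCast, ← zpow_mul, mul_comm, zpow_mul,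
            zpow_natCast, pow_orderOf_eq_one, one_zpow])
        have hlt : orderOf c₂ < N := by
          have hne : orderOf c₂ ≠ orderOf g := fun he => hc₂r (he ▸ hrd)
          rw [← hN]
          exact lt_of_le_of_ne (Nat.le_of_dvd (orderOf_pos g) hd) hne
        obtain ⟨ℓ, hℓ, hℓd, g', hg', hg'ℓ, hg'c⟩ := ih _ hlt c₂ rfl h2
        exact ⟨ℓ, hℓ, hℓd.trans hd, g', (zpowers_le.mpr hc₂) hg', hg'ℓ, hg'c⟩
      · exact ⟨r, hr, hrd, c₁, hc₁, hk, h1⟩
  exact key _ g rfl hag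

/-- (A9) a subgroup `D` with `|H : H ⊓ D|` divisible by no prime contains `H` -/
theorem cs3_le_of_relIndex (D H : Subgroup G) (hp : ∀ ℓ : ℕ, ℓ.Prime → ¬ ℓ ∣ D.relIndex H) :
    H ≤ D := by
  by_contra hle
  have h1 : D.relIndex H ≠ 1 := fun h1 => hle (relIndex_eq_one.mp h1)
  obtain ⟨ℓ, hℓ, hd⟩ := Nat.exists_prime_and_dvd h1
  exact hp ℓ hℓ hd

/-- (A9') if `D` contains all `ℓ`-elements of `H` then `ℓ ∤ |H : H ⊓ D|`. -/
theorem cs3_not_dvd_relIndex {ℓ : ℕ} [Fact ℓ.Prime] (D H : Subgroup G)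
    (hc : ∀ z ∈ H, IsPEl ℓ z → z ∈ D) : ¬ ℓ ∣ D.relIndex H := by
  obtain ⟨T⟩ : Nonempty (Sylow ℓ H) := inferInstance
  have hle : (T : Subgroup H) ≤ D.subgroupOf H := by
    intro z hz
    rw [mem_subgroupOf]
    have hzs : IsPEl ℓ (z : G) := by
      obtain ⟨k, hk⟩ := IsPEl.of_mem T.isPGroup' hz
      exact ⟨k, by rw [← hk, Subgroup.orderOf_coe]⟩
    exact hc (z : G) z.2 hzs
  intro hd
  have h1 : (D.subgroupOf H).index ∣ (T : Subgroup H).index := index_dvd_of_le hle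
  exact T.not_dvd_index (hd.trans h1)

/-- (A9'') if `D ⊓ H` contains a Sylow `ℓ`-subgroup of `G` then `ℓ ∤ |H : H ⊓ D|` -/
theorem cs3_not_dvd_relIndex_of_sylow {ℓ : ℕ} [Fact ℓ.Prime] (D H : Subgroup G) (Q : Sylow ℓ G)
    (hD : (Q : Subgroup G) ≤ D) (hH : (Q : Subgroup G) ≤ H) : ¬ ℓ ∣ D.relIndex H := by
  intro hd
  have h1 : (D ⊓ H).relIndex H * H.index = (D ⊓ H).index := relIndex_mul_index inf_le_right
  rw [inf_relIndex_right] at h1
  have h2 : (D ⊓ H).index ∣ (Q : Subgroup G).index := index_dvd_of_le (le_inf hD hH)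
  have h3 : ℓ ∣ (D ⊓ H).index := by
    rw [← h1]
    exact hd.mul_right _
  exact Q.not_dvd_index (h3.trans h2)

/-- a `q`-element of a subgroup `H` that contains a Sylow `q`-subgroup of `G` lies in a Sylow
`q`-subgroup of `G` contained in `H`. -/
theorem cs3_exists_sylow_mem {q : ℕ} [hq : Fact q.Prime] (H : Subgroup G) (Q₀ : Sylow q G)
    (hQ₀ : (Q₀ : Subgroup G) ≤ H) {u : G} (hu : u ∈ H) (huq : IsPEl q u) :
    ∃ Q : Sylow q G, (Q : Subgroup G) ≤ H ∧ u ∈ Q := by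
  have hu' : IsPEl q (⟨u, hu⟩ : H) := by
    obtain ⟨k, hk⟩ := huq
    exact ⟨k, by rw [Subgroup.orderOf_mk]; exact hk⟩
  obtain ⟨T, hT⟩ := IsPGroup.exists_le_sylow hu'.isPGroup_zpowers
  have hfac : (Nat.card H).factorization q = (Nat.card G).factorization q := by
    apply le_antisymm
    · exact (Nat.factorization_le_iff_dvd Nat.card_pos.ne' Nat.card_pos.ne').mpr
        (Subgroup.card_subgroup_dvd_card H) q
    · have h1 : Nat.card (Q₀ : Subgroup G) ∣ Nat.card H := Subgroup.card_dvd_of_le hQ₀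
      rw [Q₀.card_eq_multiplicity] at h1
      exact (hq.out.pow_dvd_iff_le_factorization Nat.card_pos.ne').mp h1
  have hcard : Nat.card ((T : Subgroup H).map H.subtype) = q ^ (Nat.card G).factorization q := by
    rw [Subgroup.card_map_of_injective H.subtype_injective, T.card_eq_multiplicity, hfac]
  refine ⟨Sylow.ofCard _ hcard, ?_, ?_⟩
  · rw [Sylow.coe_ofCard]
    exact Subgroup.map_subtype_le _
  · show u ∈ ((Sylow.ofCard _ hcard : Sylow q G) : Subgroup G)
    rw [Sylow.coe_ofCard]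
    exact ⟨⟨u, hu⟩, hT (mem_zpowers _), rfl⟩

/-- (Nil) if all `r`-regular elements of `H` are central in `H` then `H` has a unique Sylow
`r`-subgroup. -/
theorem cs3_unique_sylow_of_central {r : ℕ} [hr : Fact r.Prime] (H : Subgroup G)
    (hc : ∀ z ∈ H, (orderOf z).Coprime r → ∀ c ∈ H, Commute c z) :
    ∃ R : Subgroup G, R ≤ H ∧ IsPGroup r R ∧ ∀ a ∈ H, IsPEl r a → a ∈ R := by
  -- the quotient of `H` by its centre is an `r`-group
  have hpq : IsPGroup r (H ⧸ center H) := by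
    intro x
    induction x using QuotientGroup.induction_on with
    | H x =>
      obtain ⟨c₁, c₂, -, hc₂, ⟨k, hk⟩, hc₂r, hcx⟩ :=
        Cfsg.Agent.Helper4.ItoTwo.exists_parts r hr.out x
      refine ⟨k, ?_⟩
      have hc₂c : c₂ ∈ center H := by
        rw [mem_center_iff]
        intro g
        have hcop : (orderOf (c₂ : G)).Coprime r := by
          rw [Subgroup.orderOf_coe]
          exact (Nat.Prime.coprime_iff_not_dvd hr.out).mpr hc₂r |>.symm
        have := hc (c₂ : G) c₂.2 hcop (g : G) g.2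
        exact Subtype.ext this.eq
      have h1 : ((x : H) : H ⧸ center H) = ((c₁ : H) : H ⧸ center H) := by
        rw [← hcx, QuotientGroup.mk_mul, (QuotientGroup.eq_one_iff c₂).mpr hc₂c, mul_one]
      rw [h1, ← QuotientGroup.mk_pow, ← hk, pow_orderOf_eq_one, QuotientGroup.mk_one]
  have hnq : Group.IsNilpotent (H ⧸ center H) := hpq.isNilpotent
  have hnil : Group.IsNilpotent H :=
    Subgroup.isNilpotent_of_ker_le_center (QuotientGroup.mk' (center H))
      (by rw [QuotientGroup.ker_mk'])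
  obtain ⟨R₀⟩ : Nonempty (Sylow r H) := inferInstance
  have hRn : (R₀ : Subgroup H).Normal := inferInstance
  refine ⟨(R₀ : Subgroup H).map H.subtype, Subgroup.map_subtype_le _, R₀.2.map _, ?_⟩
  intro a ha hap
  have ha' : IsPEl r (⟨a, ha⟩ : H) := by
    obtain ⟨k, hk⟩ := hap
    exact ⟨k, by rw [Subgroup.orderOf_mk]; exact hk⟩
  obtain ⟨T, hT⟩ := IsPGroup.exists_le_sylow ha'.isPGroup_zpowers
  have : Unique (Sylow r H) := Sylow.unique_of_normal R₀ hRn
  have hTR : T = R₀ := Subsingleton.elim _ _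
  rw [hTR] at hT
  exact ⟨⟨a, ha⟩, hT (mem_zpowers _), rfl⟩

/-- (Nil') ... and `H` is abelian if its `r`-subgroups are -/
theorem cs3_abelian_of_central {r : ℕ} [hr : Fact r.Prime] (H : Subgroup G)
    (hc : ∀ z ∈ H, (orderOf z).Coprime r → ∀ c ∈ H, Commute c z)
    (hR : ∀ R : Subgroup G, R ≤ H → IsPGroup r R → ∀ a ∈ R, ∀ b ∈ R, Commute a b) :
    ∀ c ∈ H, ∀ d ∈ H, Commute c d := by
  obtain ⟨R, hRH, hRp, hRall⟩ := cs3_unique_sylow_of_central H hc
  intro c hcH d hdH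
  by_contra hcd
  obtain ⟨ℓ, hℓ, -, d', hd', hd'ℓ, hcd'⟩ := cs3_exists_primary_not_commute hcd
  have hd'H : d' ∈ H := (zpowers_le.mpr hdH) hd'
  have hd'c : ¬ Commute d' c := fun h => hcd' h.symm
  obtain ⟨ℓ', hℓ', -, c', hc', hc'ℓ, hdc'⟩ := cs3_exists_primary_not_commute hd'c
  have hc'H : c' ∈ H := (zpowers_le.mpr hcH) hc'
  by_cases h1 : ℓ = r
  · by_cases h2 : ℓ' = r
    · subst h1
      subst h2
      exact hdc' (hR R hRH hRp d' (hRall d' hd'H hd'ℓ) c' (hRall c' hc'H hc'ℓ))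
    · exact hdc' (hc c' hc'H (cs3_isPEl_coprime hℓ' hr.out h2 hc'ℓ) d' hd'H)
  · exact hdc' (hc d' hd'H (cs3_isPEl_coprime hℓ hr.out h1 hd'ℓ) c' hc'H).symm

/-- if for two different primes the regular elements of `H` are central in `H`, then `H` is
abelian. -/
theorem cs3_abelian_of_two_primes {r₁ r₂ : ℕ} (hr₁ : r₁.Prime) (hr₂ : r₂.Prime) (hne : r₁ ≠ r₂)
    (H : Subgroup G)
    (h1 : ∀ z ∈ H, (orderOf z).Coprime r₁ → ∀ c ∈ H, Commute c z)
    (h2 : ∀ z ∈ H, (orderOf z).Coprime r₂ → ∀ c ∈ H, Commute c z) :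
    ∀ c ∈ H, ∀ d ∈ H, Commute c d := by
  intro c hcH d hdH
  by_contra hcd
  obtain ⟨ℓ, hℓ, -, d', hd', hd'ℓ, hcd'⟩ := cs3_exists_primary_not_commute hcd
  have hd'H : d' ∈ H := (zpowers_le.mpr hdH) hd'
  by_cases hℓ1 : ℓ = r₁
  · have hℓ2 : ℓ ≠ r₂ := fun h => hne (hℓ1.symm.trans h)
    exact hcd' (h2 d' hd'H (cs3_isPEl_coprime hℓ hr₂ hℓ2 hd'ℓ) c hcH)
  · exact hcd' (h1 d' hd'H (cs3_isPEl_coprime hℓ hr₁ hℓ1 hd'ℓ) c hcH)

/-- (CONJ) a proper subgroup does not meet every conjugacy class. -/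
theorem cs3_conj_cover (H : Subgroup G) (hH : H ≠ ⊤) (hcov : ∀ g : G, ∃ w : G, w⁻¹ * g * w ∈ H) :
    False := by
  obtain ⟨g, hg⟩ := Cfsg.Agent.Helper4.exists_not_mem_conj H hH
  obtain ⟨w, hw⟩ := hcov g
  exact hg w hw

end Cfsg.Agent.CS3
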