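import Mathlib
import Cfsg.Agent.CS3.Basic
import Cfsg.Agent.CS3.Prim

set_option autoImplicit false

/-!
# S4284, package (A3): the primes dividing `m`

(B5) the centre of a Sylow `p`-subgroup (`p ∣ m`) is central in `G`, `|G|_p > m_p z_p`, every element
commutes with a noncentral `p`-element; (B7) `Z₂(P)` and centralizers; (B8) Camina's lemma in the
centralizer of a noncentral `p`-element.
-/

namespace Cfsg.Agent.CS3

open Subgroup
open Cfsg.Agent.CS4

variable {G : Type*} [Group G] [Finite G] {m n : ℕ}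

/-- (B5) for `p ∣ m` the centre of a Sylow `p`-subgroup is central in `G`. -/
theorem cs3_H.center_sylow (h : cs3_H G m n) {p : ℕ} [Fact p.Prime] (hp : p ∣ m) (P : Sylow p G)
    {x : G} (hx : x ∈ P) (hc : ∀ g ∈ P, Commute g x) : x ∈ center G := by
  by_contra hxz
  have hle : (P : Subgroup G) ≤ centralizer ({x} : Set G) := fun g hg => mem_cent_iff.mpr (hc g hg)
  have h1 : idx x ∣ (P : Subgroup G).index := index_dvd_of_le hle
  have h2 : p ∣ idx x := hp.trans (h.m_dvd_idx hxz)
  exact P.not_dvd_index (h2.trans h1)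

omit [Finite G] in
/-- a central subgroup is normal -/
theorem cs3_normal_of_le_center {Q : Subgroup G} (hQ : Q ≤ center G) : Q.Normal := by
  constructor
  intro a ha g
  have h1 : g * a * g⁻¹ = a := by
    rw [(mem_center_iff.mp (hQ ha) g), mul_assoc, mul_inv_cancel, mul_one]
  rw [h1]
  exact ha

/-- the Sylow `p`-subgroup of the centre, as a subgroup of `G` -/
theorem cs3_exists_central_part (p : ℕ) [Fact p.Prime] :
    ∃ Q : Subgroup G, Q ≤ center G ∧ IsPGroup p Q ∧ Q.Normal ∧
      Nat.card Q = p ^ (Nat.card (center G)).factorization p := by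
  obtain ⟨Q₀⟩ : Nonempty (Sylow p (center G)) := inferInstance
  have hle : (Q₀ : Subgroup (center G)).map (center G).subtype ≤ center G :=
    Subgroup.map_subtype_le _
  refine ⟨(Q₀ : Subgroup (center G)).map (center G).subtype, hle, Q₀.2.map _,
    cs3_normal_of_le_center hle, ?_⟩
  rw [Subgroup.card_map_of_injective (center G).subtype_injective, Q₀.card_eq_multiplicity]

/-- a noncentral `r`-element `u`: `|G|_r ≥ r · z_r · (idx u)_r`. -/
theorem cs3_fact_of_pel {r : ℕ} [hr : Fact r.Prime] {u : G} (hu : IsPEl r u) (huz : u ∉ center G) :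
    (Nat.card (center G)).factorization r + 1 + (idx u).factorization r ≤
      (Nat.card G).factorization r := by
  obtain ⟨Q, hQz, hQp, hQn, hQc⟩ := cs3_exists_central_part (G := G) r
  have hT : IsPGroup r (Q ⊔ zpowers u : Subgroup G) :=
    hQp.to_sup_of_normal_left hu.isPGroup_zpowers
  have hTle : (Q ⊔ zpowers u : Subgroup G) ≤ centralizer ({u} : Set G) := by
    apply sup_le
    · intro z hz
      rw [mem_cent_iff]
      exact (mem_center_iff.mp (hQz hz) u).symm
    · rw [zpowers_le]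
      exact self_mem_cent u
  obtain ⟨k, hk⟩ := IsPGroup.iff_card.mp hT
  have hzk : (Nat.card (center G)).factorization r + 1 ≤ k := by
    have h1 : Nat.card Q ∣ Nat.card (Q ⊔ zpowers u : Subgroup G) :=
      Subgroup.card_dvd_of_le le_sup_left
    rw [hQc, hk] at h1
    have h2 := (Nat.pow_dvd_pow_iff_le_right hr.out.one_lt).mp h1
    rcases Nat.lt_or_ge ((Nat.card (center G)).factorization r) k with h3 | h3
    · exact h3
    · exfalso
      have h4 : k = (Nat.card (center G)).factorization r := le_antisymm h3 h2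
      have h5 : Q = Q ⊔ zpowers u := by
        apply Subgroup.eq_of_le_of_card_ge le_sup_left
        rw [hQc, hk, h4]
      have h6 : u ∈ Q := by
        rw [h5]
        exact (le_sup_right : zpowers u ≤ Q ⊔ zpowers u) (mem_zpowers u)
      exact huz (hQz h6)
  have h7 := card_pgroup_cent_dvd (Nat.ordProj_dvd (idx u) r) _ hT hTle
  rw [hk, ← pow_add] at h7
  have h8 := (Nat.pow_dvd_pow_iff_le_right hr.out.one_lt).mp h7
  omega

/-- if `|G|_r ≥ r · z_r · (idx g)_r` then `g` commutes with a noncentral `r`-element. -/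
theorem cs3_exists_rel_of_fact {r : ℕ} [hr : Fact r.Prime] (g : G)
    (hle : (Nat.card (center G)).factorization r + 1 + (idx g).factorization r ≤
      (Nat.card G).factorization r) :
    ∃ a : G, IsPEl r a ∧ a ∉ center G ∧ Commute a g := by
  by_contra hcon
  push Not at hcon
  have hidx : idx g = r ^ (idx g).factorization r * ordCompl[r] (idx g) :=
    (Nat.ordProj_mul_ordCompl_eq_self (idx g) r).symm
  have hN : ¬ r ∣ ordCompl[r] (idx g) := Nat.not_dvd_ordCompl hr.out (idx_ne_zero g)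
  obtain ⟨S, hSp, hSle, hScard⟩ := exists_pgroup_cent hidx hN
  have hSz : S ≤ center G := by
    intro a ha
    by_contra haz
    exact hcon a (IsPEl.of_mem hSp ha) haz (mem_cent_iff.mp (hSle ha))
  obtain ⟨k, hk⟩ := IsPGroup.iff_card.mp hSp
  have h1 : Nat.card S ∣ Nat.card (center G) := Subgroup.card_dvd_of_le hSz
  rw [hk] at h1
  have h2 : k ≤ (Nat.card (center G)).factorization r :=
    (hr.out.pow_dvd_iff_le_factorization Nat.card_pos.ne').mp h1
  rw [hk, ← pow_add] at hScard
  have h3 := Nat.pow_right_injective hr.out.two_le hScard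
  omega

/-- (B5), exponent form: `z_p + 1 + m_p ≤ |G|_p`. -/
theorem cs3_H.fact_lt (h : cs3_H G m n) {p : ℕ} [hp' : Fact p.Prime] (hp : p ∣ m) :
    (Nat.card (center G)).factorization p + 1 + m.factorization p ≤
      (Nat.card G).factorization p := by
  obtain ⟨P⟩ : Nonempty (Sylow p G) := inferInstance
  have hex : ∃ x ∈ P, x ∉ center G := by
    by_contra hcon
    push Not at hcon
    obtain ⟨g, hg⟩ := h.exm
    have hle : (P : Subgroup G) ≤ centralizer ({g} : Set G) := by
      intro y hy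
      rw [mem_cent_iff]
      exact (mem_center_iff.mp (hcon y hy) g).symm
    have h1 : idx g ∣ (P : Subgroup G).index := index_dvd_of_le hle
    rw [hg] at h1
    exact P.not_dvd_index (hp.trans h1)
  obtain ⟨x, hxP, hxz⟩ := hex
  have h1 := cs3_fact_of_pel (IsPEl.of_mem P.2 hxP) hxz
  rwa [h.factorization_idx hp'.out hp hxz] at h1

/-- (B5) `|P| > m_p z_p`. -/
theorem cs3_H.card_sylow_gt (h : cs3_H G m n) {p : ℕ} [hp' : Fact p.Prime] (hp : p ∣ m) :
    p ^ m.factorization p * p ^ (Nat.card (center G)).factorization p <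
      p ^ (Nat.card G).factorization p := by
  rw [← pow_add]
  apply Nat.pow_lt_pow_right hp'.out.one_lt
  have := h.fact_lt hp
  omega

/-- (B5) every element commutes with a noncentral `p`-element (`p ∣ m`). -/
theorem cs3_H.exists_pel_commute (h : cs3_H G m n) {p : ℕ} [hp' : Fact p.Prime] (hp : p ∣ m)
    (g : G) : ∃ a : G, IsPEl p a ∧ a ∉ center G ∧ Commute a g := by
  apply cs3_exists_rel_of_fact g
  have h1 := h.fact_lt hp
  have h2 : (idx g).factorization p ≤ m.factorization p := by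
    by_cases hg : g ∈ center G
    · rw [(idx_eq_one_iff g).mpr hg]
      simp
    · rw [h.factorization_idx hp'.out hp hg]
  omega

/-- the same for an arbitrary prime `r`, given a noncentral `r`-element `u₀ ∈ L`. -/
theorem cs3_H.exists_rel_commute (h : cs3_H G m n) {r : ℕ} [Fact r.Prime] {u₀ : G}
    (hu₀ : IsPEl r u₀) (hu₀L : idx u₀ = m * n) (g : G) :
    ∃ a : G, IsPEl r a ∧ a ∉ center G ∧ Commute a g := by
  apply cs3_exists_rel_of_fact g
  have hu₀z : u₀ ∉ center G := by
    rw [← idx_eq_one_iff, hu₀L]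
    have := h.m_lt_mn
    have := h.hm
    omega
  have h1 := cs3_fact_of_pel hu₀ hu₀z
  have h2 : (idx g).factorization r ≤ (idx u₀).factorization r := by
    rw [hu₀L]
    exact (Nat.factorization_le_iff_dvd (idx_ne_zero g)
      (Nat.mul_ne_zero h.m_pos.ne' h.n_pos.ne')).mpr (h.idx_dvd_mn g) r
  omega

/-- (B7) for `u ∈ Z₂(P)`, `P` normalizes `C(u)`. -/
theorem cs3_H.conj_mem_cent (h : cs3_H G m n) {p : ℕ} [Fact p.Prime] (hp : p ∣ m) (P : Sylow p G)
    {u : G} (hu : u ∈ P) (hu2 : ∀ g ∈ P, ∀ g' ∈ P, Commute g' (u * g * u⁻¹ * g⁻¹))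
    {x c : G} (hx : x ∈ P) (hc : Commute c u) : Commute (x * c * x⁻¹) u := by
  have hwP : u * x⁻¹ * u⁻¹ * x⁻¹⁻¹ ∈ P :=
    mul_mem (mul_mem (mul_mem hu (inv_mem hx)) (inv_mem hu)) (inv_mem (inv_mem hx))
  have hwz : u * x⁻¹ * u⁻¹ * x⁻¹⁻¹ ∈ center G :=
    h.center_sylow hp P hwP (fun g hg => hu2 x⁻¹ (inv_mem hx) g hg)
  have h1 : x⁻¹ * u * x = (u * x⁻¹ * u⁻¹ * x⁻¹⁻¹)⁻¹ * u := by group
  have h2 : Commute c ((u * x⁻¹ * u⁻¹ * x⁻¹⁻¹)⁻¹ * u) :=
    Commute.mul_right (Commute.inv_right (mem_center_iff.mp hwz c)) hc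
  rw [← h1] at h2
  show x * c * x⁻¹ * u = u * (x * c * x⁻¹)
  calc x * c * x⁻¹ * u = x * (c * (x⁻¹ * u * x)) * x⁻¹ := by group
    _ = x * ((x⁻¹ * u * x) * c) * x⁻¹ := by rw [h2.eq]
    _ = u * (x * c * x⁻¹) := by group

/-- the hypothesis of Camina's lemma in `C(x)`, `x` a noncentral `p`-element, `p ∣ m`. -/
theorem cs3_H.camina_hyp (h : cs3_H G m n) {p : ℕ} [hp' : Fact p.Prime] (hp : p ∣ m) {x : G}
    (hx : IsPEl p x) (hxz : x ∉ center G) :
    ∀ y : ↥(centralizer ({x} : Set G)), ¬ p ∣ orderOf y →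
      ¬ p ∣ (centralizer ({y} : Set ↥(centralizer ({x} : Set G)))).index := by
  intro y hy
  rw [index_centralizer_subtype]
  have hxy : Commute x (y : G) := (mem_cent_iff.mp y.2).symm
  have hcop : (orderOf x).Coprime (orderOf (y : G)) := by
    obtain ⟨k, hk⟩ := hx
    rw [hk, Subgroup.orderOf_coe]
    exact Nat.Coprime.pow_left _ ((Nat.Prime.coprime_iff_not_dvd hp'.out).mpr hy)
  have h1 := relIndex_cent_mul hxy hcop
  have hxyz : x * (y : G) ∉ center G := by
    intro hz
    rw [← idx_eq_one_iff] at hz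
    rw [hz] at h1
    have h2 : idx x = 1 := Nat.eq_one_of_mul_eq_one_left h1
    exact hxz ((idx_eq_one_iff x).mp h2)
  have e1 := h.factorization_idx hp'.out hp hxz
  have e2 := h.factorization_idx hp'.out hp hxyz
  have hne : (centralizer ({(y : G)} : Set G)).relIndex (centralizer ({x} : Set G)) ≠ 0 := by
    intro h0
    rw [h0, zero_mul] at h1
    exact idx_ne_zero _ h1.symm
  intro hd
  have h3 : 1 ≤ ((centralizer ({(y : G)} : Set G)).relIndex
      (centralizer ({x} : Set G))).factorization p :=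
    (hp'.out.dvd_iff_one_le_factorization hne).mp hd
  have h4 := congrArg (fun t => t.factorization p) h1
  simp only [Nat.factorization_mul hne (idx_ne_zero x), Finsupp.add_apply] at h4
  omega

/-- (B8) Camina: for a noncentral `p`-element `x`, `p ∣ m`, the `p`-elements of `C(x)` commute with
the `p`-regular elements of `C(x)`. -/
theorem cs3_H.camina_commute (h : cs3_H G m n) {p : ℕ} [hp' : Fact p.Prime] (hp : p ∣ m)
    {x a b : G} (hx : IsPEl p x) (hxz : x ∉ center G) (ha : Commute a x) (hap : IsPEl p a)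
    (hb : Commute b x) (hbp : (orderOf b).Coprime p) : Commute a b := by
  obtain ⟨H, -, hmem, -, hcomm⟩ := Cfsg.Agent.Helper4.CaminaLemma.camina
    (K := ↥(centralizer ({x} : Set G))) p (h.camina_hyp hp hx hxz)
  have hbH : (⟨b, mem_cent_iff.mpr hb⟩ : ↥(centralizer ({x} : Set G))) ∈ H := by
    rw [hmem, Subgroup.orderOf_mk]
    exact (Nat.Prime.coprime_iff_not_dvd hp'.out).mp hbp.symm
  obtain ⟨k, hk⟩ := hap
  have h1 := hcomm _ hbH ⟨a, mem_cent_iff.mpr ha⟩ ⟨k, by rw [Subgroup.orderOf_mk]; exact hk⟩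
  exact congrArg Subtype.val h1

/-- (B8') ... and `C(x)` has a unique Sylow `p`-subgroup. -/
theorem cs3_H.camina_sylow (h : cs3_H G m n) {p : ℕ} [hp' : Fact p.Prime] (hp : p ∣ m) {x : G}
    (hx : IsPEl p x) (hxz : x ∉ center G) :
    ∃ P₁ : Subgroup G, P₁ ≤ centralizer ({x} : Set G) ∧ IsPGroup p P₁ ∧
      ∀ a : G, Commute a x → IsPEl p a → a ∈ P₁ := by
  obtain ⟨H, -, -, hcard, hcomm⟩ := Cfsg.Agent.Helper4.CaminaLemma.camina
    (K := ↥(centralizer ({x} : Set G))) p (h.camina_hyp hp hx hxz)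
  obtain ⟨P₀⟩ : Nonempty (Sylow p ↥(centralizer ({x} : Set G))) := inferInstance
  -- the normalizer of `P₀` contains `P₀` and `H`
  have hP₀N : (P₀ : Subgroup ↥(centralizer ({x} : Set G))) ≤
      normalizer ((P₀ : Subgroup ↥(centralizer ({x} : Set G))) : Set ↥(centralizer ({x} : Set G))) :=
    le_normalizer
  have hHN : H ≤
      normalizer ((P₀ : Subgroup ↥(centralizer ({x} : Set G))) : Set ↥(centralizer ({x} : Set G))) := by
    rw [le_normalizer_iff]
    intro y hy s hs
    obtain ⟨j, hj⟩ := IsPEl.of_mem P₀.2 hs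
    have h1 := hcomm y hy s ⟨j, hj⟩
    have h2 : y * s * y⁻¹ = s := by
      rw [← h1, mul_assoc, mul_inv_cancel, mul_one]
    rw [h2]
    exact hs
  have hn : (P₀ : Subgroup ↥(centralizer ({x} : Set G))).Normal := by
    rw [← normalizer_eq_top_iff, ← Subgroup.card_eq_iff_eq_top]
    apply Nat.dvd_antisymm (Subgroup.card_subgroup_dvd_card _)
    have h1 := Subgroup.card_dvd_of_le hP₀N
    have h2 := Subgroup.card_dvd_of_le hHN
    rw [P₀.card_eq_multiplicity] at h1
    rw [hcard] at h2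
    have h3 : (p ^ (Nat.card ↥(centralizer ({x} : Set G))).factorization p).Coprime
        (ordCompl[p] (Nat.card ↥(centralizer ({x} : Set G)))) :=
      Nat.Coprime.pow_left _ (Nat.coprime_ordCompl hp'.out Nat.card_pos.ne')
    have h4 := Nat.Coprime.mul_dvd_of_dvd_of_dvd h3 h1 h2
    rwa [Nat.ordProj_mul_ordCompl_eq_self] at h4
  refine ⟨(P₀ : Subgroup ↥(centralizer ({x} : Set G))).map (centralizer ({x} : Set G)).subtype,
    Subgroup.map_subtype_le _, P₀.2.map _, ?_⟩
  intro a ha hap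
  have ha' : IsPEl p (⟨a, mem_cent_iff.mpr ha⟩ : ↥(centralizer ({x} : Set G))) := by
    obtain ⟨k, hk⟩ := hap
    exact ⟨k, by rw [Subgroup.orderOf_mk]; exact hk⟩
  obtain ⟨T, hT⟩ := IsPGroup.exists_le_sylow ha'.isPGroup_zpowers
  have : Unique (Sylow p ↥(centralizer ({x} : Set G))) := Sylow.unique_of_normal P₀ hn
  have hTR : T = P₀ := Subsingleton.elim _ _
  rw [hTR] at hT
  exact ⟨⟨a, mem_cent_iff.mpr ha⟩, hT (mem_zpowers _), rfl⟩

end Cfsg.Agent.CS3
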