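import Mathlib
import Cfsg.Agent.CS3.Basic
import Cfsg.Agent.CS3.Prim
import Cfsg.Agent.Helper4.AbelPComplC

set_option autoImplicit false

/-!
# S4284: the types of the centralizers of the elements of class size `m` (Lemma 6)
-/

namespace Cfsg.Agent.CS3

open Subgroup
open Cfsg.Agent.CS4

variable {G : Type*} [Group G] [Finite G] {m n : ℕ}

/-- the hypothesis of `CS4.ppow_of_two_primes` for an element of class size `m` -/
theorem cs3_H.idx_mul_cases (h : cs3_H G m n) {r : ℕ} {y : G} (hy : IsPEl r y) (hyS : idx y = m) :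
    ∀ z ∈ centralizer ({y} : Set G), (orderOf z).Coprime r →
      idx (y * z) = idx y ∨ idx (y * z) = idx y * n := by
  intro z hz hzr
  have hzy : Commute z y := mem_cent_iff.mp hz
  have hle : centralizer ({y * z} : Set G) ≤ centralizer ({y} : Set G) := by
    rw [cent_mul_of_coprime hzy.symm (cs3_coprime_of_isPEl hy hzr)]
    exact inf_le_left
  have hd : idx y ∣ idx (y * z) := index_dvd_of_le hle
  rw [hyS] at hd ⊢
  rcases h.cs (y * z) with h2 | h2 | h2
  · exfalso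
    rw [h2] at hd
    have := Nat.le_of_dvd Nat.one_pos hd
    have := h.hm
    omega
  · exact Or.inl h2
  · exact Or.inr h2

/-- Lemma 6: the trichotomy. -/
theorem cs3_H.tricho (h : cs3_H G m n) {r : ℕ} [hr : Fact r.Prime] {y : G} (hy : IsPEl r y)
    (hyS : idx y = m) : cs3_Ta r y ∨ (∃ k : ℕ, n = r ^ k) ∨ ∃ t : ℕ, cs3_Tc n r t y := by
  by_cases hTa : cs3_Ta r y
  · exact Or.inl hTa
  by_cases hpow : ∃ k : ℕ, n = r ^ k
  · exact Or.inr (Or.inl hpow)
  right; right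
  unfold cs3_Ta at hTa
  push Not at hTa
  obtain ⟨z, c, hzy, hcy, hzr, hcz⟩ := hTa
  obtain ⟨t, ht, htd, z', hz', hz't, hcz'⟩ := cs3_exists_primary_not_commute hcz
  have htr : t ≠ r := by
    intro he
    subst he
    have h1 : t ∣ Nat.gcd (orderOf z) t := Nat.dvd_gcd htd dvd_rfl
    rw [hzr] at h1
    exact ht.one_lt.ne' (Nat.dvd_one.mp h1)
  have hz'y : Commute z' y := (cs3_commute_of_mem_zpowers hzy.symm hz').symm
  have hz'r : (orderOf z').Coprime r := cs3_isPEl_coprime ht hr.out htr hz't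
  -- (K1) for the other primes all elements are central in `C(y)`
  have K1 : ∀ ℓ : ℕ, ℓ.Prime → ℓ ≠ r → ℓ ≠ t →
      ∀ z'' c'' : G, Commute z'' y → Commute c'' y → IsPEl ℓ z'' → Commute c'' z'' := by
    intro ℓ hℓ hℓr hℓt z'' c'' hz''y hc''y hz''ℓ
    by_contra hcon
    apply hpow
    exact ppow_of_two_primes hy n (h.idx_mul_cases hy hyS) ht hℓ (Ne.symm hℓt) htr hℓr
      (mem_cent_iff.mpr hz'y) (mem_cent_iff.mpr hz''y) hz't hz''ℓ
      ⟨c, mem_cent_iff.mpr hcy, hcz'⟩ ⟨c'', mem_cent_iff.mpr hc''y, hcon⟩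
  -- the `C(y)`-class of `z'` has size `n`
  have hrel : (centralizer ({z'} : Set G)).relIndex (centralizer ({y} : Set G)) = n := by
    rcases h.relIndex_of_S hr.out hy hyS hz'y hz'r with h2 | h2
    · exfalso
      apply hcz'
      have h3 : centralizer ({y} : Set G) ≤ centralizer ({z'} : Set G) := relIndex_eq_one.mp h2
      exact mem_cent_iff.mp (h3 (mem_cent_iff.mpr hcy))
    · exact h2
  -- (K2) `n` is an `{r, t}`-number
  have K2 : ∀ ℓ : ℕ, ℓ.Prime → ℓ ∣ n → ℓ = r ∨ ℓ = t := by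
    intro ℓ hℓ hℓn
    by_contra hcon
    push Not at hcon
    have : Fact ℓ.Prime := ⟨hℓ⟩
    have h1 := not_dvd_of_central_prime (x := y) (g := z') (mem_cent_iff.mpr hz'y) (s := ℓ)
      (fun y' hy' hy'ℓ c' hc' =>
        K1 ℓ hℓ hcon.1 hcon.2 y' c' (mem_cent_iff.mp hy') (mem_cent_iff.mp hc') hy'ℓ)
    rw [hrel] at h1
    exact h1 hℓn
  -- (K3) `t ∣ n`
  have K3 : t ∣ n := by
    by_contra htn
    apply hpow
    refine ⟨n.primeFactorsList.length, ?_⟩
    apply Nat.eq_prime_pow_of_unique_prime_dvd h.n_pos.ne'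
    intro d hd hdn
    rcases K2 d hd hdn with h1 | h1
    · exact h1
    · exact absurd (h1 ▸ hdn) htn
  exact ⟨t, ht, htr, K3, K2, ⟨z', c, hz'y, hcy, hz't, hcz'⟩, K1⟩

/-- in types (6a), (6b) the `r`-regular elements of `C(y)` have `r`-power class size in `C(y)` -/
theorem cs3_H.pRegPow_cent (h : cs3_H G m n) {r : ℕ} [hr : Fact r.Prime] {y : G} (hy : IsPEl r y)
    (hyS : idx y = m) (hab : cs3_Ta r y ∨ ∃ k : ℕ, n = r ^ k) :
    Cfsg.Agent.Helper4.AbelPCompl.PRegPow r ↥(centralizer ({y} : Set G)) := by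
  intro x hx
  rw [index_centralizer_subtype]
  have hxr : (orderOf (x : G)).Coprime r := by rwa [Subgroup.orderOf_coe]
  have hxy : Commute (x : G) y := mem_cent_iff.mp x.2
  rcases hab with hTa | ⟨k, hk⟩
  · refine ⟨0, ?_⟩
    rw [pow_zero, relIndex_eq_one]
    intro c hc
    exact mem_cent_iff.mpr (hTa (x : G) c hxy (mem_cent_iff.mp hc) hxr)
  · rcases h.relIndex_of_S hr.out hy hyS hxy hxr with h2 | h2
    · exact ⟨0, by rw [h2, pow_zero]⟩
    · exact ⟨k, by rw [h2, hk]⟩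

/-- in types (6a), (6b) the centralizer has an abelian `r`-complement. -/
theorem cs3_H.Tb_compl (h : cs3_H G m n) {r : ℕ} [hr : Fact r.Prime] {y : G} (hy : IsPEl r y)
    (hyS : idx y = m) (hab : cs3_Ta r y ∨ ∃ k : ℕ, n = r ^ k) :
    ∃ E : Subgroup G, E ≤ centralizer ({y} : Set G) ∧ (∀ a ∈ E, ∀ b ∈ E, Commute a b) ∧
      ¬ r ∣ Nat.card E ∧ ∃ k : ℕ, E.relIndex (centralizer ({y} : Set G)) = r ^ k := by
  have h' := h.pRegPow_cent hy hyS hab
  have hsol := Cfsg.Agent.Helper4.AbelPCompl.isSolvable_of_pRegPow hr.out h'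
  obtain ⟨E₀, hEp, hEidx⟩ := Cfsg.Agent.Helper4.AbelPCompl.exists_pCompl
    (G := ↥(centralizer ({y} : Set G))) hr.out
  have habE := Cfsg.Agent.Helper4.AbelPCompl.hall_abelian hr.out h' E₀ hEp hEidx
  refine ⟨E₀.map (centralizer ({y} : Set G)).subtype, Subgroup.map_subtype_le _, ?_, ?_, ?_⟩
  · rintro _ ⟨a, ha, rfl⟩ _ ⟨b, hb, rfl⟩
    have := habE a ha b hb
    exact congrArg Subtype.val this
  · rw [Subgroup.card_map_of_injective (Subgroup.subtype_injective _)]
    exact hEp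
  · obtain ⟨k, hk⟩ := hEidx
    refine ⟨k, ?_⟩
    rw [← hk, Subgroup.relIndex, Subgroup.subgroupOf,
      Subgroup.comap_map_eq_self_of_injective (Subgroup.subtype_injective _)]

/-- in types (6a), (6b) every `s`-subgroup of `C(y)`, `s ≠ r`, is abelian. -/
theorem cs3_H.Tb_abelian (h : cs3_H G m n) {r : ℕ} [hr : Fact r.Prime] {y : G} (hy : IsPEl r y)
    (hyS : idx y = m) (hab : cs3_Ta r y ∨ ∃ k : ℕ, n = r ^ k) {s : ℕ} [hs : Fact s.Prime]
    (hsr : s ≠ r) (R : Subgroup G) (hR : IsPGroup s R) (hle : R ≤ centralizer ({y} : Set G)) :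
    ∀ a ∈ R, ∀ b ∈ R, Commute a b := by
  have h' := h.pRegPow_cent hy hyS hab
  have hsol := Cfsg.Agent.Helper4.AbelPCompl.isSolvable_of_pRegPow hr.out h'
  obtain ⟨E₀, hEp, k, hEidx⟩ := Cfsg.Agent.Helper4.AbelPCompl.exists_pCompl
    (G := ↥(centralizer ({y} : Set G))) hr.out
  have habE := Cfsg.Agent.Helper4.AbelPCompl.hall_abelian hr.out h' E₀ hEp ⟨k, hEidx⟩
  -- a Sylow `s`-subgroup of `E₀` is a Sylow `s`-subgroup of `C(y)`
  obtain ⟨U⟩ : Nonempty (Sylow s E₀) := inferInstance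
  have hfac : (Nat.card E₀).factorization s =
      (Nat.card ↥(centralizer ({y} : Set G))).factorization s := by
    have h1 := E₀.card_mul_index
    rw [hEidx] at h1
    have h2 : (r ^ k).factorization s = 0 :=
      Nat.factorization_eq_zero_of_not_dvd (fun hd =>
        hsr ((Nat.prime_dvd_prime_iff_eq hs.out hr.out).mp (hs.out.dvd_of_dvd_pow hd)))
    rw [← h1, Nat.factorization_mul Nat.card_pos.ne' (pow_ne_zero _ hr.out.ne_zero),
      Finsupp.add_apply, h2, add_zero]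
  have hcardU : Nat.card ((U : Subgroup E₀).map E₀.subtype) =
      s ^ (Nat.card ↥(centralizer ({y} : Set G))).factorization s := by
    rw [Subgroup.card_map_of_injective E₀.subtype_injective, U.card_eq_multiplicity, hfac]
  obtain ⟨T, hT⟩ := IsPGroup.exists_le_sylow
    (hR.comap_subtype (K := centralizer ({y} : Set G)))
  obtain ⟨g, hg⟩ := MulAction.exists_smul_eq ↥(centralizer ({y} : Set G))
    (Sylow.ofCard _ hcardU) T
  have key : ∀ a : G, ∀ ha : a ∈ R, ∃ e ∈ E₀, (⟨a, hle ha⟩ : ↥(centralizer ({y} : Set G))) =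
      g * e * g⁻¹ := by
    intro a ha
    have ha' : (⟨a, hle ha⟩ : ↥(centralizer ({y} : Set G))) ∈ (T : Subgroup _) :=
      hT (by rw [Subgroup.mem_comap]; exact ha)
    rw [← hg, Sylow.coe_subgroup_smul, Subgroup.mem_smul_pointwise_iff_exists] at ha'
    obtain ⟨e, he, hea⟩ := ha'
    have he' : e ∈ ((Sylow.ofCard _ hcardU : Sylow s _) : Subgroup _) := he
    rw [Sylow.coe_ofCard] at he'
    obtain ⟨e₀, -, rfl⟩ := he'
    exact ⟨(e₀ : ↥(centralizer ({y} : Set G))), e₀.2, hea.symm⟩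
  intro a ha b hb
  obtain ⟨ea, hea, hea'⟩ := key a ha
  obtain ⟨eb, heb, heb'⟩ := key b hb
  have hc : ea * eb = eb * ea := habE ea hea eb heb
  have h1 : (⟨a, hle ha⟩ : ↥(centralizer ({y} : Set G))) * ⟨b, hle hb⟩ =
      ⟨b, hle hb⟩ * ⟨a, hle ha⟩ := by
    rw [hea', heb']
    calc g * ea * g⁻¹ * (g * eb * g⁻¹) = g * (ea * eb) * g⁻¹ := by group
      _ = g * (eb * ea) * g⁻¹ := by rw [hc]
      _ = g * eb * g⁻¹ * (g * ea * g⁻¹) := by group
  exact congrArg Subtype.val h1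

end Cfsg.Agent.CS3
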