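import Mathlib
import Cfsg.Agent.CS3.Basic
import Cfsg.Agent.CS3.Prim
import Cfsg.Agent.CS3.Types
import Cfsg.Agent.CS3.PiEl

set_option autoImplicit false

/-!
# S4284, package (C): Lemma 7 and Claim X

Commuting prime-power elements of class size `m` for different primes have the same centralizer.
-/

namespace Cfsg.Agent.CS3

open Subgroup
open Cfsg.Agent.CS4

variable {G : Type*} [Group G] [Finite G] {m n : ℕ}

/-- an element of class size `m` is not central -/
theorem cs3_H.not_center_of_S (h : cs3_H G m n) {y : G} (hyS : idx y = m) : y ∉ center G := by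
  intro hyc
  have h1 := (idx_eq_one_iff y).2 hyc
  rw [hyS] at h1
  have := h.hm
  omega

/-- a nontrivial `p`-element has order divisible by `p` -/
theorem cs3_dvd_orderOf_of_isPEl {p : ℕ} {y : G} (hy : IsPEl p y) (hy1 : y ≠ 1) :
    p ∣ orderOf y := by
  obtain ⟨k, hk⟩ := hy
  have hk0 : k ≠ 0 := by
    rintro rfl
    rw [pow_zero, orderOf_eq_one_iff] at hk
    exact hy1 hk
  rw [hk]
  exact dvd_pow_self p hk0

/-- the prime of a prime-power element of class size `m` divides `m * n` (B0) -/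
theorem cs3_H.prime_dvd_of_S (h : cs3_H G m n) {p : ℕ} (hp : p.Prime) {y : G} (hy : IsPEl p y)
    (hyS : idx y = m) : p ∣ m ∨ p ∣ n := by
  have hyz := h.not_center_of_S hyS
  have hy1 : y ≠ 1 := fun h1 => hyz (h1 ▸ one_mem _)
  exact h.prime_dvd_card hp ((cs3_dvd_orderOf_of_isPEl hy hy1).trans (orderOf_dvd_natCard y))

/-- a power of an element commuting with `y` commutes with `y` -/
theorem cs3_commute_left_of_mem_zpowers {y e e' : G} (he : Commute e y) (he' : e' ∈ zpowers e) :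
    Commute e' y :=
  (cs3_commute_of_mem_zpowers he.symm he').symm

/-- an element whose order is prime to `q` has no primary part for the prime `q` -/
theorem cs3_ne_of_dvd_of_coprime {ℓ q e : ℕ} (hℓ : ℓ.Prime) (hd : ℓ ∣ e) (hcop : e.Coprime q) :
    ℓ ≠ q := by
  rintro rfl
  exact (Nat.Prime.coprime_iff_not_dvd hℓ).1 hcop.symm hd

/-- not central in `C(y)` unless the centralizers agree -/
theorem cs3_H.exists_not_commute_of_ne (h : cs3_H G m n) {u y : G} (huS : idx u = m)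
    (hyS : idx y = m) (hne : centralizer ({u} : Set G) ≠ centralizer ({y} : Set G)) :
    ∃ c : G, Commute c y ∧ ¬ Commute c u := by
  by_contra hcon
  push Not at hcon
  have hle : centralizer ({y} : Set G) ≤ centralizer ({u} : Set G) := fun c hc =>
    mem_cent_iff.2 (hcon c (mem_cent_iff.1 hc))
  exact hne (h.cent_eq_of_le (hyS.trans huS.symm) hle).symm

/-- Lemma 7. -/
theorem cs3_H.lemma7 (h : cs3_H G m n) {p q : ℕ} [Fact p.Prime] [Fact q.Prime] (hpq : p ≠ q)
    {u y : G} (hu : IsPEl q u) (hy : IsPEl p y) (huS : idx u = m) (hyS : idx y = m)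
    (huy : Commute u y) (hne : centralizer ({u} : Set G) ≠ centralizer ({y} : Set G)) :
    ¬ ∃ k : ℕ, n = q ^ k := by
  rintro ⟨b, hnb⟩
  have hp : p.Prime := Fact.out
  have hq : q.Prime := Fact.out
  have hb : b ≠ 0 := by
    rintro rfl
    have := h.hn
    rw [pow_zero] at hnb
    omega
  have hqn : q ∣ n := hnb ▸ dvd_pow_self q hb
  have hqm : ¬ q ∣ m := fun hd => hq.one_lt.ne' (Nat.eq_one_of_dvd_coprimes h.cop hd hqn)
  have hyz : y ∉ center G := h.not_center_of_S hyS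
  -- (1) `p ∣ m`
  have hpm : p ∣ m := by
    rcases h.prime_dvd_of_S hp hy hyS with h1 | h1
    · exact h1
    · exfalso
      rw [hnb] at h1
      exact hpq ((Nat.prime_dvd_prime_iff_eq hp hq).1 (hp.dvd_of_dvd_pow h1))
  -- (2) Camina
  have hB8 : ∀ a e : G, Commute a y → IsPEl p a → Commute e y → (orderOf e).Coprime p →
      Commute a e := fun a e ha hap he hep => h.camina_commute hpm hy hyz ha hap he hep
  -- (3) `u` is not central in `C(y)`; the type of `y` is (6c) with special prime `q`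
  obtain ⟨c₀, hc₀y, hc₀u⟩ := h.exists_not_commute_of_ne huS hyS hne
  have hcen : ∀ ℓ : ℕ, ℓ.Prime → ℓ ≠ p → ℓ ≠ q →
      ∀ z c : G, Commute z y → Commute c y → IsPEl ℓ z → Commute c z := by
    rcases h.tricho hy hyS with hTa | ⟨k, hk⟩ | ⟨t, hTc⟩
    · exact absurd (hTa u c₀ huy hc₀y (cs3_isPEl_coprime hq hp hpq.symm hu)) hc₀u
    · exfalso
      rw [hk] at hqn
      exact hpq ((Nat.prime_dvd_prime_iff_eq hq hp).1 (hq.dvd_of_dvd_pow hqn)).symm
    · obtain ⟨ht, -, htn, -, -, hcen⟩ := hTc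
      have hqt : q = t := by
        rw [hnb] at htn
        exact ((Nat.prime_dvd_prime_iff_eq ht hq).1 (ht.dvd_of_dvd_pow htn)).symm
      subst hqt
      exact hcen
  -- (4) `q`-elements of `C(y)` commute with `q`-regular elements of `C(y)`
  have h4 : ∀ a e : G, Commute a y → IsPEl q a → Commute e y → (orderOf e).Coprime q →
      Commute a e := by
    intro a e ha haq he heq
    by_contra hae
    obtain ⟨ℓ, hℓ, hℓd, e', he', he'ℓ, hae'⟩ := cs3_exists_primary_not_commute hae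
    have he'y : Commute e' y := cs3_commute_left_of_mem_zpowers he he'
    have hℓq : ℓ ≠ q := cs3_ne_of_dvd_of_coprime hℓ hℓd heq
    by_cases hℓp : ℓ = p
    · rw [hℓp] at he'ℓ
      exact hae' (hB8 e' a he'y he'ℓ ha (cs3_isPEl_coprime hq hp hpq.symm haq)).symm
    · exact hae' (hcen ℓ hℓ hℓp hℓq e' a he'y ha he'ℓ)
  -- (5) a Sylow `q`-subgroup `Q'` of `G` with `u ∈ Q' ≤ C(y)`
  obtain ⟨Q₀, hQ₀⟩ := exists_sylow_le_cent (p := q) (g := y) (by rw [hyS]; exact hqm)
  obtain ⟨Q', hQ'H, huQ'⟩ :=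
    cs3_exists_sylow_mem (centralizer ({y} : Set G)) Q₀ hQ₀ (mem_cent_iff.2 huy) hu
  -- (6) `u` is central in a Sylow `q`-subgroup `Q₂`; conjugate it to `Q'`
  obtain ⟨Q₂, huQ₂, hQ₂c⟩ := (h.qel_not_L_iff hqn hu).1 (by rw [huS]; exact h.m_lt_mn.ne)
  obtain ⟨w, hw⟩ := MulAction.exists_smul_eq G Q₂ Q'
  have hmem : ∀ g : G, g ∈ Q' ↔ w⁻¹ * g * w ∈ Q₂ := by
    intro g
    rw [← hw]
    change g ∈ ((w • Q₂ : Sylow q G) : Subgroup G) ↔ _
    rw [Sylow.coe_subgroup_smul, Subgroup.mem_pointwise_smul_iff_inv_smul_mem]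
    simp only [MulAut.smul_def, MulAut.conj_inv_apply]
    exact Iff.rfl
  set v : G := w * u * w⁻¹ with hv
  have hvq : IsPEl q v := hu.conj w
  have hvS : idx v = m := (idx_conj w u).trans huS
  have hvQ' : v ∈ Q' := by
    rw [hmem, hv]
    have : w⁻¹ * (w * u * w⁻¹) * w = u := by group
    rw [this]
    exact huQ₂
  have hQ'v : (Q' : Subgroup G) ≤ centralizer ({v} : Set G) := by
    intro g hg
    rw [mem_cent_iff]
    have h1 : Commute (w⁻¹ * g * w) u := hQ₂c _ ((hmem g).1 hg)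
    have h2 := (Commute.conj_iff w).2 h1
    have h3 : w * (w⁻¹ * g * w) * w⁻¹ = g := by group
    rw [h3] at h2
    exact h2
  have hvy : Commute v y := mem_cent_iff.1 (hQ'H hvQ')
  -- (7) `C(y) = C(v)`
  have hHD : centralizer ({y} : Set G) ≤ centralizer ({v} : Set G) := by
    apply cs3_le_of_relIndex
    intro ℓ hℓ
    by_cases hℓq : ℓ = q
    · rw [hℓq]
      exact cs3_not_dvd_relIndex_of_sylow _ _ Q' hQ'v hQ'H
    · haveI : Fact ℓ.Prime := ⟨hℓ⟩
      apply cs3_not_dvd_relIndex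
      intro z hz hzℓ
      exact mem_cent_iff.2
        (h4 v z hvy hvq (mem_cent_iff.1 hz) (cs3_isPEl_coprime hℓ hq hℓq hzℓ)).symm
  have hHeq : centralizer ({y} : Set G) = centralizer ({v} : Set G) :=
    h.cent_eq_of_le (hyS.trans hvS.symm) hHD
  -- (8) the `p`-elements of `C(y)` commute pairwise
  obtain ⟨P₁, hP₁H, hP₁p, hP₁all⟩ := h.camina_sylow hpm hy hyz
  have hP₁ab := h.Tb_abelian (r := q) hvq hvS (Or.inr ⟨b, hnb⟩) (s := p) hpq P₁ hP₁p
    (hHeq ▸ hP₁H)
  have h8 : ∀ a c : G, Commute a y → IsPEl p a → Commute c y → IsPEl p c → Commute a c :=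
    fun a c ha hap hc hcp => hP₁ab a (hP₁all a ha hap) c (hP₁all c hc hcp)
  -- (9) every `q`-regular element of `C(y)` is central in `C(y)`
  have h9 : ∀ e c : G, Commute e y → (orderOf e).Coprime q → Commute c y → Commute c e := by
    intro e c he heq hc
    by_contra hce
    obtain ⟨ℓ, hℓ, hℓd, e', he', he'ℓ, hce'⟩ := cs3_exists_primary_not_commute hce
    have he'y : Commute e' y := cs3_commute_left_of_mem_zpowers he he'
    have hℓq : ℓ ≠ q := cs3_ne_of_dvd_of_coprime hℓ hℓd heq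
    by_cases hℓp : ℓ = p
    · rw [hℓp] at he'ℓ
      have hec : ¬ Commute e' c := fun hh => hce' hh.symm
      obtain ⟨ℓ', hℓ', -, c', hc', hc'ℓ, hec'⟩ := cs3_exists_primary_not_commute hec
      have hc'y : Commute c' y := cs3_commute_left_of_mem_zpowers hc hc'
      by_cases hℓ'p : ℓ' = p
      · rw [hℓ'p] at hc'ℓ
        exact hec' (h8 e' c' he'y he'ℓ hc'y hc'ℓ)
      · exact hec' (hB8 e' c' he'y he'ℓ hc'y (cs3_isPEl_coprime hℓ' hp hℓ'p hc'ℓ))
    · exact hce' (hcen ℓ hℓ hℓp hℓq e' c he'y hc he'ℓ)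
  -- (10) conjugating back: `y` is central in `C(u)`
  have hle : centralizer ({u} : Set G) ≤ centralizer ({y} : Set G) := by
    intro d hd
    rw [mem_cent_iff] at hd ⊢
    have hconj : ∀ g : G, Commute g u → Commute (w * g * w⁻¹) y := by
      intro g hg
      have h1 : Commute (w * g * w⁻¹) v := (Commute.conj_iff w).2 hg
      exact mem_cent_iff.1 (hHeq ▸ mem_cent_iff.2 h1)
    have hy' : Commute (w * y * w⁻¹) y := hconj y huy.symm
    have hd' : Commute (w * d * w⁻¹) y := hconj d hd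
    have hcop : (orderOf (w * y * w⁻¹)).Coprime q :=
      cs3_isPEl_coprime hp hq hpq (hy.conj w)
    exact (Commute.conj_iff w).1 (h9 (w * y * w⁻¹) (w * d * w⁻¹) hy' hcop hd')
  exact hne (h.cent_eq_of_le (huS.trans hyS.symm) hle)

/-- in the situation of Claim X with different centralizers, `y₁` has type (6c) with special prime
`r₂`. -/
theorem cs3_H.claimX_Tc (h : cs3_H G m n) {r₁ r₂ : ℕ} [Fact r₁.Prime] [Fact r₂.Prime]
    (hne : r₁ ≠ r₂) {y₁ y₂ : G} (h1 : IsPEl r₁ y₁) (h2 : IsPEl r₂ y₂) (hS1 : idx y₁ = m)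
    (hS2 : idx y₂ = m) (hc : Commute y₁ y₂)
    (hC : centralizer ({y₁} : Set G) ≠ centralizer ({y₂} : Set G)) : cs3_Tc n r₁ r₂ y₁ := by
  have hr₁ : r₁.Prime := Fact.out
  have hr₂ : r₂.Prime := Fact.out
  obtain ⟨c₀, hc₀y, hc₀u⟩ := h.exists_not_commute_of_ne hS2 hS1 hC.symm
  rcases h.tricho h1 hS1 with hTa | hpow | ⟨t, hTc⟩
  · exact absurd (hTa y₂ c₀ hc.symm hc₀y (cs3_isPEl_coprime hr₂ hr₁ hne.symm h2)) hc₀u
  · exact absurd hpow (h.lemma7 (p := r₂) (q := r₁) hne.symm h1 h2 hS1 hS2 hc hC)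
  · have ht : t = r₂ := by
      by_contra htr
      obtain ⟨-, -, -, -, -, hcen⟩ := hTc
      exact hc₀u (hcen r₂ hr₂ hne.symm (Ne.symm htr) y₂ c₀ hc.symm hc₀y h2)
    rw [← ht]
    exact hTc

/-- Step A of Claim X: in the situation of Lemma 7 (without assumption on `n`) both primes divide
`n`. -/
theorem cs3_H.claimX_dvd (h : cs3_H G m n) {r₁ r₂ : ℕ} [Fact r₁.Prime] [Fact r₂.Prime]
    (hne : r₁ ≠ r₂) {y₁ y₂ : G} (h1 : IsPEl r₁ y₁) (h2 : IsPEl r₂ y₂) (hS1 : idx y₁ = m)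
    (hS2 : idx y₂ = m) (hc : Commute y₁ y₂)
    (hC : centralizer ({y₁} : Set G) ≠ centralizer ({y₂} : Set G)) : r₂ ∣ n :=
  (h.claimX_Tc hne h1 h2 hS1 hS2 hc hC).2.2.1

/-- Claim X: commuting prime-power elements of `S` for different primes have the same
centralizer. -/
theorem cs3_H.claimX (h : cs3_H G m n) {r₁ r₂ : ℕ} [Fact r₁.Prime] [Fact r₂.Prime]
    (hne : r₁ ≠ r₂) {y₁ y₂ : G} (h1 : IsPEl r₁ y₁) (h2 : IsPEl r₂ y₂) (hS1 : idx y₁ = m)
    (hS2 : idx y₂ = m) (hc : Commute y₁ y₂) :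
    centralizer ({y₁} : Set G) = centralizer ({y₂} : Set G) := by
  by_contra hC
  have hTc := h.claimX_Tc hne h1 h2 hS1 hS2 hc hC
  have hd2 : r₂ ∣ n := hTc.2.2.1
  have hd1 : r₁ ∣ n := h.claimX_dvd hne.symm h2 h1 hS2 hS1 hc.symm (Ne.symm hC)
  obtain ⟨p', hp', hp'm⟩ := Nat.exists_prime_and_dvd (show m ≠ 1 from h.hm.ne')
  haveI : Fact p'.Prime := ⟨hp'⟩
  have hp'n : ¬ p' ∣ n := fun hd => hp'.one_lt.ne' (Nat.eq_one_of_dvd_coprimes h.cop hp'm hd)
  have hp'1 : p' ≠ r₁ := fun he => hp'n (he ▸ hd1)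
  have hp'2 : p' ≠ r₂ := fun he => hp'n (he ▸ hd2)
  obtain ⟨a₁, ha₁p, ha₁z, ha₁y⟩ := h.exists_pel_commute hp'm y₁
  obtain ⟨-, -, -, -, -, hcen⟩ := hTc
  have hle : centralizer ({y₁} : Set G) ≤ centralizer ({a₁} : Set G) := fun c hc' =>
    mem_cent_iff.2 (hcen p' hp' hp'1 hp'2 a₁ c ha₁y (mem_cent_iff.1 hc') ha₁p)
  have ha₁S : idx a₁ = m := by
    rcases h.idx_of_not_center ha₁z with h' | h'
    · exact h'
    · exfalso
      have hd : idx a₁ ∣ idx y₁ := idx_dvd_of_cent_le hle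
      rw [h', hS1] at hd
      have h3 := Nat.le_of_dvd h.m_pos hd
      have h4 := h.m_lt_mn
      omega
  have hCeq : centralizer ({y₁} : Set G) = centralizer ({a₁} : Set G) :=
    h.cent_eq_of_le (hS1.trans ha₁S.symm) hle
  have hy₂a₁ : Commute y₂ a₁ := mem_cent_iff.1 (hle (mem_cent_iff.2 hc.symm))
  have hfin : p' ∣ n := h.claimX_dvd (r₁ := r₂) (r₂ := p') hp'2.symm h2 ha₁p hS2 ha₁S hy₂a₁
    (by rw [← hCeq]; exact Ne.symm hC)
  exact hp'n hfin

end Cfsg.Agent.CS3
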