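import Mathlib
import Cfsg.Agent.CS3.Defs

set_option autoImplicit false

/-!
# S4284, package (E0): no `C_p × C_p` acts without fixed points

`cs3_cpcp_add`: additive form (group-ring identity
`N(α) + ∑_{i<p} N(α^i β) = p + N(α) N(β)` with `N(γ) = ∑_{s<p} γ^s`);
`cs3_cpcp`: the form used inside a group `G`.
-/

namespace Cfsg.Agent.CS3

open Subgroup
open Cfsg.Agent.CS4

variable {G : Type*} [Group G] [Finite G] {m n : ℕ}

/-- `i ↦ i * t` permutes the residues mod `p` -/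
theorem cs3_sum_pow_mul {R : Type*} [Ring R] {p : ℕ} (hp : p.Prime) {A : R} (hA : A ^ p = 1)
    {t : ℕ} (ht : ¬ p ∣ t) :
    ∑ i ∈ Finset.range p, A ^ (i * t) = ∑ s ∈ Finset.range p, A ^ s := by
  have hcop : Nat.Coprime p t := (Nat.Prime.coprime_iff_not_dvd hp).2 ht
  have hinj : Set.InjOn (fun i => (i * t) % p) (Finset.range p : Set ℕ) := by
    intro i hi i' hi' h
    have hi1 : i < p := Finset.mem_range.1 hi
    have hi2 : i' < p := Finset.mem_range.1 hi'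
    have h1 : i * t ≡ i' * t [MOD p] := h
    have h2 : i ≡ i' [MOD p] := Nat.ModEq.cancel_right_of_coprime hcop h1
    exact Nat.ModEq.eq_of_lt_of_lt h2 hi1 hi2
  have himg : (Finset.range p).image (fun i => (i * t) % p) = Finset.range p := by
    apply Finset.eq_of_subset_of_card_le
    · intro s hs
      obtain ⟨i, _, rfl⟩ := Finset.mem_image.1 hs
      exact Finset.mem_range.2 (Nat.mod_lt _ hp.pos)
    · rw [Finset.card_image_of_injOn hinj]
  calc ∑ i ∈ Finset.range p, A ^ (i * t)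
      = ∑ i ∈ Finset.range p, A ^ ((i * t) % p) :=
        Finset.sum_congr rfl (fun i _ => pow_eq_pow_mod _ hA)
    _ = ∑ s ∈ (Finset.range p).image (fun i => (i * t) % p), A ^ s :=
        (Finset.sum_image hinj).symm
    _ = _ := by rw [himg]

/-- `γ * N(γ) = N(γ)` when `γ ^ p = 1` -/
theorem cs3_mul_norm {R : Type*} [Ring R] {p : ℕ} {A : R} (hA : A ^ p = 1) :
    A * ∑ s ∈ Finset.range p, A ^ s = ∑ s ∈ Finset.range p, A ^ s := by
  have h := mul_geom_sum A p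
  rw [hA, sub_self, sub_mul, one_mul, sub_eq_zero] at h
  exact h

/-- the group-ring identity `N(α) + ∑_{i<p} N(α^i β) = p + N(α) N(β)` -/
theorem cs3_norm_identity {R : Type*} [Ring R] {p : ℕ} (hp : p.Prime) {A B : R}
    (hAB : Commute A B) (hA : A ^ p = 1) :
    (∑ s ∈ Finset.range p, A ^ s) + ∑ i ∈ Finset.range p, ∑ t ∈ Finset.range p, (A ^ i * B) ^ t
      = (p : R) + (∑ s ∈ Finset.range p, A ^ s) * ∑ t ∈ Finset.range p, B ^ t := by
  have h1 : ∀ i t : ℕ, (A ^ i * B) ^ t = A ^ (i * t) * B ^ t := by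
    intro i t
    rw [(hAB.pow_left i).mul_pow, ← pow_mul]
  have h2 : ∑ i ∈ Finset.range p, ∑ t ∈ Finset.range p, (A ^ i * B) ^ t
      = ∑ t ∈ Finset.range p, (∑ i ∈ Finset.range p, A ^ (i * t)) * B ^ t := by
    rw [Finset.sum_comm]
    refine Finset.sum_congr rfl (fun t _ => ?_)
    rw [Finset.sum_mul]
    exact Finset.sum_congr rfl (fun i _ => h1 i t)
  have h3 : ∑ t ∈ Finset.range p, (∑ i ∈ Finset.range p, A ^ (i * t)) * B ^ t
      = (p : R) + ∑ t ∈ Finset.range p, (∑ s ∈ Finset.range p, A ^ s) * B ^ t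
        - ∑ s ∈ Finset.range p, A ^ s := by
    obtain ⟨k, rfl⟩ : ∃ k, p = k + 1 := ⟨p - 1, (Nat.succ_pred_eq_of_pos hp.pos).symm⟩
    rw [Finset.sum_range_succ' (fun t => (∑ i ∈ Finset.range (k + 1), A ^ (i * t)) * B ^ t),
      Finset.sum_range_succ'
        (fun t => (∑ s ∈ Finset.range (k + 1), A ^ s) * B ^ t)]
    have h4 : ∀ t ∈ Finset.range k,
        (∑ i ∈ Finset.range (k + 1), A ^ (i * (t + 1))) * B ^ (t + 1)
          = (∑ s ∈ Finset.range (k + 1), A ^ s) * B ^ (t + 1) := by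
      intro t ht
      rw [cs3_sum_pow_mul hp hA]
      have : t + 1 < k + 1 := by
        have := Finset.mem_range.1 ht
        omega
      exact Nat.not_dvd_of_pos_of_lt (Nat.succ_pos t) this
    rw [Finset.sum_congr rfl h4]
    simp only [Nat.mul_zero, pow_zero, mul_one, Finset.sum_const, Finset.card_range, nsmul_eq_mul]
    abel
  rw [h2, h3, Finset.mul_sum]
  abel

theorem cs3_cpcp_add {M : Type*} [AddCommGroup M] (p : ℕ) [Fact p.Prime] (α β : M →+ M)
    (hc : ∀ x, α (β x) = β (α x)) (hα : ∀ x, (α^[p]) x = x) (hβ : ∀ x, (β^[p]) x = x)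
    (M₀ : AddSubgroup M)
    (hfix : ∀ i j : ℕ, ¬ (p ∣ i ∧ p ∣ j) → ∀ x, (α^[i]) ((β^[j]) x) = x → x ∈ M₀) (x : M) :
    p • x ∈ M₀ := by
  have hp : p.Prime := Fact.out
  set A : AddMonoid.End M := α with hAdef
  set B : AddMonoid.End M := β with hBdef
  have hAB : Commute A B := by
    apply AddMonoid.End.ext
    intro y
    exact hc y
  have hA : A ^ p = 1 := by
    apply AddMonoid.End.ext
    intro y
    rw [AddMonoid.End.coe_pow]
    exact hα y
  have hB : B ^ p = 1 := by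
    apply AddMonoid.End.ext
    intro y
    rw [AddMonoid.End.coe_pow]
    exact hβ y
  -- fixed points of `A ^ i * B ^ j`
  have hfix' : ∀ i j : ℕ, ¬ (p ∣ i ∧ p ∣ j) → ∀ y, (A ^ i * B ^ j) y = y → y ∈ M₀ := by
    intro i j hij y hy
    apply hfix i j hij y
    rw [AddMonoid.End.coe_mul, AddMonoid.End.coe_pow, AddMonoid.End.coe_pow] at hy
    exact hy
  have hp1 : ¬ p ∣ 1 := hp.one_lt.ne' ∘ Nat.dvd_one.1
  -- the three kinds of terms
  have hN : ∀ (C : AddMonoid.End M) (i j : ℕ), ¬ (p ∣ i ∧ p ∣ j) → C = A ^ i * B ^ j →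
      C ^ p = 1 → ∀ y, (∑ s ∈ Finset.range p, C ^ s) y ∈ M₀ := by
    intro C i j hij hC hCp y
    apply hfix' i j hij
    rw [← hC]
    have := cs3_mul_norm hCp
    calc C ((∑ s ∈ Finset.range p, C ^ s) y) = (C * ∑ s ∈ Finset.range p, C ^ s) y := rfl
      _ = _ := by rw [this]
  have t1 : ∀ y, (∑ s ∈ Finset.range p, A ^ s) y ∈ M₀ := by
    apply hN A 1 0 (fun h => hp1 h.1) (by simp) hA
  have t2 : ∀ i : ℕ, (∑ t ∈ Finset.range p, (A ^ i * B) ^ t) x ∈ M₀ := by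
    intro i
    apply hN (A ^ i * B) i 1 (fun h => hp1 h.2) (by simp)
    rw [(hAB.pow_left i).mul_pow, hB, ← pow_mul, mul_comm, pow_mul, hA, one_pow, one_mul]
  have hid := cs3_norm_identity (R := AddMonoid.End M) hp hAB hA (B := B)
  have hx : (p : AddMonoid.End M) x =
      ((∑ s ∈ Finset.range p, A ^ s) + ∑ i ∈ Finset.range p, ∑ t ∈ Finset.range p, (A ^ i * B) ^ t
        - (∑ s ∈ Finset.range p, A ^ s) * ∑ t ∈ Finset.range p, B ^ t) x := by
    rw [hid]
    simp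
  rw [AddMonoid.End.natCast_apply] at hx
  rw [hx]
  have e1 : ∀ (C D : AddMonoid.End M) (y : M), (C + D) y = C y + D y := fun _ _ _ => rfl
  have e2 : ∀ (C D : AddMonoid.End M) (y : M), (C - D) y = C y - D y := fun _ _ _ => rfl
  have e3 : ∀ (s : Finset ℕ) (f : ℕ → AddMonoid.End M) (y : M),
      (∑ i ∈ s, f i) y = ∑ i ∈ s, f i y := by
    intro s f y
    exact map_sum (AddMonoidHom.eval y) f s
  rw [e2, e1]
  refine M₀.sub_mem (M₀.add_mem (t1 x) ?_) ?_
  · rw [e3]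
    exact M₀.sum_mem (fun i _ => t2 i)
  · exact t1 _

/-- multiplicative form of `cs3_cpcp_add` -/
theorem cs3_cpcp_mul {K : Type*} [CommGroup K] (p : ℕ) [Fact p.Prime] (α β : K →* K)
    (hc : ∀ x, α (β x) = β (α x)) (hα : ∀ x, (α^[p]) x = x) (hβ : ∀ x, (β^[p]) x = x)
    (K₀ : Subgroup K)
    (hfix : ∀ i j : ℕ, ¬ (p ∣ i ∧ p ∣ j) → ∀ x, (α^[i]) ((β^[j]) x) = x → x ∈ K₀) (x : K) :
    x ^ p ∈ K₀ := by
  have hit : ∀ (γ : K →* K) (i : ℕ) (y : Additive K),
      ((MonoidHom.toAdditive γ)^[i]) y = Additive.ofMul ((γ^[i]) (Additive.toMul y)) := by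
    intro γ i
    induction i with
    | zero => intro y; rfl
    | succ i ih =>
      intro y
      rw [Function.iterate_succ_apply', Function.iterate_succ_apply', ih]
      rfl
  have := cs3_cpcp_add (M := Additive K) p (MonoidHom.toAdditive α) (MonoidHom.toAdditive β)
    (fun y => congrArg Additive.ofMul (hc (Additive.toMul y)))
    (fun y => by rw [hit]; exact congrArg Additive.ofMul (hα (Additive.toMul y)))
    (fun y => by rw [hit]; exact congrArg Additive.ofMul (hβ (Additive.toMul y)))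
    (Subgroup.toAddSubgroup K₀)
    (fun i j hij y hy => by
      rw [hit, hit] at hy
      exact hfix i j hij (Additive.toMul y) (Additive.ofMul.injective hy))
    (Additive.ofMul x)
  exact this

/-- conjugation by `h` on a subgroup normalized by `h` -/
def cs3_conjHom (K : Subgroup G) (h : G) (hn : ∀ k ∈ K, h * k * h⁻¹ ∈ K) : ↥K →* ↥K where
  toFun k := ⟨h * k * h⁻¹, hn k k.2⟩
  map_one' := by
    apply Subtype.ext
    simp
  map_mul' a b := by
    apply Subtype.ext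
    simp

theorem cs3_conjHom_iterate (K : Subgroup G) (h : G) (hn : ∀ k ∈ K, h * k * h⁻¹ ∈ K) (i : ℕ)
    (k : ↥K) : ((((cs3_conjHom K h hn : ↥K → ↥K))^[i]) k : G) = h ^ i * k * (h ^ i)⁻¹ := by
  induction i with
  | zero => simp
  | succ i ih =>
    rw [Function.iterate_succ_apply']
    change h * ((((cs3_conjHom K h hn : ↥K → ↥K))^[i]) k : G) * h⁻¹ = _
    rw [ih, pow_succ']
    group

/-- the form used: `h₁, h₂` normalize the abelian subgroup `K`, commute modulo `C(K)`, their `p`-th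
powers centralize `K`, and the fixed points on `K` of `h₁ ^ i * h₂ ^ j` (`i, j` not both divisible by
`p`) lie in `Z₀`.  Then `k ^ p ∈ Z₀` for all `k ∈ K`. -/
theorem cs3_cpcp (p : ℕ) [Fact p.Prime] (K Z₀ : Subgroup G)
    (hK : ∀ a ∈ K, ∀ b ∈ K, Commute a b) (h₁ h₂ : G)
    (hn₁ : ∀ k ∈ K, h₁ * k * h₁⁻¹ ∈ K) (hn₂ : ∀ k ∈ K, h₂ * k * h₂⁻¹ ∈ K)
    (hcomm : ∀ k ∈ K, Commute (h₁ * h₂ * h₁⁻¹ * h₂⁻¹) k)
    (hp₁ : ∀ k ∈ K, Commute (h₁ ^ p) k) (hp₂ : ∀ k ∈ K, Commute (h₂ ^ p) k)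
    (hfix : ∀ i j : ℕ, ¬ (p ∣ i ∧ p ∣ j) → ∀ k ∈ K, Commute (h₁ ^ i * h₂ ^ j) k → k ∈ Z₀) :
    ∀ k ∈ K, k ^ p ∈ Z₀ := by
  intro k hk
  letI : CommGroup ↥K :=
    { (inferInstance : Group ↥K) with
      mul_comm := fun a b => Subtype.ext (hK a a.2 b b.2) }
  have key := cs3_cpcp_mul (K := ↥K) p (cs3_conjHom K h₁ hn₁) (cs3_conjHom K h₂ hn₂)
    (fun x => by
      apply Subtype.ext
      change h₁ * (h₂ * (x : G) * h₂⁻¹) * h₁⁻¹ = h₂ * (h₁ * (x : G) * h₁⁻¹) * h₂⁻¹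
      have hy : h₂ * (h₁ * (x : G) * h₁⁻¹) * h₂⁻¹ ∈ K := hn₂ _ (hn₁ _ x.2)
      have hcy := hcomm _ hy
      have e : h₁ * (h₂ * (x : G) * h₂⁻¹) * h₁⁻¹ =
          (h₁ * h₂ * h₁⁻¹ * h₂⁻¹) * (h₂ * (h₁ * (x : G) * h₁⁻¹) * h₂⁻¹) *
            (h₁ * h₂ * h₁⁻¹ * h₂⁻¹)⁻¹ := by group
      rw [e, hcy.eq, mul_inv_cancel_right])
    (fun x => by
      apply Subtype.ext
      rw [cs3_conjHom_iterate, (hp₁ _ x.2).eq, mul_inv_cancel_right])
    (fun x => by
      apply Subtype.ext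
      rw [cs3_conjHom_iterate, (hp₂ _ x.2).eq, mul_inv_cancel_right])
    (Z₀.subgroupOf K)
    (fun i j hij x hx => by
      rw [Subgroup.mem_subgroupOf]
      apply hfix i j hij _ x.2
      have e := congrArg (Subtype.val) hx
      rw [cs3_conjHom_iterate, cs3_conjHom_iterate] at e
      change (h₁ ^ i * h₂ ^ j) * (x : G) = (x : G) * (h₁ ^ i * h₂ ^ j)
      conv_rhs => rw [← e]
      group)
    ⟨k, hk⟩
  rw [Subgroup.mem_subgroupOf] at key
  exact key

end Cfsg.Agent.CS3
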