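import Mathlib
import Cfsg.Agent.CS3.PiEl
import Cfsg.Agent.CS3.CpCp

set_option autoImplicit false

/-!
# S4284, package (E), second half: (U1) `m_p = p` under the hypothesis `cs3_AA p G`

`P` a Sylow `p`-subgroup (`p ∣ m`), `u ∈ P \ Z(P)` with `[u, P] ≤ Z(P)` and `u ^ p ∈ Z(P)`; `D = C(u)` is
abelian; `x ↦ [u, x]` is a homomorphism `P → Z(G)` with kernel `B = P ⊓ D` and image of exponent `p` and
order `m_p`; the `p`-regular elements of `D` form a subgroup `K`, normalized by `P`, not inside `Z(G)`,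
and `C_P(k) = B` for `k ∈ K \ Z(G)`.  If `m_p ≥ p²` then `cs3_cpcp` gives `K ≤ Z(G)`.
-/

namespace Cfsg.Agent.CS3

open Subgroup
open Cfsg.Agent.CS4

variable {G : Type*} [Group G] [Finite G] {m n : ℕ}

/-- a Sylow `p`-subgroup, `p ∣ m`, is not central -/
theorem cs3_H.exists_mem_sylow_not_center (h : cs3_H G m n) {p : ℕ} [Fact p.Prime] (hp : p ∣ m)
    (P : Sylow p G) : ∃ x ∈ P, x ∉ center G := by
  by_contra hcon
  push Not at hcon
  obtain ⟨g, hg⟩ := h.exm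
  have hle : (P : Subgroup G) ≤ centralizer ({g} : Set G) := by
    intro y hy
    rw [mem_cent_iff]
    exact (mem_center_iff.mp (hcon y hy) g).symm
  have h1 : idx g ∣ (P : Subgroup G).index := index_dvd_of_le hle
  rw [hg] at h1
  exact P.not_dvd_index (hp.trans h1)

/-- an element `u ∈ Z₂(P) \ Z(P)` with `u ^ p ∈ Z(P)`, in terms of `Z(G)` -/
theorem cs3_H.exists_Z2 (h : cs3_H G m n) {p : ℕ} [hp' : Fact p.Prime] (hp : p ∣ m)
    (P : Sylow p G) :
    ∃ u ∈ P, u ∉ center G ∧ u ^ p ∈ center G ∧ ∀ g ∈ P, u * g * u⁻¹ * g⁻¹ ∈ center G := by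
  obtain ⟨x, hxP, hxz⟩ := h.exists_mem_sylow_not_center hp P
  have hPp : IsPGroup p ↥(P : Subgroup G) := P.isPGroup'
  have hxc : (⟨x, hxP⟩ : ↥(P : Subgroup G)) ∉ center ↥(P : Subgroup G) := by
    intro hc
    apply hxz
    apply h.center_sylow hp P hxP
    intro g hg
    exact congrArg Subtype.val (mem_center_iff.mp hc ⟨g, hg⟩)
  have hnt : Nontrivial (↥(P : Subgroup G) ⧸ center ↥(P : Subgroup G)) := by
    refine ⟨⟨((⟨x, hxP⟩ : ↥(P : Subgroup G)) : ↥(P : Subgroup G) ⧸ center ↥(P : Subgroup G)), 1, ?_⟩⟩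
    intro h1
    exact hxc ((QuotientGroup.eq_one_iff _).mp h1)
  have hQp : IsPGroup p (↥(P : Subgroup G) ⧸ center ↥(P : Subgroup G)) := hPp.to_quotient _
  have hcn : Nontrivial (center (↥(P : Subgroup G) ⧸ center ↥(P : Subgroup G))) :=
    hQp.center_nontrivial
  obtain ⟨⟨z, hz⟩, hz1⟩ :=
    exists_ne (1 : center (↥(P : Subgroup G) ⧸ center ↥(P : Subgroup G)))
  have hz1' : z ≠ 1 := fun h0 => hz1 (Subtype.ext h0)
  obtain ⟨k, hk⟩ := IsPGroup.iff_orderOf.mp hQp z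
  have hk0 : k ≠ 0 := by
    rintro rfl
    rw [pow_zero, orderOf_eq_one_iff] at hk
    exact hz1' hk
  -- `w = z ^ (p ^ (k - 1))` has order `p`
  have hwp : (z ^ p ^ (k - 1)) ^ p = 1 := by
    rw [← pow_mul, ← pow_succ, Nat.sub_add_cancel (Nat.one_le_iff_ne_zero.mpr hk0), ← hk,
      pow_orderOf_eq_one]
  have hw1 : z ^ p ^ (k - 1) ≠ 1 := by
    apply pow_ne_one_of_lt_orderOf (pow_ne_zero _ hp'.out.ne_zero)
    rw [hk]
    exact Nat.pow_lt_pow_right hp'.out.one_lt (by omega)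
  have hwc : z ^ p ^ (k - 1) ∈ center (↥(P : Subgroup G) ⧸ center ↥(P : Subgroup G)) :=
    pow_mem hz _
  obtain ⟨u', hu'⟩ := QuotientGroup.mk_surjective (z ^ p ^ (k - 1))
  have hu'1 : u' ∉ center ↥(P : Subgroup G) := by
    intro hc
    apply hw1
    rw [← hu']
    exact (QuotientGroup.eq_one_iff u').mpr hc
  have hu'p : u' ^ p ∈ center ↥(P : Subgroup G) := by
    rw [← QuotientGroup.eq_one_iff, QuotientGroup.mk_pow, hu', hwp]
  have hu'c : ∀ g : ↥(P : Subgroup G), u' * g * u'⁻¹ * g⁻¹ ∈ center ↥(P : Subgroup G) := by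
    intro g
    rw [← QuotientGroup.eq_one_iff, QuotientGroup.mk_mul, QuotientGroup.mk_mul,
      QuotientGroup.mk_mul, QuotientGroup.mk_inv, QuotientGroup.mk_inv, hu']
    have h1 := mem_center_iff.mp hwc (g : ↥(P : Subgroup G) ⧸ center ↥(P : Subgroup G))
    rw [← h1, mul_assoc, mul_assoc, mul_inv_cancel_left, mul_inv_cancel]
  refine ⟨(u' : G), u'.2, ?_, ?_, ?_⟩
  · intro hc
    apply hu'1
    rw [mem_center_iff]
    intro g
    exact Subtype.ext (mem_center_iff.mp hc (g : G))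
  · apply h.center_sylow hp P (pow_mem u'.2 p)
    intro g hg
    exact congrArg Subtype.val (mem_center_iff.mp hu'p ⟨g, hg⟩)
  · intro g hg
    apply h.center_sylow hp P
      (mul_mem (mul_mem (mul_mem u'.2 hg) (inv_mem u'.2)) (inv_mem hg))
    intro g' hg'
    exact congrArg Subtype.val (mem_center_iff.mp (hu'c ⟨g, hg⟩) ⟨g', hg'⟩)

omit [Finite G] in
/-- `x ↦ [u, x]` as a homomorphism on `P`, when these commutators are central. -/
def cs3_u2_hom (P : Subgroup G) (u : G) (hc : ∀ g ∈ P, u * g * u⁻¹ * g⁻¹ ∈ center G) : ↥P →* G :=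
  MonoidHom.mk' (fun x => u * (x : G) * u⁻¹ * (x : G)⁻¹) (by
    intro a b
    have hb := mem_center_iff.mp (hc b b.2) (a : G)⁻¹
    show u * ((a : G) * (b : G)) * u⁻¹ * ((a : G) * (b : G))⁻¹ =
      (u * a * u⁻¹ * (a : G)⁻¹) * (u * b * u⁻¹ * (b : G)⁻¹)
    calc u * ((a : G) * (b : G)) * u⁻¹ * ((a : G) * (b : G))⁻¹
        = u * a * u⁻¹ * ((u * b * u⁻¹ * (b : G)⁻¹) * (a : G)⁻¹) := by group
      _ = u * a * u⁻¹ * ((a : G)⁻¹ * (u * b * u⁻¹ * (b : G)⁻¹)) := by rw [hb]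
      _ = (u * a * u⁻¹ * (a : G)⁻¹) * (u * b * u⁻¹ * (b : G)⁻¹) := by group)

omit [Finite G] in
theorem cs3_u2_hom_apply (P : Subgroup G) (u : G) (hc : ∀ g ∈ P, u * g * u⁻¹ * g⁻¹ ∈ center G)
    (x : ↥P) : cs3_u2_hom P u hc x = u * (x : G) * u⁻¹ * (x : G)⁻¹ := rfl

omit [Finite G] in
theorem cs3_u2_hom_eq_one_iff (P : Subgroup G) (u : G)
    (hc : ∀ g ∈ P, u * g * u⁻¹ * g⁻¹ ∈ center G) (x : ↥P) :
    cs3_u2_hom P u hc x = 1 ↔ Commute (x : G) u := by
  rw [cs3_u2_hom_apply, mul_inv_eq_one, mul_inv_eq_iff_eq_mul]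
  exact ⟨fun h => h.symm, fun h => h.symm⟩

omit [Finite G] in
theorem cs3_u2_pow_conj {u x z : G} (hz : u * x * u⁻¹ = z * x) (hzc : z ∈ center G) (k : ℕ) :
    u ^ k * x * (u ^ k)⁻¹ = z ^ k * x := by
  induction k with
  | zero => simp
  | succ k ih =>
    have hzk : z ^ k ∈ center G := pow_mem hzc k
    have h1 := mem_center_iff.mp hzk u
    calc u ^ (k + 1) * x * (u ^ (k + 1))⁻¹ = u * (u ^ k * x * (u ^ k)⁻¹) * u⁻¹ := by
          rw [pow_succ']; group
      _ = u * (z ^ k * x) * u⁻¹ := by rw [ih]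
      _ = (u * z ^ k) * x * u⁻¹ := by group
      _ = (z ^ k * u) * x * u⁻¹ := by rw [h1]
      _ = z ^ k * (u * x * u⁻¹) := by group
      _ = z ^ k * (z * x) := by rw [hz]
      _ = z ^ (k + 1) * x := by rw [pow_succ]; group

omit [Finite G] in
theorem cs3_u2_hom_pow (P : Subgroup G) (u : G) (hc : ∀ g ∈ P, u * g * u⁻¹ * g⁻¹ ∈ center G)
    {p : ℕ} (hup : u ^ p ∈ center G) (x : ↥P) : (cs3_u2_hom P u hc x) ^ p = 1 := by
  have hz : u * (x : G) * u⁻¹ = (cs3_u2_hom P u hc x) * (x : G) := by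
    rw [cs3_u2_hom_apply]; group
  have h1 := cs3_u2_pow_conj hz (hc x x.2) p
  have h2 : u ^ p * (x : G) * (u ^ p)⁻¹ = (x : G) := by
    rw [← mem_center_iff.mp hup (x : G), mul_assoc, mul_inv_cancel, mul_one]
  rw [h2] at h1
  exact (mul_eq_right.mp h1.symm)

omit [Finite G] in
/-- independence: `a` of order `p`, `b ∉ ⟨a⟩` with `b ^ p = 1`, and `a ^ i * b ^ j = 1`. -/
theorem cs3_u2_indep {p : ℕ} [hp : Fact p.Prime] {a b : G} (ha : a ^ p = 1) (hb : b ^ p = 1)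
    (ha1 : a ≠ 1) (hb1 : b ∉ zpowers a) {i j : ℕ} (hij : a ^ i * b ^ j = 1) : p ∣ i ∧ p ∣ j := by
  have hbne : b ≠ 1 := fun h => hb1 (h ▸ one_mem _)
  have hoa : orderOf a = p := orderOf_eq_prime ha ha1
  have hob : orderOf b = p := orderOf_eq_prime hb hbne
  have hj : p ∣ j := by
    by_contra hj
    have hcop : j.Coprime (orderOf b) := by
      rw [hob]
      exact ((Nat.Prime.coprime_iff_not_dvd hp.out).mpr hj).symm
    obtain ⟨s, hs⟩ := exists_pow_eq_self_of_coprime hcop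
    apply hb1
    have h1 : b ^ j = (a ^ i)⁻¹ := eq_inv_of_mul_eq_one_right hij
    rw [← hs, h1]
    exact pow_mem (inv_mem (pow_mem (mem_zpowers a) i)) s
  refine ⟨?_, hj⟩
  have h2 : b ^ j = 1 := by
    rw [← hob] at hj
    exact orderOf_dvd_iff_pow_eq_one.mp hj
  rw [h2, mul_one] at hij
  rw [← hoa]
  exact orderOf_dvd_of_pow_eq_one hij

/-- if `P` normalizes `C(u)`, `u ∈ P` noncentral, then `|P ⊓ C(u)| = |P| / m_p`. -/
theorem cs3_H.card_inf_cent_of_normalizes (h : cs3_H G m n) {p : ℕ} [hp' : Fact p.Prime]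
    (hp : p ∣ m) (P : Sylow p G) {u : G} (hu : u ∈ P) (huz : u ∉ center G)
    (hnorm : ∀ x ∈ P, ∀ c : G, Commute c u → Commute (x * c * x⁻¹) u) :
    Nat.card ↥((P : Subgroup G) ⊓ centralizer ({u} : Set G)) * p ^ m.factorization p =
      p ^ (Nat.card G).factorization p := by
  have hup : IsPEl p u := IsPEl.of_mem P.2 hu
  obtain ⟨P₁, hP₁le, hP₁p, hP₁all⟩ := h.camina_sylow hp hup huz
  have hnP₁ : (P : Subgroup G) ≤ normalizer (P₁ : Set G) := by
    rw [le_normalizer_iff]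
    intro x hx a ha
    apply hP₁all
    · exact hnorm x hx a (mem_cent_iff.mp (hP₁le ha))
    · exact (IsPEl.of_mem hP₁p ha).conj x
  have hsup : IsPGroup p ((P : Subgroup G) ⊔ P₁ : Subgroup G) :=
    P.2.to_sup_of_normal_right' hP₁p hnP₁
  have hP₁P : P₁ ≤ (P : Subgroup G) := by
    have h1 := P.is_maximal' hsup le_sup_left
    rw [← h1]
    exact le_sup_right
  have hidx : idx u = p ^ (idx u).factorization p * ordCompl[p] (idx u) :=
    (Nat.ordProj_mul_ordCompl_eq_self (idx u) p).symm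
  have hN : ¬ p ∣ ordCompl[p] (idx u) := Nat.not_dvd_ordCompl hp'.out (idx_ne_zero u)
  obtain ⟨S, hSp, hSle, hScard⟩ := exists_pgroup_cent hidx hN
  rw [h.factorization_idx hp'.out hp huz] at hScard
  have hSP₁ : S ≤ P₁ := fun a ha =>
    hP₁all a (mem_cent_iff.mp (hSle ha)) (IsPEl.of_mem hSp ha)
  have hSB : S ≤ (P : Subgroup G) ⊓ centralizer ({u} : Set G) :=
    le_inf (hSP₁.trans hP₁P) hSle
  have hd : p ^ m.factorization p ∣ idx u :=
    (Nat.ordProj_dvd m p).trans (h.m_dvd_idx huz)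
  have h1 := card_pgroup_cent_dvd hd ((P : Subgroup G) ⊓ centralizer ({u} : Set G))
    (P.2.to_le inf_le_left) inf_le_right
  have h2 : Nat.card S * p ^ m.factorization p ∣
      Nat.card ↥((P : Subgroup G) ⊓ centralizer ({u} : Set G)) * p ^ m.factorization p :=
    Nat.mul_dvd_mul_right (Subgroup.card_dvd_of_le hSB) _
  rw [hScard] at h2
  exact Nat.dvd_antisymm h1 h2

/-- `C_P(k) = P ⊓ C(u)` for `k` noncentral with `C(u) ≤ C(k)`, if `|P ⊓ C(u)| = |P| / m_p`. -/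
theorem cs3_H.inf_cent_eq (h : cs3_H G m n) {p : ℕ} [hp' : Fact p.Prime]
    (P : Sylow p G) {u k : G}
    (hcard : Nat.card ↥((P : Subgroup G) ⊓ centralizer ({u} : Set G)) * p ^ m.factorization p =
      p ^ (Nat.card G).factorization p)
    (hk : k ∉ center G) (hle : centralizer ({u} : Set G) ≤ centralizer ({k} : Set G)) :
    (P : Subgroup G) ⊓ centralizer ({k} : Set G) = (P : Subgroup G) ⊓ centralizer ({u} : Set G) := by
  symm
  apply Subgroup.eq_of_le_of_card_ge (inf_le_inf_left _ hle)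
  have hd : p ^ m.factorization p ∣ idx k :=
    (Nat.ordProj_dvd m p).trans (h.m_dvd_idx hk)
  have h1 := card_pgroup_cent_dvd hd ((P : Subgroup G) ⊓ centralizer ({k} : Set G))
    (P.2.to_le inf_le_left) inf_le_right
  rw [← hcard] at h1
  have h2 := Nat.le_of_dvd (Nat.mul_pos Nat.card_pos (pow_pos hp'.out.pos _)) h1
  exact Nat.le_of_mul_le_mul_right h2 (pow_pos hp'.out.pos _)

/-- (U1) `m_p = p`. -/
theorem cs3_H.U_mp (h : cs3_H G m n) {p : ℕ} [hp' : Fact p.Prime] (hp : p ∣ m) (hA : cs3_AA p G) :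
    m.factorization p = 1 := by
  have hge : 1 ≤ m.factorization p :=
    (hp'.out.dvd_iff_one_le_factorization h.m_pos.ne').mp hp
  by_contra hne
  have h2 : 2 ≤ m.factorization p := by omega
  obtain ⟨P⟩ : Nonempty (Sylow p G) := inferInstance
  obtain ⟨u, huP, huz, hupz, huc⟩ := h.exists_Z2 hp P
  have hup : IsPEl p u := IsPEl.of_mem P.2 huP
  obtain ⟨hDab, k₀, hk₀u, hk₀p, hk₀z⟩ := hA u hup huz
  -- `P` normalizes `C(u)`
  have hu2 : ∀ g ∈ P, ∀ g' ∈ P, Commute g' (u * g * u⁻¹ * g⁻¹) := fun g hg g' _ =>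
    mem_center_iff.mp (huc g hg) g'
  have hnorm : ∀ x ∈ P, ∀ c : G, Commute c u → Commute (x * c * x⁻¹) u := fun x hx c hc =>
    h.conj_mem_cent hp P huP hu2 hx hc
  have hcard := h.card_inf_cent_of_normalizes hp P huP huz hnorm
  -- the homomorphism `x ↦ [u, x]`
  obtain ⟨f, hf⟩ : ∃ f : ↥(P : Subgroup G) →* G, f = cs3_u2_hom (P : Subgroup G) u huc := ⟨_, rfl⟩
  have hf1 : ∀ x : ↥(P : Subgroup G), f x = 1 ↔ Commute (x : G) u := fun x => by
    rw [hf]; exact cs3_u2_hom_eq_one_iff _ u huc x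
  have hfp : ∀ x : ↥(P : Subgroup G), (f x) ^ p = 1 := fun x => by
    rw [hf]; exact cs3_u2_hom_pow _ u huc hupz x
  have hfz : ∀ x : ↥(P : Subgroup G), f x ∈ center G := fun x => by
    rw [hf]; exact huc x x.2
  -- the order of the image is `m_p`
  have hker : (f.ker).map (P : Subgroup G).subtype =
      (P : Subgroup G) ⊓ centralizer ({u} : Set G) := by
    ext y
    constructor
    · rintro ⟨x, hx, rfl⟩
      exact ⟨x.2, mem_cent_iff.mpr ((hf1 x).mp hx)⟩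
    · rintro ⟨hyP, hyu⟩
      exact ⟨⟨y, hyP⟩, (hf1 ⟨y, hyP⟩).mpr (mem_cent_iff.mp hyu), rfl⟩
  have hcker : Nat.card f.ker = Nat.card ↥((P : Subgroup G) ⊓ centralizer ({u} : Set G)) := by
    rw [← hker, Subgroup.card_map_of_injective (P : Subgroup G).subtype_injective]
  have hrange : Nat.card f.range = p ^ m.factorization p := by
    have h3 := f.ker.card_mul_index
    rw [Subgroup.index_ker, hcker, P.card_eq_multiplicity, ← hcard] at h3
    exact Nat.eq_of_mul_eq_mul_left Nat.card_pos h3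
  -- choose `h₁`, `h₂`
  have hex1 : ∃ h₁ : ↥(P : Subgroup G), f h₁ ≠ 1 := by
    by_contra hcon
    push Not at hcon
    have hbot : f.range = ⊥ := by
      rw [eq_bot_iff]
      rintro y ⟨x, rfl⟩
      rw [mem_bot]
      exact hcon x
    rw [hbot, Subgroup.card_bot] at hrange
    have := Nat.one_lt_pow (n := m.factorization p) (by omega) hp'.out.one_lt
    omega
  obtain ⟨h₁, hh₁⟩ := hex1
  have hex2 : ∃ h₂ : ↥(P : Subgroup G), f h₂ ∉ zpowers (f h₁) := by
    by_contra hcon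
    push Not at hcon
    have hle : f.range ≤ zpowers (f h₁) := by
      rintro y ⟨x, rfl⟩
      exact hcon x
    have h3 := Subgroup.card_le_of_le hle
    rw [hrange, Nat.card_zpowers, orderOf_eq_prime (hfp h₁) hh₁] at h3
    have h4 : p ^ 2 ≤ p ^ m.factorization p := Nat.pow_le_pow_right hp'.out.pos h2
    have h5 : p < p ^ 2 := by
      have := hp'.out.one_lt
      nlinarith
    omega
  obtain ⟨h₂, hh₂⟩ := hex2
  -- the subgroup `K` of `p`-regular elements of `C(u)`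
  obtain ⟨K, hK⟩ : ∃ K : Subgroup G, ∀ k, k ∈ K ↔ Commute k u ∧ (orderOf k).Coprime p := by
    refine ⟨{ carrier := {k | Commute k u ∧ (orderOf k).Coprime p}
              mul_mem' := ?_
              one_mem' := ?_
              inv_mem' := ?_ }, fun k => Iff.rfl⟩
    · rintro a b ⟨hau, hap⟩ ⟨hbu, hbp⟩
      refine ⟨hau.mul_left hbu, ?_⟩
      have hab : Commute a b := hDab a b hau hbu
      exact Nat.Coprime.coprime_dvd_left (hab.orderOf_mul_dvd_lcm.trans (Nat.lcm_dvd_mul _ _))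
        (Nat.Coprime.mul_left hap hbp)
    · exact ⟨Commute.one_left u, by simp⟩
    · rintro a ⟨hau, hap⟩
      exact ⟨hau.inv_left, by rw [orderOf_inv]; exact hap⟩
  have hKab : ∀ a ∈ K, ∀ b ∈ K, Commute a b := fun a ha b hb =>
    hDab a b ((hK a).mp ha).1 ((hK b).mp hb).1
  have hKn : ∀ x ∈ P, ∀ k ∈ K, x * k * x⁻¹ ∈ K := by
    intro x hx k hk
    rw [hK] at hk ⊢
    exact ⟨hnorm x hx k hk.1, by rw [Cfsg.Agent.Helper8.PReg.orderOf_conj]; exact hk.2⟩
  -- elements of `P` killed by `f` commute with `K`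
  have hkill : ∀ x : ↥(P : Subgroup G), f x = 1 → ∀ k ∈ K, Commute (x : G) k := fun x hx k hk =>
    hDab (x : G) k ((hf1 x).mp hx) ((hK k).mp hk).1
  have hcomm : ∀ k ∈ K, Commute ((h₁ : G) * (h₂ : G) * (h₁ : G)⁻¹ * (h₂ : G)⁻¹) k := by
    have h3 : f (h₁ * h₂ * h₁⁻¹ * h₂⁻¹) = 1 := by
      rw [map_mul, map_mul, map_mul, map_inv, map_inv]
      have h4 := mem_center_iff.mp (hfz h₂) (f h₁)
      rw [h4]
      group
    exact hkill _ h3
  have hp₁ : ∀ k ∈ K, Commute ((h₁ : G) ^ p) k :=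
    hkill (h₁ ^ p) (by rw [map_pow]; exact hfp h₁)
  have hp₂ : ∀ k ∈ K, Commute ((h₂ : G) ^ p) k :=
    hkill (h₂ ^ p) (by rw [map_pow]; exact hfp h₂)
  have hfix : ∀ i j : ℕ, ¬ (p ∣ i ∧ p ∣ j) → ∀ k ∈ K,
      Commute ((h₁ : G) ^ i * (h₂ : G) ^ j) k → k ∈ center G := by
    intro i j hij k hk hc
    by_contra hkz
    have hle : centralizer ({u} : Set G) ≤ centralizer ({k} : Set G) := by
      intro c hc'
      rw [mem_cent_iff] at hc' ⊢
      exact hDab c k hc' ((hK k).mp hk).1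
    have heq := h.inf_cent_eq P hcard hkz hle
    have hmem : ((h₁ ^ i * h₂ ^ j : ↥(P : Subgroup G)) : G) ∈
        (P : Subgroup G) ⊓ centralizer ({k} : Set G) :=
      ⟨(h₁ ^ i * h₂ ^ j : ↥(P : Subgroup G)).2, mem_cent_iff.mpr hc⟩
    rw [heq] at hmem
    have h3 : f (h₁ ^ i * h₂ ^ j) = 1 := (hf1 _).mpr (mem_cent_iff.mp hmem.2)
    rw [map_mul, map_pow, map_pow] at h3
    exact hij (cs3_u2_indep (hfp h₁) (hfp h₂) hh₁ hh₂ h3)
  have hall := cs3_cpcp p K (center G) hKab (h₁ : G) (h₂ : G) (hKn _ h₁.2) (hKn _ h₂.2) hcomm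
    hp₁ hp₂ hfix
  -- `k₀ ∈ K` is central: contradiction
  have hk₀K : k₀ ∈ K := (hK k₀).mpr ⟨hk₀u, hk₀p⟩
  have h3 := hall k₀ hk₀K
  obtain ⟨s, hs⟩ := exists_pow_eq_self_of_coprime (x := k₀) (n := p) hk₀p.symm
  apply hk₀z
  rw [← hs]
  exact pow_mem h3 s

end Cfsg.Agent.CS3
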