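import Mathlib
import Cfsg.Agent.CS3.Defs
import Cfsg.Agent.CS3.Basic
import Cfsg.Agent.CS3.Prim
import Cfsg.Agent.CS3.PiEl
import Cfsg.Agent.Helper5.ProdCard

set_option autoImplicit false
set_option linter.unusedVariables false
set_option linter.style.haveILetI false
set_option linter.unusedSectionVars false

/-!
# S4284, package (E), first half: Lemma U, parts (U-a) and (U-b)

`p ∣ m` and hypothesis `cs3_AA p G`: every noncentral `p`-element has an abelian centralizer that
contains a noncentral `p`-regular element.  Commuting noncentral `p`-elements have the same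
centralizer.  (U-a): `|P| ≤ m_p² z_p` for a Sylow `p`-subgroup `P`.  (U-b): there is a noncentral
`p`-element `u` such that `m_p` divides `|C(u)|_ℓ - z_ℓ` for every prime `ℓ ≠ p`.
-/

namespace Cfsg.Agent.CS3

open Subgroup
open Cfsg.Agent.CS4
open scoped Pointwise

variable {G : Type*} [Group G] [Finite G] {m n : ℕ}

/-- commuting noncentral `p`-elements have the same centralizer -/
theorem cs3_ua_cent_eq {p : ℕ} (hA : cs3_AA p G) {a a' : G} (ha : IsPEl p a) (haz : a ∉ center G)
    (ha' : IsPEl p a') (ha'z : a' ∉ center G) (hc : Commute a a') :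
    centralizer ({a} : Set G) = centralizer ({a'} : Set G) := by
  apply le_antisymm
  · intro x hx
    rw [mem_cent_iff] at hx ⊢
    exact (hA a ha haz).1 x a' hx hc.symm
  · intro x hx
    rw [mem_cent_iff] at hx ⊢
    exact (hA a' ha' ha'z).1 x a hx hc

/-- the `p`-part of the class size of a noncentral element is the `p`-part of `m` -/
theorem cs3_ua_idx_eq (h : cs3_H G m n) {p : ℕ} [hp : Fact p.Prime] (hpm : p ∣ m) {g : G}
    (hg : g ∉ center G) : ∃ N : ℕ, idx g = p ^ m.factorization p * N ∧ ¬ p ∣ N := by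
  have h1 := h.factorization_idx hp.out hpm hg
  refine ⟨idx g / p ^ (idx g).factorization p, ?_, Nat.not_dvd_ordCompl hp.out (idx_ne_zero g)⟩
  rw [← h1]
  exact (Nat.ordProj_mul_ordCompl_eq_self (idx g) p).symm

/-- a `p`-subgroup of the centralizer of a noncentral element has order at most `|G|_p / m_p` -/
theorem cs3_ua_card_dvd (h : cs3_H G m n) {p : ℕ} [hp : Fact p.Prime] (hpm : p ∣ m) {g : G}
    (hg : g ∉ center G) (S : Subgroup G) (hS : IsPGroup p S)
    (hSg : S ≤ centralizer ({g} : Set G)) :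
    Nat.card S * p ^ m.factorization p ∣ p ^ (Nat.card G).factorization p := by
  obtain ⟨N, hN, -⟩ := cs3_ua_idx_eq h hpm hg
  exact card_pgroup_cent_dvd (hN ▸ Dvd.intro _ rfl) S hS hSg

/-- the centralizer of a noncentral `p`-element `g` has a `p`-subgroup of order `|G|_p / m_p`
that contains `g` -/
theorem cs3_ua_exists_pgroup (h : cs3_H G m n) {p : ℕ} [hp : Fact p.Prime] (hpm : p ∣ m) {g : G}
    (hg : g ∉ center G) (hgp : IsPEl p g) :
    ∃ S : Subgroup G, IsPGroup p S ∧ S ≤ centralizer ({g} : Set G) ∧ g ∈ S ∧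
      Nat.card S * p ^ m.factorization p = p ^ (Nat.card G).factorization p := by
  obtain ⟨N, hN, hpN⟩ := cs3_ua_idx_eq h hpm hg
  obtain ⟨S, hS, hSg, hScard⟩ := exists_pgroup_cent hN hpN
  have hnorm : zpowers g ≤ normalizer (S : Set G) := by
    rw [zpowers_le, mem_normalizer_iff]
    intro v
    have key : ∀ w ∈ S, g * w * g⁻¹ = w := by
      intro w hw
      have h1 : Commute w g := mem_cent_iff.1 (hSg hw)
      rw [← h1.eq, mul_assoc, mul_inv_cancel, mul_one]
    constructor
    · intro hv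
      rw [key v hv]
      exact hv
    · intro hv
      have h2 := key _ hv
      have h3 : v = g⁻¹ * (g * v * g⁻¹) * g := by group
      have h4 : g⁻¹ * (g * v * g⁻¹) * g = g * v * g⁻¹ := by
        have h1 : Commute (g * v * g⁻¹) g := mem_cent_iff.1 (hSg hv)
        rw [mul_assoc, h1.eq, ← mul_assoc, inv_mul_cancel, one_mul]
      rw [h3, h4]
      exact hv
  have hsup : IsPGroup p (zpowers g ⊔ S : Subgroup G) :=
    IsPGroup.to_sup_of_normal_right' hgp.isPGroup_zpowers hS hnorm
  have hle : (zpowers g ⊔ S : Subgroup G) ≤ centralizer ({g} : Set G) := by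
    apply sup_le _ hSg
    rw [zpowers_le]
    exact self_mem_cent g
  refine ⟨zpowers g ⊔ S, hsup, hle, (le_sup_left : zpowers g ≤ _) (mem_zpowers g), ?_⟩
  have h1 := cs3_ua_card_dvd h hpm hg _ hsup hle
  have h2 : Nat.card S ∣ Nat.card (zpowers g ⊔ S : Subgroup G) :=
    Subgroup.card_dvd_of_le le_sup_right
  have h3 : Nat.card S * p ^ m.factorization p ∣
      Nat.card (zpowers g ⊔ S : Subgroup G) * p ^ m.factorization p :=
    Nat.mul_dvd_mul_right h2 _
  rw [hScard] at h3
  exact Nat.dvd_antisymm h1 h3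

/-- in an abelian subgroup the `ℓ`-elements form a subgroup, of order the `ℓ`-part -/
theorem cs3_ua_primary (H : Subgroup G) (hab : ∀ c ∈ H, ∀ d ∈ H, Commute c d) (ℓ : ℕ)
    [hℓ : Fact ℓ.Prime] :
    ∃ R : Subgroup G, R ≤ H ∧ IsPGroup ℓ R ∧ Nat.card R = ℓ ^ (Nat.card H).factorization ℓ ∧
      ∀ a ∈ H, IsPEl ℓ a → a ∈ R := by
  obtain ⟨T⟩ : Nonempty (Sylow ℓ H) := inferInstance
  have hTn : (T : Subgroup H).Normal := by
    constructor
    intro x hx g
    have h1 : g * x * g⁻¹ = x := by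
      have h2 : Commute (g : G) (x : G) := hab g g.2 x x.2
      have h3 : g * x = x * g := Subtype.ext h2.eq
      rw [h3, mul_assoc, mul_inv_cancel, mul_one]
    rw [h1]
    exact hx
  haveI : Unique (Sylow ℓ H) := Sylow.unique_of_normal T hTn
  refine ⟨(T : Subgroup H).map H.subtype, map_subtype_le _, T.isPGroup'.map _, ?_, ?_⟩
  · rw [Subgroup.card_map_of_injective H.subtype_injective, T.card_eq_multiplicity]
  · intro a ha har
    have har' : IsPEl ℓ (⟨a, ha⟩ : H) := by
      obtain ⟨k, hk⟩ := har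
      exact ⟨k, by rw [← hk, ← Subgroup.orderOf_coe]⟩
    obtain ⟨T', hT'⟩ := (IsPEl.isPGroup_zpowers har').exists_le_sylow
    have hTT : T' = T := Subsingleton.elim _ _
    rw [hTT] at hT'
    exact ⟨⟨a, ha⟩, hT' (mem_zpowers _), rfl⟩

/-- the order of `P ⊓ Z(G)` divides `z_p` -/
theorem cs3_ua_card_inf_center {p : ℕ} [hp : Fact p.Prime] (P : Sylow p G) :
    Nat.card ↥((P : Subgroup G) ⊓ center G) ∣ p ^ (Nat.card (center G)).factorization p := by
  have hP : IsPGroup p ↥((P : Subgroup G) ⊓ center G) := P.isPGroup'.to_le inf_le_left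
  obtain ⟨k, hk⟩ := IsPGroup.iff_card.mp hP
  have h1 : Nat.card ↥((P : Subgroup G) ⊓ center G) ∣ Nat.card (center G) :=
    Subgroup.card_dvd_of_le inf_le_right
  rw [hk] at h1 ⊢
  exact pow_dvd_pow _ ((hp.out.pow_dvd_iff_le_factorization Nat.card_pos.ne').mp h1)

/-- membership in a conjugate Sylow subgroup -/
theorem cs3_ua_mem_smul {p : ℕ} (c : G) (P : Sylow p G) (x : G) :
    x ∈ c • P ↔ c⁻¹ * x * c ∈ P := by
  show x ∈ ((c • P : Sylow p G) : Subgroup G) ↔ c⁻¹ * x * c ∈ (P : Subgroup G)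
  rw [Sylow.coe_subgroup_smul, Subgroup.mem_pointwise_smul_iff_inv_smul_mem, MulAut.smul_def,
    MulAut.conj_inv_apply]

/-- a conjugate of a noncentral element is noncentral -/
theorem cs3_ua_conj_not_center {x : G} (hx : x ∉ center G) (c : G) : c⁻¹ * x * c ∉ center G := by
  intro hc
  apply hx
  have h1 := (inferInstance : (center G).Normal).conj_mem _ hc c
  have h2 : c * (c⁻¹ * x * c) * c⁻¹ = x := by group
  rwa [h2] at h1

/-- a conjugate of a `p`-element is a `p`-element -/
theorem cs3_ua_conj_isPEl {p : ℕ} {x : G} (hx : IsPEl p x) (c : G) : IsPEl p (c⁻¹ * x * c) := by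
  have h1 := hx.conj c⁻¹
  rwa [inv_inv] at h1

/-- the centralizer of a noncentral element is a proper subgroup -/
theorem cs3_ua_cent_ne_top {a : G} (ha : a ∉ center G) : centralizer ({a} : Set G) ≠ ⊤ := by
  intro htop
  apply ha
  rw [mem_center_iff]
  intro g
  have hg : g ∈ centralizer ({a} : Set G) := by
    rw [htop]
    exact mem_top g
  exact (mem_cent_iff.1 hg).eq

/-- (U-a) `|P| ≤ m_p² z_p`. -/
theorem cs3_H.U_beta_le (h : cs3_H G m n) {p : ℕ} [hp : Fact p.Prime] (hpm : p ∣ m)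
    (hA : cs3_AA p G) :
    p ^ (Nat.card G).factorization p ≤
      (p ^ m.factorization p) ^ 2 * p ^ (Nat.card (center G)).factorization p := by
  by_contra hlt
  rw [not_le] at hlt
  obtain ⟨a, hap, haz, -⟩ := h.exists_pel_commute hpm 1
  obtain ⟨S₀, hS₀p, hS₀D, haS₀, hS₀card⟩ := cs3_ua_exists_pgroup h hpm haz hap
  obtain ⟨P, hP⟩ := hS₀p.exists_le_sylow
  have hBp : IsPGroup p ↥((P : Subgroup G) ⊓ centralizer ({a} : Set G)) :=
    P.isPGroup'.to_le inf_le_left
  have hBcard : Nat.card ↥((P : Subgroup G) ⊓ centralizer ({a} : Set G)) * p ^ m.factorization p =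
      p ^ (Nat.card G).factorization p := by
    have h1 := cs3_ua_card_dvd h hpm haz _ hBp inf_le_right
    have h2 : Nat.card S₀ ∣ Nat.card ↥((P : Subgroup G) ⊓ centralizer ({a} : Set G)) :=
      Subgroup.card_dvd_of_le (le_inf hP hS₀D)
    have h3 := Nat.mul_dvd_mul_right h2 (p ^ m.factorization p)
    rw [hS₀card] at h3
    exact Nat.dvd_antisymm h1 h3
  -- every noncentral `p`-element is conjugate into `C(a)`
  have key : ∀ a' : G, IsPEl p a' → a' ∉ center G →
      ∃ w : G, w⁻¹ * a' * w ∈ centralizer ({a} : Set G) := by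
    intro a' ha'p ha'z
    obtain ⟨S', hS'p, hS'C, ha'S', hS'card⟩ := cs3_ua_exists_pgroup h hpm ha'z ha'p
    obtain ⟨P', hP'⟩ := hS'p.exists_le_sylow
    obtain ⟨c, hc⟩ := MulAction.exists_smul_eq G P P'
    refine ⟨c, ?_⟩
    have hmemP : ∀ s ∈ S', c⁻¹ * s * c ∈ (P : Subgroup G) := by
      intro s hs
      have h1 : s ∈ c • P := by
        rw [hc]
        exact hP' hs
      exact (cs3_ua_mem_smul c P s).1 h1
    have ha''P : c⁻¹ * a' * c ∈ (P : Subgroup G) := hmemP a' ha'S'
    have ha''z : c⁻¹ * a' * c ∉ center G := cs3_ua_conj_not_center ha'z c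
    have ha''p : IsPEl p (c⁻¹ * a' * c) := cs3_ua_conj_isPEl ha'p c
    -- the conjugate of `S'`
    have hE₀le : S'.map (MulAut.conj c⁻¹).toMonoidHom ≤
        (P : Subgroup G) ⊓ centralizer ({c⁻¹ * a' * c} : Set G) := by
      rintro _ ⟨s, hs, rfl⟩
      have h1 : (MulAut.conj c⁻¹).toMonoidHom s = c⁻¹ * s * c := by
        show MulAut.conj c⁻¹ s = _
        rw [MulAut.conj_apply, inv_inv]
      rw [h1, Subgroup.mem_inf]
      refine ⟨hmemP s hs, ?_⟩
      rw [mem_cent_iff]
      have h2 : Commute s a' := mem_cent_iff.1 (hS'C hs)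
      show c⁻¹ * s * c * (c⁻¹ * a' * c) = c⁻¹ * a' * c * (c⁻¹ * s * c)
      have h3 : c⁻¹ * s * c * (c⁻¹ * a' * c) = c⁻¹ * (s * a') * c := by group
      have h4 : c⁻¹ * a' * c * (c⁻¹ * s * c) = c⁻¹ * (a' * s) * c := by group
      rw [h3, h4, h2.eq]
    have hE₀card : Nat.card (S'.map (MulAut.conj c⁻¹).toMonoidHom) = Nat.card S' :=
      Subgroup.card_map_of_injective (MulAut.conj c⁻¹).injective
    have hEp : IsPGroup p ↥((P : Subgroup G) ⊓ centralizer ({c⁻¹ * a' * c} : Set G)) :=
      P.isPGroup'.to_le inf_le_left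
    have hEcard : Nat.card ↥((P : Subgroup G) ⊓ centralizer ({c⁻¹ * a' * c} : Set G)) *
        p ^ m.factorization p = p ^ (Nat.card G).factorization p := by
      have h1 := cs3_ua_card_dvd h hpm ha''z _ hEp inf_le_right
      have h2 : Nat.card S' ∣
          Nat.card ↥((P : Subgroup G) ⊓ centralizer ({c⁻¹ * a' * c} : Set G)) := by
        rw [← hE₀card]
        exact Subgroup.card_dvd_of_le hE₀le
      have h3 := Nat.mul_dvd_mul_right h2 (p ^ m.factorization p)
      rw [hS'card] at h3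
      exact Nat.dvd_antisymm h1 h3
    by_contra hnot
    -- the two blocks meet in `P ⊓ Z(G)`
    have hmeet : ((P : Subgroup G) ⊓ centralizer ({c⁻¹ * a' * c} : Set G)) ⊓
        ((P : Subgroup G) ⊓ centralizer ({a} : Set G)) ≤ (P : Subgroup G) ⊓ center G := by
      rintro x ⟨⟨hxP, hxa''⟩, -, hxa⟩
      refine ⟨hxP, ?_⟩
      by_contra hxz
      have hxp : IsPEl p x := IsPEl.of_mem P.isPGroup' hxP
      have h1 := cs3_ua_cent_eq hA hap haz hxp hxz (mem_cent_iff.1 hxa).symm
      have h2 := cs3_ua_cent_eq hA ha''p ha''z hxp hxz (mem_cent_iff.1 hxa'').symm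
      apply hnot
      rw [h1, ← h2]
      exact self_mem_cent _
    have hprod := Cfsg.Agent.Helper5.card_mul_set_mul_card_inf
      ((P : Subgroup G) ⊓ centralizer ({c⁻¹ * a' * c} : Set G))
      ((P : Subgroup G) ⊓ centralizer ({a} : Set G))
    have hsub : Nat.card ((((P : Subgroup G) ⊓ centralizer ({c⁻¹ * a' * c} : Set G) :
        Subgroup G) : Set G) * (((P : Subgroup G) ⊓ centralizer ({a} : Set G) : Subgroup G) :
        Set G) : Set G) ≤ Nat.card (P : Subgroup G) := by
      apply Nat.card_le_card_of_injective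
        (fun x => (⟨x.1, by
          obtain ⟨y, hy, z, hz, hyz⟩ := Set.mem_mul.1 x.2
          rw [← hyz]
          exact mul_mem hy.1 hz.1⟩ : (P : Subgroup G)))
      intro x y hxy
      apply Subtype.ext
      have h7 := congrArg (fun z : ↥(P : Subgroup G) => (z : G)) hxy
      exact h7
    have hinfcard : Nat.card ↥(((P : Subgroup G) ⊓ centralizer ({c⁻¹ * a' * c} : Set G)) ⊓
        ((P : Subgroup G) ⊓ centralizer ({a} : Set G))) ≤
        p ^ (Nat.card (center G)).factorization p :=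
      (Subgroup.card_le_of_le hmeet).trans
        (Nat.le_of_dvd (pow_pos hp.out.pos _) (cs3_ua_card_inf_center P))
    have hPcard : Nat.card (P : Subgroup G) = p ^ (Nat.card G).factorization p :=
      P.card_eq_multiplicity
    rw [hPcard] at hsub
    -- the arithmetic
    set X := Nat.card ↥((P : Subgroup G) ⊓ centralizer ({c⁻¹ * a' * c} : Set G)) with hX
    set Y := Nat.card ↥((P : Subgroup G) ⊓ centralizer ({a} : Set G)) with hY
    set vG := p ^ (Nat.card G).factorization p with hvG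
    set vm := p ^ m.factorization p with hvm
    set vz := p ^ (Nat.card (center G)).factorization p with hvz
    have hXY : X * Y ≤ vG * vz := by
      rw [← hprod]
      exact Nat.mul_le_mul hsub hinfcard
    have hvGpos : 0 < vG := pow_pos hp.out.pos _
    have h5 : vG * vG ≤ vG * (vm ^ 2 * vz) := by
      calc vG * vG = (X * vm) * (Y * vm) := by rw [hEcard, hBcard]
        _ = (X * Y) * vm ^ 2 := by ring
        _ ≤ (vG * vz) * vm ^ 2 := Nat.mul_le_mul_right _ hXY
        _ = vG * (vm ^ 2 * vz) := by ring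
    have h6 := Nat.le_of_mul_le_mul_left h5 hvGpos
    omega
  -- every element is conjugate into `C(a)`
  apply cs3_conj_cover (centralizer ({a} : Set G)) (cs3_ua_cent_ne_top haz)
  intro g
  obtain ⟨a', ha'p, ha'z, hcomm⟩ := h.exists_pel_commute hpm g
  obtain ⟨w, hw⟩ := key a' ha'p ha'z
  refine ⟨w, ?_⟩
  have ha''z : w⁻¹ * a' * w ∉ center G := cs3_ua_conj_not_center ha'z w
  have ha''p : IsPEl p (w⁻¹ * a' * w) := cs3_ua_conj_isPEl ha'p w
  have h1 := cs3_ua_cent_eq hA hap haz ha''p ha''z (mem_cent_iff.1 hw).symm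
  rw [h1, mem_cent_iff]
  show w⁻¹ * g * w * (w⁻¹ * a' * w) = w⁻¹ * a' * w * (w⁻¹ * g * w)
  have h3 : w⁻¹ * g * w * (w⁻¹ * a' * w) = w⁻¹ * (g * a') * w := by group
  have h4 : w⁻¹ * a' * w * (w⁻¹ * g * w) = w⁻¹ * (a' * g) * w := by group
  rw [h3, h4, hcomm.eq]

/-- if all stabilizers of an action of a finite group `Q` on a finite set have index `N`, then `N`
divides the number of points. -/
theorem cs3_ua_orbit_dvd {Q Y : Type*} [Group Q] [Finite Q] [MulAction Q Y] [Finite Y] (N : ℕ)
    (hst : ∀ y : Y, Nat.card (MulAction.stabilizer Q y) * N = Nat.card Q) : N ∣ Nat.card Y := by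
  classical
  haveI : Fintype (MulAction.orbitRel.Quotient Q Y) := Fintype.ofFinite _
  rw [Nat.card_congr (MulAction.selfEquivSigmaOrbits' Q Y), Nat.card_sigma]
  apply Finset.dvd_sum
  intro ω _
  induction ω using Quotient.inductionOn' with
  | h y =>
    rw [MulAction.orbitRel.Quotient.orbit_mk, Nat.card_coe_set_eq, ← MulAction.index_stabilizer]
    have h1 := (MulAction.stabilizer Q y).card_mul_index
    rw [← hst y] at h1
    have hpos : 0 < Nat.card (MulAction.stabilizer Q y) := Nat.card_pos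
    rw [Nat.eq_of_mul_eq_mul_left hpos h1]

/-- the conjugation form: a subgroup `P` permuting a finite set `X` of elements by conjugation, all
centralizers `P ⊓ C(k)`, `k ∈ X`, having index `N` in `P`. -/
theorem cs3_ua_conj_orbit_dvd (P : Subgroup G) (X : Set G)
    (hX : ∀ x ∈ P, ∀ k ∈ X, x * k * x⁻¹ ∈ X) (N : ℕ)
    (hst : ∀ k ∈ X, Nat.card ↥(P ⊓ centralizer ({k} : Set G)) * N = Nat.card P) :
    N ∣ Nat.card X := by
  letI : MulAction P X :=
    { smul := fun x k => ⟨(x : G) * k * (x : G)⁻¹, hX x x.2 k k.2⟩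
      one_smul := by
        intro k
        apply Subtype.ext
        show ((1 : P) : G) * k * ((1 : P) : G)⁻¹ = k
        simp
      mul_smul := by
        intro x y k
        apply Subtype.ext
        show ((x * y : P) : G) * k * ((x * y : P) : G)⁻¹ = (x : G) * ((y : G) * k * (y : G)⁻¹) * (x : G)⁻¹
        rw [Subgroup.coe_mul, mul_inv_rev]
        group }
  have hsmul : ∀ (x : P) (k : X), ((x • k : X) : G) = (x : G) * k * (x : G)⁻¹ := fun x k => rfl
  apply cs3_ua_orbit_dvd (Q := P) (Y := X) N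
  intro k
  rw [← hst k k.2]
  congr 1
  rw [← Subgroup.card_map_of_injective (K := MulAction.stabilizer P k) P.subtype_injective]
  have heq : (MulAction.stabilizer P k).map P.subtype = P ⊓ centralizer ({(k : G)} : Set G) := by
    ext x
    constructor
    · rintro ⟨y, hy, rfl⟩
      rw [SetLike.mem_coe, MulAction.mem_stabilizer_iff] at hy
      have h1 : (y : G) * k * (y : G)⁻¹ = k := by
        rw [← hsmul, hy]
      rw [Subgroup.mem_inf]
      refine ⟨y.2, ?_⟩
      rw [mem_cent_iff]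
      show (y : G) * k = k * (y : G)
      calc (y : G) * k = (y : G) * k * (y : G)⁻¹ * (y : G) := by group
        _ = k * (y : G) := by rw [h1]
    · intro hx
      obtain ⟨hxP, hxk⟩ := Subgroup.mem_inf.1 hx
      refine ⟨⟨x, hxP⟩, ?_, rfl⟩
      rw [SetLike.mem_coe, MulAction.mem_stabilizer_iff]
      apply Subtype.ext
      rw [hsmul]
      have h1 : Commute x (k : G) := mem_cent_iff.1 hxk
      show x * k * x⁻¹ = k
      rw [h1.eq, mul_assoc, mul_inv_cancel, mul_one]

  rw [heq]

/-- a Sylow `p`-subgroup `P`, `p ∣ m`, has an element outside `Z(G)` whose commutators with `P` are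
central in `P`. -/
theorem cs3_ua_exists_u (h : cs3_H G m n) {p : ℕ} [hp : Fact p.Prime] (hpm : p ∣ m)
    (P : Sylow p G) :
    ∃ u : G, u ∈ P ∧ u ∉ center G ∧
      ∀ g ∈ P, ∀ g' ∈ P, Commute g' (u * g * u⁻¹ * g⁻¹) := by
  -- `P` is not abelian
  have hne : center (P : Subgroup G) ≠ ⊤ := by
    intro htop
    have hle : (P : Subgroup G) ≤ (P : Subgroup G) ⊓ center G := by
      intro x hx
      refine ⟨hx, h.center_sylow hpm P hx ?_⟩
      intro g hg
      have h1 : (⟨x, hx⟩ : (P : Subgroup G)) ∈ center (P : Subgroup G) := by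
        rw [htop]
        exact mem_top _
      have h2 := (mem_center_iff.1 h1) ⟨g, hg⟩
      exact congrArg Subtype.val h2
    have h1 := Subgroup.card_le_of_le hle
    have h2 := Nat.le_of_dvd (pow_pos hp.out.pos _) (cs3_ua_card_inf_center P)
    have h3 := h.card_sylow_gt hpm
    rw [P.card_eq_multiplicity] at h1
    have h4 : 1 ≤ p ^ m.factorization p := Nat.one_le_pow _ _ hp.out.pos
    nlinarith
  obtain ⟨x₀, hx₀⟩ : ∃ x₀ : (P : Subgroup G), x₀ ∉ center (P : Subgroup G) := by
    by_contra hno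
    apply hne
    rw [eq_top_iff]
    intro x _
    by_contra hx
    exact hno ⟨x, hx⟩
  haveI : Nontrivial ((P : Subgroup G) ⧸ center (P : Subgroup G)) :=
    ⟨⟨(x₀ : (P : Subgroup G) ⧸ center (P : Subgroup G)), 1,
      fun he => hx₀ ((QuotientGroup.eq_one_iff x₀).1 he)⟩⟩
  have hPq : IsPGroup p ((P : Subgroup G) ⧸ center (P : Subgroup G)) :=
    P.isPGroup'.to_quotient _
  haveI := hPq.center_nontrivial
  obtain ⟨y, hy⟩ := exists_ne (1 : center ((P : Subgroup G) ⧸ center (P : Subgroup G)))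
  obtain ⟨u₀, hu₀⟩ := QuotientGroup.mk_surjective (y : (P : Subgroup G) ⧸ center (P : Subgroup G))
  have hu₀z : u₀ ∉ center (P : Subgroup G) := by
    intro hz
    apply hy
    apply Subtype.ext
    rw [← hu₀]
    exact (QuotientGroup.eq_one_iff u₀).2 hz
  have hcomm : ∀ g : (P : Subgroup G), u₀ * g * u₀⁻¹ * g⁻¹ ∈ center (P : Subgroup G) := by
    intro g
    rw [← QuotientGroup.eq_one_iff]
    have h1 := (mem_center_iff.1 y.2) (g : (P : Subgroup G) ⧸ center (P : Subgroup G))
    rw [QuotientGroup.mk_mul, QuotientGroup.mk_mul, QuotientGroup.mk_mul, QuotientGroup.mk_inv,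
      QuotientGroup.mk_inv, hu₀, ← h1, mul_assoc _ _ (y : (P : Subgroup G) ⧸ center (P : Subgroup G))⁻¹,
      mul_inv_cancel, mul_one, mul_inv_cancel]
  refine ⟨(u₀ : G), u₀.2, ?_, ?_⟩
  · intro hz
    apply hu₀z
    rw [mem_center_iff]
    intro g
    apply Subtype.ext
    exact (mem_center_iff.1 hz) (g : G)
  · intro g hg g' hg'
    have h1 := (mem_center_iff.1 (hcomm ⟨g, hg⟩)) ⟨g', hg'⟩
    exact congrArg Subtype.val h1

/-- (U-b) there is a noncentral `p`-element `u` such that for every prime `ℓ ≠ p`, `m_p` divides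
`|C(u)|_ℓ - z_ℓ`. -/
theorem cs3_H.U_orbit (h : cs3_H G m n) {p : ℕ} [hp : Fact p.Prime] (hpm : p ∣ m)
    (hA : cs3_AA p G) :
    ∃ u : G, IsPEl p u ∧ u ∉ center G ∧ ∀ ℓ : ℕ, ℓ.Prime → ℓ ≠ p →
      p ^ m.factorization p ∣ ℓ ^ (Nat.card (centralizer ({u} : Set G))).factorization ℓ -
        ℓ ^ (Nat.card (center G)).factorization ℓ := by
  obtain ⟨P⟩ : Nonempty (Sylow p G) := inferInstance
  obtain ⟨u, huP, huz, hu2⟩ := cs3_ua_exists_u h hpm P
  have hup : IsPEl p u := IsPEl.of_mem P.isPGroup' huP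
  refine ⟨u, hup, huz, ?_⟩
  -- `D = C(u)` is abelian and normalized by `P`
  have hab : ∀ c ∈ centralizer ({u} : Set G), ∀ d ∈ centralizer ({u} : Set G), Commute c d := by
    intro c hc d hd
    exact (hA u hup huz).1 c d (mem_cent_iff.1 hc) (mem_cent_iff.1 hd)
  have hnorm : ∀ x ∈ (P : Subgroup G), ∀ c ∈ centralizer ({u} : Set G),
      x * c * x⁻¹ ∈ centralizer ({u} : Set G) := by
    intro x hx c hc
    rw [mem_cent_iff]
    exact h.conj_mem_cent hpm P huP hu2 hx (mem_cent_iff.1 hc)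
  -- the Sylow `p`-subgroup of `D` lies in `P`
  obtain ⟨Rp, hRpD, hRpp, -, hRpall⟩ := cs3_ua_primary (centralizer ({u} : Set G)) hab p
  have hRpP : Rp ≤ (P : Subgroup G) := by
    have hn : (P : Subgroup G) ≤ normalizer (Rp : Set G) := by
      have key : ∀ x ∈ (P : Subgroup G), ∀ r ∈ Rp, x * r * x⁻¹ ∈ Rp := by
        intro x hx r hr
        apply hRpall _ (hnorm x hx r (hRpD hr))
        exact (IsPEl.of_mem hRpp hr).conj x
      intro x hx
      rw [mem_normalizer_iff]
      intro r
      constructor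
      · exact key x hx r
      · intro hr
        have h1 := key x⁻¹ (inv_mem hx) _ hr
        have h2 : x⁻¹ * (x * r * x⁻¹) * x⁻¹⁻¹ = r := by group
        rwa [h2] at h1
    have hsup : IsPGroup p ((P : Subgroup G) ⊔ Rp : Subgroup G) :=
      IsPGroup.to_sup_of_normal_right' P.isPGroup' hRpp hn
    have h1 := P.is_maximal' hsup le_sup_left
    calc Rp ≤ (P : Subgroup G) ⊔ Rp := le_sup_right
      _ = (P : Subgroup G) := h1
  -- `B = P ⊓ D` has order `|G|_p / m_p`
  have hBp : IsPGroup p ↥((P : Subgroup G) ⊓ centralizer ({u} : Set G)) :=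
    P.isPGroup'.to_le inf_le_left
  have hBcard : Nat.card ↥((P : Subgroup G) ⊓ centralizer ({u} : Set G)) * p ^ m.factorization p =
      p ^ (Nat.card G).factorization p := by
    obtain ⟨S, hSp, hSD, -, hScard⟩ := cs3_ua_exists_pgroup h hpm huz hup
    have hSle : S ≤ (P : Subgroup G) ⊓ centralizer ({u} : Set G) := by
      intro s hs
      refine ⟨hRpP (hRpall s (hSD hs) (IsPEl.of_mem hSp hs)), hSD hs⟩
    have h1 := cs3_ua_card_dvd h hpm huz _ hBp inf_le_right
    have h2 : Nat.card S ∣ Nat.card ↥((P : Subgroup G) ⊓ centralizer ({u} : Set G)) :=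
      Subgroup.card_dvd_of_le hSle
    have h3 := Nat.mul_dvd_mul_right h2 (p ^ m.factorization p)
    rw [hScard] at h3
    exact Nat.dvd_antisymm h1 h3
  intro ℓ hℓ hℓp
  haveI : Fact ℓ.Prime := ⟨hℓ⟩
  -- the `ℓ`-elements of `D` and of `Z(G)`
  obtain ⟨Rl, hRlD, hRlp, hRlcard, hRlall⟩ := cs3_ua_primary (centralizer ({u} : Set G)) hab ℓ
  have habz : ∀ c ∈ center G, ∀ d ∈ center G, Commute c d := by
    intro c hc d _
    exact ((mem_center_iff.1 hc) d).symm
  obtain ⟨Rz, hRzZ, hRzp, hRzcard, hRzall⟩ := cs3_ua_primary (center G) habz ℓ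
  have hinf : Rl ⊓ center G = Rz := by
    apply le_antisymm
    · rintro x ⟨hx1, hx2⟩
      exact hRzall x hx2 (IsPEl.of_mem hRlp hx1)
    · intro x hx
      refine ⟨hRlall x (center_le_centralizer _ (hRzZ hx)) (IsPEl.of_mem hRzp hx), hRzZ hx⟩
  -- the set `X` of the noncentral `ℓ`-elements of `D`
  have hXcard : Nat.card ((Rl : Set G) \ (center G : Set G) : Set G) =
      ℓ ^ (Nat.card (centralizer ({u} : Set G))).factorization ℓ -
        ℓ ^ (Nat.card (center G)).factorization ℓ := by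
    have h1 : (Rl : Set G) \ (center G : Set G) = (Rl : Set G) \ ((Rl ⊓ center G : Subgroup G) : Set G) := by
      ext x
      simp only [Set.mem_sdiff, SetLike.mem_coe, Subgroup.mem_inf, not_and]
      constructor
      · rintro ⟨h1, h2⟩
        exact ⟨h1, fun _ => h2⟩
      · rintro ⟨h1, h2⟩
        exact ⟨h1, h2 h1⟩
    rw [Nat.card_coe_set_eq, h1, Set.ncard_sdiff (by
      intro x hx
      exact hx.1) (Set.toFinite _), ← Nat.card_coe_set_eq, ← Nat.card_coe_set_eq, hinf]
    show Nat.card Rl - Nat.card Rz = _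
    rw [hRlcard, hRzcard]
  rw [← hXcard]
  apply cs3_ua_conj_orbit_dvd (P : Subgroup G)
  · -- `P` permutes `X`
    rintro x hx k ⟨hk1, hk2⟩
    refine ⟨?_, ?_⟩
    · apply hRlall _ (hnorm x hx k (hRlD hk1))
      exact (IsPEl.of_mem hRlp hk1).conj x
    · intro hc
      apply hk2
      by_contra hk3
      have h2 := cs3_ua_conj_not_center hk3 x⁻¹
      rw [inv_inv] at h2
      exact h2 hc
  · -- the stabilizers
    rintro k ⟨hk1, hk2⟩
    have hkz : k ∉ center G := hk2
    rw [P.card_eq_multiplicity, ← hBcard]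
    congr 1
    have hle : (P : Subgroup G) ⊓ centralizer ({u} : Set G) ≤
        (P : Subgroup G) ⊓ centralizer ({k} : Set G) := by
      intro b hb
      obtain ⟨hb1, hb2⟩ := Subgroup.mem_inf.1 hb
      rw [Subgroup.mem_inf]
      refine ⟨hb1, ?_⟩
      rw [mem_cent_iff]
      exact hab b hb2 k (hRlD hk1)
    have h1 := cs3_ua_card_dvd h hpm hkz _ (P.isPGroup'.to_le inf_le_left)
      (inf_le_right : (P : Subgroup G) ⊓ centralizer ({k} : Set G) ≤ _)
    have h2 := Subgroup.card_dvd_of_le hle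
    have h3 := Nat.mul_dvd_mul_right h2 (p ^ m.factorization p)
    rw [hBcard] at h3
    have h4 := Nat.dvd_antisymm h1 h3
    have hpos : 0 < p ^ m.factorization p := pow_pos hp.out.pos _
    rw [← hBcard] at h4
    exact Nat.eq_of_mul_eq_mul_right hpos h4

end Cfsg.Agent.CS3
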