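import Mathlib
import Cfsg.Agent.CS3.LemUa
import Cfsg.Agent.CS3.LemU2

set_option autoImplicit false

/-!
# S4284, package (E), the end: (U2) `|P| = p² z_p` and (U3) `|P : C_P(x)| = p`
-/

namespace Cfsg.Agent.CS3

open Subgroup
open Cfsg.Agent.CS4

variable {G : Type*} [Group G] [Finite G] {m n : ℕ}

/-- (U2) `|P| = p² z_p`. -/
theorem cs3_H.U_card (h : cs3_H G m n) {p : ℕ} [hp' : Fact p.Prime] (hp : p ∣ m)
    (hA : cs3_AA p G) :
    (Nat.card G).factorization p = (Nat.card (center G)).factorization p + 2 := by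
  have h1 := h.U_beta_le hp hA
  have h2 := h.fact_lt hp
  rw [h.U_mp hp hA] at h1 h2
  rw [pow_one, ← pow_add] at h1
  have h3 := (Nat.pow_le_pow_iff_right hp'.out.one_lt).mp h1
  omega

/-- for a noncentral `x ∈ P`: `r · z_r` divides `|C_P(x)|`. -/
theorem cs3_u3_card_ge {r : ℕ} [hr : Fact r.Prime] (P : Sylow r G) {x : G} (hx : x ∈ P)
    (hxz : x ∉ center G) :
    r ^ ((Nat.card (center G)).factorization r + 1) ∣
      Nat.card ↥((P : Subgroup G) ⊓ centralizer ({x} : Set G)) := by
  obtain ⟨Q, hQz, hQp, hQn, hQc⟩ := cs3_exists_central_part (G := G) r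
  have hQP : Q ≤ (P : Subgroup G) := hQp.le_sylow_of_normal P
  have hxr : IsPEl r x := IsPEl.of_mem P.2 hx
  have hT : IsPGroup r (Q ⊔ zpowers x : Subgroup G) :=
    hQp.to_sup_of_normal_left hxr.isPGroup_zpowers
  have hTle : (Q ⊔ zpowers x : Subgroup G) ≤ (P : Subgroup G) ⊓ centralizer ({x} : Set G) := by
    apply sup_le
    · apply le_inf hQP
      intro z hz
      rw [mem_cent_iff]
      exact (mem_center_iff.mp (hQz hz) x).symm
    · rw [zpowers_le]
      exact ⟨hx, self_mem_cent x⟩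
  obtain ⟨k, hk⟩ := IsPGroup.iff_card.mp hT
  have hzk : (Nat.card (center G)).factorization r + 1 ≤ k := by
    have h1 : Nat.card Q ∣ Nat.card (Q ⊔ zpowers x : Subgroup G) :=
      Subgroup.card_dvd_of_le le_sup_left
    rw [hQc, hk] at h1
    have h2 := (Nat.pow_dvd_pow_iff_le_right hr.out.one_lt).mp h1
    rcases Nat.lt_or_ge ((Nat.card (center G)).factorization r) k with h3 | h3
    · exact h3
    · exfalso
      have h4 : k = (Nat.card (center G)).factorization r := le_antisymm h3 h2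
      have h5 : Q = Q ⊔ zpowers x := by
        apply Subgroup.eq_of_le_of_card_ge le_sup_left
        rw [hQc, hk, h4]
      have h6 : x ∈ Q := by
        rw [h5]
        exact (le_sup_right : zpowers x ≤ Q ⊔ zpowers x) (mem_zpowers x)
      exact hxz (hQz h6)
  have h7 := Subgroup.card_dvd_of_le hTle
  rw [hk] at h7
  exact (pow_dvd_pow r hzk).trans h7

/-- (U3) every noncentral `x ∈ P` has `|P : C_P(x)| = p`. -/
theorem cs3_H.U_block (h : cs3_H G m n) {p : ℕ} [hp' : Fact p.Prime] (hp : p ∣ m)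
    (hA : cs3_AA p G) (P : Sylow p G) {x : G} (hx : x ∈ P) (hxz : x ∉ center G) :
    Nat.card ↥((P : Subgroup G) ⊓ centralizer ({x} : Set G)) * p = Nat.card P := by
  have hN := h.U_card hp hA
  have hB : IsPGroup p ↥((P : Subgroup G) ⊓ centralizer ({x} : Set G)) := P.2.to_le inf_le_left
  obtain ⟨k, hk⟩ := IsPGroup.iff_card.mp hB
  have h1 := cs3_u3_card_ge P hx hxz
  rw [hk] at h1
  have h2 := (Nat.pow_dvd_pow_iff_le_right hp'.out.one_lt).mp h1
  have hd : p ^ 1 ∣ idx x := by
    rw [pow_one]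
    exact hp.trans (h.m_dvd_idx hxz)
  have h3 := card_pgroup_cent_dvd hd _ hB inf_le_right
  rw [hk, ← pow_add] at h3
  have h4 := (Nat.pow_dvd_pow_iff_le_right hp'.out.one_lt).mp h3
  have h5 : k + 1 = (Nat.card G).factorization p := by omega
  rw [hk, P.card_eq_multiplicity, ← h5, pow_succ]

end Cfsg.Agent.CS3
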