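import Mathlib
import Cfsg.Agent.CS3.Defs
import Cfsg.Agent.CS3.Basic
import Cfsg.Agent.CS3.Prim
import Cfsg.Agent.CS3.Types
import Cfsg.Agent.CS3.PiEl
import Cfsg.Agent.CS3.ClaimX

set_option autoImplicit false
set_option linter.unusedVariables false
set_option linter.unusedSectionVars false

/-!
# S4284, package (D): type (6c) does not occur (Lemma 8), and the elements of `L` (Lemma 9)
-/

namespace Cfsg.Agent.CS3

open Subgroup
open scoped Pointwise
open Cfsg.Agent.CS4

variable {G : Type*} [Group G] [Finite G] {m n : ℕ}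

/-- an element of class size `m` is not central -/
theorem cs3_H.notc_not_center (h : cs3_H G m n) {y : G} (hyS : idx y = m) : y ∉ center G := by
  intro hc
  have := (idx_eq_one_iff y).mpr hc
  have hm := h.hm
  omega

/-- an element of class size `m * n` is not central -/
theorem cs3_H.notc_not_center_L (h : cs3_H G m n) {y : G} (hyL : idx y = m * n) :
    y ∉ center G := by
  intro hc
  have := (idx_eq_one_iff y).mpr hc
  have hm := h.hm
  have := h.m_lt_mn
  omega

/-- a noncentral element whose centralizer contains the centralizer of an element of `S` has the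
same centralizer and lies in `S` -/
theorem cs3_H.notc_cent_eq (h : cs3_H G m n) {y u : G} (hyS : idx y = m) (hu : u ∉ center G)
    (hle : centralizer ({y} : Set G) ≤ centralizer ({u} : Set G)) :
    centralizer ({y} : Set G) = centralizer ({u} : Set G) ∧ idx u = m := by
  have hd : idx u ∣ idx y := idx_dvd_of_cent_le hle
  rw [hyS] at hd
  have hum : idx u = m := by
    rcases h.idx_of_not_center hu with h1 | h1
    · exact h1
    · exfalso
      rw [h1] at hd
      have := Nat.le_of_dvd h.m_pos hd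
      have := h.m_lt_mn
      omega
  exact ⟨h.cent_eq_of_le (hyS.trans hum.symm) hle, hum⟩

/-- a `t`-element is conjugate into any Sylow `t`-subgroup -/
theorem cs3_notc_conj_mem_sylow {t : ℕ} [Fact t.Prime] {w : G} (hw : IsPEl t w)
    (T : Sylow t G) : ∃ g : G, g * w * g⁻¹ ∈ T := by
  obtain ⟨T', hT'⟩ := hw.isPGroup_zpowers.exists_le_sylow
  obtain ⟨g, hg⟩ := MulAction.exists_smul_eq G T' T
  refine ⟨g, ?_⟩
  have h1 : w ∈ (T' : Subgroup G) := hT' (mem_zpowers w)
  have h2 : MulAut.conj g • w ∈ MulAut.conj g • (T' : Subgroup G) :=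
    Subgroup.smul_mem_pointwise_smul w (MulAut.conj g) _ h1
  have h3 : MulAut.conj g • (T' : Subgroup G) = (T : Subgroup G) := by
    rw [← hg]; rfl
  rw [h3] at h2
  exact h2

/-- Lemma 8, first case: `r = p ∣ m`. -/
theorem cs3_H.not_Tc_pi (h : cs3_H G m n) {p t : ℕ} [Fact p.Prime] (hp : p ∣ m) {y : G}
    (hy : IsPEl p y) (hyS : idx y = m) : ¬ cs3_Tc n p t y := by
  rintro ⟨ht, htp, htn, hnt, ⟨z₀, c₀, hz₀y, hc₀y, hz₀t, hc₀z₀⟩, hcen⟩
  have hpp : p.Prime := Fact.out
  have : Fact t.Prime := ⟨ht⟩
  have hyz : y ∉ center G := h.notc_not_center hyS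
  have htm : ¬ t ∣ m := by
    intro htm
    have := Nat.Coprime.eq_one_of_dvd (Nat.Coprime.coprime_dvd_left htm h.cop) htn
    exact ht.one_lt.ne' this
  -- every `t`-element of `H` commutes with every `t`-regular element of `H`
  have hq : ∀ u e : G, Commute u y → Commute e y → IsPEl t u → (orderOf e).Coprime t →
      Commute u e := by
    intro u e huy hey hut het
    by_contra hne
    obtain ⟨ℓ, hℓ, hℓd, e', he', he'ℓ, hue'⟩ := cs3_exists_primary_not_commute hne
    have he'y : Commute e' y := (cs3_commute_of_mem_zpowers hey.symm he').symm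
    have hℓt : ℓ ≠ t := by
      intro hℓt
      rw [hℓt] at hℓd
      have := Nat.Coprime.eq_one_of_dvd het.symm hℓd
      exact ht.one_lt.ne' this
    by_cases hℓp : ℓ = p
    · rw [hℓp] at he'ℓ
      exact hue' (h.camina_commute hp hy hyz he'y he'ℓ huy
        (cs3_isPEl_coprime ht hpp htp hut)).symm
    · exact hue' (hcen ℓ hℓ hℓp hℓt e' u he'y huy he'ℓ)
  -- a Sylow `t`-subgroup inside `H`
  obtain ⟨Q, hQ⟩ := exists_sylow_le_cent (p := t) (g := y) (by rw [hyS]; exact htm)
  -- the centralizer of every noncentral element of `Q` lies in `H`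
  have hQH : ∀ u ∈ Q, u ∉ center G → centralizer ({u} : Set G) ≤ centralizer ({y} : Set G) := by
    intro u huQ huz
    have hut : IsPEl t u := IsPEl.of_mem Q.isPGroup' huQ
    have huy : Commute u y := mem_cent_iff.mp (hQ huQ)
    by_cases hcQ : ∀ g ∈ Q, Commute g u
    · -- `u` central in `Q`: `H ≤ C(u)`
      have hle : centralizer ({y} : Set G) ≤ centralizer ({u} : Set G) := by
        apply cs3_le_of_relIndex
        intro ℓ hℓ
        have : Fact ℓ.Prime := ⟨hℓ⟩
        by_cases hℓt : ℓ = t
        · subst hℓt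
          apply cs3_not_dvd_relIndex_of_sylow _ _ Q _ hQ
          intro g hg
          exact mem_cent_iff.mpr (hcQ g hg)
        · apply cs3_not_dvd_relIndex
          intro z hz hzℓ
          apply mem_cent_iff.mpr
          exact (hq u z huy (mem_cent_iff.mp hz) hut (cs3_isPEl_coprime hℓ ht hℓt hzℓ)).symm
      exact (h.notc_cent_eq hyS huz hle).1.ge
    · push Not at hcQ
      obtain ⟨g, hgQ, hgu⟩ := hcQ
      have hgy : Commute g y := mem_cent_iff.mp (hQ hgQ)
      have hL : idx (y * u) = m * n :=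
        h.idx_mul_of_S hpp hy hyS huy (cs3_isPEl_coprime ht hpp htp hut) hgy hgu
      have huS : idx u ≠ m := by
        intro huS
        have := h.claimX htp hut hy huS hyS huy
        apply hgu
        have hg' : g ∈ centralizer ({u} : Set G) := by rw [this]; exact mem_cent_iff.mpr hgy
        exact mem_cent_iff.mp hg'
      have huL : idx u = m * n := by
        rcases h.idx_of_not_center huz with h1 | h1
        · exact absurd h1 huS
        · exact h1
      exact h.cent_le_of_L huL huy (cs3_coprime_of_isPEl hut (cs3_isPEl_coprime hpp ht htp.symm hy))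
  -- the noncentral `t`-element `z₀` lies in `L`
  have hz₀L : idx z₀ = m * n := by
    have hz₀z : z₀ ∉ center G := by
      intro hc
      exact hc₀z₀ ((mem_center_iff.mp hc) c₀)
    have hz₀S : idx z₀ ≠ m := by
      intro hS
      have := h.claimX htp hz₀t hy hS hyS hz₀y
      apply hc₀z₀
      have hc' : c₀ ∈ centralizer ({z₀} : Set G) := by rw [this]; exact mem_cent_iff.mpr hc₀y
      exact mem_cent_iff.mp hc'
    rcases h.idx_of_not_center hz₀z with h1 | h1
    · exact absurd h1 hz₀S
    · exact h1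
  -- every element is conjugate into `H`
  apply cs3_conj_cover (centralizer ({y} : Set G))
  · intro htop
    have : idx y = 1 := by
      show (centralizer ({y} : Set G)).index = 1
      rw [htop, index_top]
    have hm := h.hm
    omega
  · intro g
    obtain ⟨a, hat, haz, hag⟩ := h.exists_rel_commute hz₀t hz₀L g
    obtain ⟨w, hw⟩ := cs3_notc_conj_mem_sylow hat Q
    have hwz : w * a * w⁻¹ ∉ center G := by
      intro hc
      apply haz
      have : a = w⁻¹ * (w * a * w⁻¹) * w⁻¹⁻¹ := by group
      rw [this]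
      exact (Subgroup.normal_of_characteristic (center G)).conj_mem _ hc _
    have h1 := hQH _ hw hwz
    refine ⟨w⁻¹, ?_⟩
    rw [inv_inv]
    apply h1
    apply mem_cent_iff.mpr
    have : Commute (w * g * w⁻¹) (w * a * w⁻¹) := by
      show w * g * w⁻¹ * (w * a * w⁻¹) = w * a * w⁻¹ * (w * g * w⁻¹)
      have e1 : w * g * w⁻¹ * (w * a * w⁻¹) = w * (g * a) * w⁻¹ := by group
      have e2 : w * a * w⁻¹ * (w * g * w⁻¹) = w * (a * g) * w⁻¹ := by group
      rw [e1, e2, hag.eq]
    exact this

/-- a prime dividing `m` does not divide `n` -/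
theorem cs3_H.notc_not_dvd_n (h : cs3_H G m n) {p : ℕ} (hp : p.Prime) (hpm : p ∣ m) : ¬ p ∣ n := by
  intro hpn
  have := Nat.Coprime.eq_one_of_dvd (Nat.Coprime.coprime_dvd_left hpm h.cop) hpn
  exact hp.one_lt.ne' this

/-- `n` is not a power of a prime dividing `m` -/
theorem cs3_H.notc_not_pow (h : cs3_H G m n) {p : ℕ} (hp : p.Prime) (hpm : p ∣ m) :
    ¬ ∃ k : ℕ, n = p ^ k := by
  rintro ⟨k, hk⟩
  rcases Nat.eq_zero_or_pos k with h0 | h0
  · rw [h0, pow_zero] at hk
    have := h.hn
    omega
  · apply h.notc_not_dvd_n hp hpm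
    rw [hk]
    exact dvd_pow_self p h0.ne'

/-- Lemma 8. -/
theorem cs3_H.not_Tc (h : cs3_H G m n) {r t : ℕ} [Fact r.Prime] {y : G} (hy : IsPEl r y)
    (hyS : idx y = m) : ¬ cs3_Tc n r t y := by
  intro hTc
  have hrp : r.Prime := Fact.out
  have hyz : y ∉ center G := h.notc_not_center hyS
  have hy1 : y ≠ 1 := fun e => hyz (e ▸ one_mem _)
  have hrd : r ∣ Nat.card G := by
    obtain ⟨k, hk⟩ := hy
    have hk0 : k ≠ 0 := by
      intro h0
      rw [h0, pow_zero, orderOf_eq_one_iff] at hk
      exact hy1 hk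
    have h1 : r ∣ orderOf y := by
      rw [hk]
      exact dvd_pow_self r hk0
    exact h1.trans (orderOf_dvd_natCard y)
  rcases h.prime_dvd_card hrp hrd with hrm | hrn
  · exact h.not_Tc_pi hrm hy hyS hTc
  · obtain ⟨ht, htr, htn, hnt, ⟨z₀, c₀, hz₀y, hc₀y, hz₀t, hc₀z₀⟩, hcen⟩ := hTc
    obtain ⟨p, hp, hpm⟩ := Nat.exists_prime_and_dvd h.hm.ne'
    have : Fact p.Prime := ⟨hp⟩
    obtain ⟨a, hap, haz, hay⟩ := h.exists_pel_commute hpm y
    have hpr : p ≠ r := by
      intro e
      exact h.notc_not_dvd_n hp hpm (e ▸ hrn)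
    have hpt : p ≠ t := by
      intro e
      exact h.notc_not_dvd_n hp hpm (e ▸ htn)
    have hle : centralizer ({y} : Set G) ≤ centralizer ({a} : Set G) := by
      intro c hc
      exact mem_cent_iff.mpr (hcen p hp hpr hpt a c hay (mem_cent_iff.mp hc) hap)
    obtain ⟨hCeq, haS⟩ := h.notc_cent_eq hyS haz hle
    rcases h.tricho hap haS with hTa | hpow | ⟨t', hTc'⟩
    · apply hc₀z₀
      have hz₀a : Commute z₀ a := by
        have : z₀ ∈ centralizer ({a} : Set G) := hCeq ▸ mem_cent_iff.mpr hz₀y
        exact mem_cent_iff.mp this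
      have hc₀a : Commute c₀ a := by
        have : c₀ ∈ centralizer ({a} : Set G) := hCeq ▸ mem_cent_iff.mpr hc₀y
        exact mem_cent_iff.mp this
      exact hTa z₀ c₀ hz₀a hc₀a (cs3_isPEl_coprime ht hp hpt.symm hz₀t)
    · exact h.notc_not_pow hp hpm hpow
    · exact h.not_Tc_pi hpm hap haS hTc'

/-- so every prime-power `y ∈ S` has type (6a) or (6b) -/
theorem cs3_H.Ta_or_pow (h : cs3_H G m n) {r : ℕ} [Fact r.Prime] {y : G} (hy : IsPEl r y)
    (hyS : idx y = m) : cs3_Ta r y ∨ ∃ k : ℕ, n = r ^ k := by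
  rcases h.tricho hy hyS with hTa | hpow | ⟨t, hTc⟩
  · exact Or.inl hTa
  · exact Or.inr hpow
  · exact absurd hTc (h.not_Tc hy hyS)

/-- ... and type (6a) if `r ∣ m` (`n > 1` is prime to `m`) -/
theorem cs3_H.Ta_of_dvd (h : cs3_H G m n) {p : ℕ} [Fact p.Prime] (hp : p ∣ m) {y : G}
    (hy : IsPEl p y) (hyS : idx y = m) : cs3_Ta p y := by
  rcases h.Ta_or_pow hy hyS with hTa | hpow
  · exact hTa
  · exact absurd hpow (h.notc_not_pow Fact.out hp)

/-- Lemma 9.  `x ∈ L` an `r`-element.  Either every `r`-regular element of `C(x)` is central in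
`G`, or `C(x)` is abelian. -/
theorem cs3_H.lemma9 (h : cs3_H G m n) {r : ℕ} [Fact r.Prime] {x : G} (hx : IsPEl r x)
    (hxL : idx x = m * n) :
    (∀ z : G, Commute z x → (orderOf z).Coprime r → z ∈ center G) ∨
      ∀ c d : G, Commute c x → Commute d x → Commute c d := by
  have hrp : r.Prime := Fact.out
  -- the `r`-regular elements of `C(x)` are central in `C(x)`
  have hB2 : ∀ z ∈ centralizer ({x} : Set G), (orderOf z).Coprime r →
      ∀ c ∈ centralizer ({x} : Set G), Commute c z := by
    intro z hz hzr c hc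
    have hzx : Commute z x := mem_cent_iff.mp hz
    have := h.cent_le_of_L hxL hzx.symm (cs3_coprime_of_isPEl hx hzr) hc
    exact mem_cent_iff.mp this
  by_cases hall : ∀ z : G, Commute z x → (orderOf z).Coprime r → z ∈ center G
  · exact Or.inl hall
  right
  push Not at hall
  obtain ⟨z, hzx, hzr, hzc⟩ := hall
  -- a noncentral primary part `y` of `z`
  obtain ⟨g, hg⟩ : ∃ g : G, ¬ Commute g z := by
    by_contra hcon
    push Not at hcon
    exact hzc (mem_center_iff.mpr fun g => (hcon g).eq)
  obtain ⟨ℓ, hℓ, hℓd, y, hyz, hyℓ, hgy⟩ := cs3_exists_primary_not_commute hg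
  have : Fact ℓ.Prime := ⟨hℓ⟩
  have hℓr : ℓ ≠ r := by
    intro e
    rw [e] at hℓd
    have := Nat.Coprime.eq_one_of_dvd hzr.symm hℓd
    exact hrp.one_lt.ne' this
  have hyc : y ∉ center G := fun hc => hgy ((mem_center_iff.mp hc) g)
  have hyx : Commute y x := (cs3_commute_of_mem_zpowers hzx.symm hyz).symm
  have hyr : (orderOf y).Coprime r := cs3_isPEl_coprime hℓ hrp hℓr hyℓ
  have hle : centralizer ({x} : Set G) ≤ centralizer ({y} : Set G) :=
    h.cent_le_of_L hxL hyx.symm (cs3_coprime_of_isPEl hx hyr)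
  have hab : ∀ c ∈ centralizer ({x} : Set G), ∀ d ∈ centralizer ({x} : Set G), Commute c d := by
    rcases h.idx_of_not_center hyc with hyS | hyL
    · -- `y ∈ S`
      have hxℓ : (orderOf x).Coprime ℓ := cs3_isPEl_coprime hrp hℓ hℓr.symm hx
      have hpow : ∃ k : ℕ, n = ℓ ^ k := by
        rcases h.Ta_or_pow hyℓ hyS with hTa | hpow
        · exfalso
          -- `x` is central in `C(y)`: `C(y) ≤ C(x)`, so `idx x ∣ idx y`
          have hle' : centralizer ({y} : Set G) ≤ centralizer ({x} : Set G) := by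
            intro c hc
            exact mem_cent_iff.mpr (hTa x c hyx.symm (mem_cent_iff.mp hc) hxℓ)
          have hd : idx x ∣ idx y := idx_dvd_of_cent_le hle'
          rw [hxL, hyS] at hd
          have := Nat.le_of_dvd h.m_pos hd
          have := h.m_lt_mn
          omega
        · exact hpow
      apply cs3_abelian_of_central (r := r) (centralizer ({x} : Set G)) hB2
      intro R hRH hRp
      exact h.Tb_abelian hyℓ hyS (Or.inr hpow) hℓr.symm R hRp (hRH.trans hle)
    · -- `y ∈ L`
      have hCeq : centralizer ({x} : Set G) = centralizer ({y} : Set G) :=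
        h.cent_eq_of_le (hxL.trans hyL.symm) hle
      apply cs3_abelian_of_two_primes hrp hℓ hℓr.symm (centralizer ({x} : Set G)) hB2
      intro w hw hwℓ c hc
      have hwy : Commute w y := mem_cent_iff.mp (hle hw)
      have := h.cent_le_of_L hyL hwy.symm (cs3_coprime_of_isPEl hyℓ hwℓ) (hle hc)
      exact mem_cent_iff.mp this
  intro c d hc hd
  exact hab c (mem_cent_iff.mpr hc) d (mem_cent_iff.mpr hd)

end Cfsg.Agent.CS3
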