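import Mathlib
import Cfsg.Agent.Helper5.ProdCard

set_option autoImplicit false

/-!
# S4284, case P1, (T5): the order of the commutator subgroup

A finite group `Q` with an abelian normal subgroup `A` of prime index `p` and an element `h ∉ A` whose
centralizer has index `p`: the commutator subgroup has order `p`.
-/

namespace Cfsg.Agent.CS3

open Subgroup
open scoped Pointwise commutatorElement

/-- `x ↦ x h x⁻¹ h⁻¹` as a homomorphism on an abelian normal subgroup `A`. -/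
def cs3_t5_hom {Q : Type*} [Group Q] (A : Subgroup Q) [hn : A.Normal]
    (hA : ∀ x ∈ A, ∀ y ∈ A, Commute x y) (h : Q) : ↥A →* Q :=
  MonoidHom.mk' (fun x => (x : Q) * h * (x : Q)⁻¹ * h⁻¹) (by
    have hmem : ∀ x : ↥A, (x : Q) * h * (x : Q)⁻¹ * h⁻¹ ∈ A := by
      intro x
      have h1 : h * (x : Q)⁻¹ * h⁻¹ ∈ A := hn.conj_mem _ (inv_mem x.2) h
      have h2 := mul_mem x.2 h1
      have h3 : (x : Q) * h * (x : Q)⁻¹ * h⁻¹ = (x : Q) * (h * (x : Q)⁻¹ * h⁻¹) := by group
      rw [h3]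
      exact h2
    intro a b
    have hc := hA (a : Q) a.2 _ (hmem b)
    have hc2 := hA _ (hmem b) _ (hmem a)
    show ((a : Q) * (b : Q)) * h * ((a : Q) * (b : Q))⁻¹ * h⁻¹ =
      ((a : Q) * h * (a : Q)⁻¹ * h⁻¹) * ((b : Q) * h * (b : Q)⁻¹ * h⁻¹)
    calc ((a : Q) * (b : Q)) * h * ((a : Q) * (b : Q))⁻¹ * h⁻¹
        = ((a : Q) * ((b : Q) * h * (b : Q)⁻¹ * h⁻¹)) * (h * (a : Q)⁻¹ * h⁻¹) := by group
      _ = (((b : Q) * h * (b : Q)⁻¹ * h⁻¹) * (a : Q)) * (h * (a : Q)⁻¹ * h⁻¹) := by rw [hc.eq]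
      _ = ((b : Q) * h * (b : Q)⁻¹ * h⁻¹) * ((a : Q) * h * (a : Q)⁻¹ * h⁻¹) := by group
      _ = ((a : Q) * h * (a : Q)⁻¹ * h⁻¹) * ((b : Q) * h * (b : Q)⁻¹ * h⁻¹) := hc2.eq)

theorem cs3_t5_hom_apply {Q : Type*} [Group Q] (A : Subgroup Q) [A.Normal]
    (hA : ∀ x ∈ A, ∀ y ∈ A, Commute x y) (h : Q) (x : ↥A) :
    cs3_t5_hom A hA h x = (x : Q) * h * (x : Q)⁻¹ * h⁻¹ := rfl

/-- a finite group `Q` with an abelian normal subgroup `A` of prime index `p` and an element
`h ∉ A` whose centralizer has index `p`: the commutator subgroup has order `p`. -/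
theorem cs3_card_commutator {Q : Type*} [Group Q] [Finite Q] {p : ℕ} (hp : p.Prime)
    (A : Subgroup Q) [A.Normal] (hA : ∀ x ∈ A, ∀ y ∈ A, Commute x y) (hidx : A.index = p) (h : Q)
    (hh : h ∉ A) (hch : (centralizer ({h} : Set Q)).index = p) :
    Nat.card (commutator Q) = p := by
  haveI : Fact p.Prime := ⟨hp⟩
  have hAn : A.Normal := inferInstance
  -- every element is `h ^ i * a`
  have hdec : ∀ g : Q, ∃ i : ℕ, ∃ a ∈ A, g = h ^ i * a := by
    intro g
    have hcard : Nat.card (Q ⧸ A) = p := hidx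
    have hne : ((h : Q) : Q ⧸ A) ≠ 1 := fun h1 => hh ((QuotientGroup.eq_one_iff h).mp h1)
    have htop := zpowers_eq_top_of_prime_card hcard hne
    have hmem : ((g : Q) : Q ⧸ A) ∈ zpowers ((h : Q) : Q ⧸ A) := by
      rw [htop]
      trivial
    rw [← mem_powers_iff_mem_zpowers] at hmem
    obtain ⟨i, hi⟩ := hmem
    refine ⟨i, (h ^ i)⁻¹ * g, ?_, by group⟩
    rw [← QuotientGroup.eq, QuotientGroup.mk_pow]
    exact hi
  obtain ⟨f, hf⟩ : ∃ f : ↥A →* Q, f = cs3_t5_hom A hA h := ⟨_, rfl⟩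
  have hfx : ∀ x : ↥A, f x = (x : Q) * h * (x : Q)⁻¹ * h⁻¹ := fun x => by rw [hf]; rfl
  have hfA : ∀ x : ↥A, f x ∈ A := by
    intro x
    rw [hfx]
    have h1 : h * (x : Q)⁻¹ * h⁻¹ ∈ A := hAn.conj_mem _ (inv_mem x.2) h
    have h2 := mul_mem x.2 h1
    have h3 : (x : Q) * h * (x : Q)⁻¹ * h⁻¹ = (x : Q) * (h * (x : Q)⁻¹ * h⁻¹) := by group
    rw [h3]
    exact h2
  have hf1 : ∀ x : ↥A, f x = 1 ↔ Commute (x : Q) h := by
    intro x
    rw [hfx, mul_inv_eq_one, mul_inv_eq_iff_eq_mul]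
    exact Iff.rfl
  have hIA : f.range ≤ A := by
    rintro _ ⟨x, rfl⟩
    exact hfA x
  -- `f.range` is normalized by `h`
  have hconj_h : ∀ k ∈ f.range, h * k * h⁻¹ ∈ f.range := by
    rintro _ ⟨x, rfl⟩
    refine ⟨⟨h * x * h⁻¹, hAn.conj_mem x x.2 h⟩, ?_⟩
    rw [hfx, hfx]
    show (h * (x : Q) * h⁻¹) * h * (h * (x : Q) * h⁻¹)⁻¹ * h⁻¹ =
      h * ((x : Q) * h * (x : Q)⁻¹ * h⁻¹) * h⁻¹
    group
  have hconj_pow : ∀ i : ℕ, ∀ k ∈ f.range, h ^ i * k * (h ^ i)⁻¹ ∈ f.range := by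
    intro i
    induction i with
    | zero => intro k hk; simpa using hk
    | succ i ih =>
      intro k hk
      have h1 : h ^ (i + 1) * k * (h ^ (i + 1))⁻¹ = h * (h ^ i * k * (h ^ i)⁻¹) * h⁻¹ := by
        rw [pow_succ']; group
      rw [h1]
      exact hconj_h _ (ih k hk)
  have hIn : f.range.Normal := by
    constructor
    intro k hk g
    obtain ⟨i, a, ha, rfl⟩ := hdec g
    have h1 : a * k * a⁻¹ = k := by
      rw [(hA a ha k (hIA hk)).eq, mul_assoc, mul_inv_cancel, mul_one]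
    have h2 : h ^ i * a * k * (h ^ i * a)⁻¹ = h ^ i * (a * k * a⁻¹) * (h ^ i)⁻¹ := by group
    rw [h2, h1]
    exact hconj_pow i k hk
  -- the quotient by `f.range` is commutative
  have hπA : ∀ a ∈ A, ∀ b ∈ A,
      Commute (QuotientGroup.mk' f.range a) (QuotientGroup.mk' f.range b) :=
    fun a ha b hb => (hA a ha b hb).map _
  have hπh : ∀ a ∈ A, Commute (QuotientGroup.mk' f.range a) (QuotientGroup.mk' f.range h) := by
    intro a ha
    rw [← commutatorElement_eq_one_iff_commute, ← map_commutatorElement, QuotientGroup.mk'_apply,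
      QuotientGroup.eq_one_iff]
    refine ⟨⟨a, ha⟩, ?_⟩
    rw [hfx, commutatorElement_def]
  have hcomm_all : ∀ g₁ g₂ : Q,
      Commute (QuotientGroup.mk' f.range g₁) (QuotientGroup.mk' f.range g₂) := by
    intro g₁ g₂
    obtain ⟨i, a, ha, rfl⟩ := hdec g₁
    obtain ⟨j, b, hb, rfl⟩ := hdec g₂
    rw [map_mul, map_mul, map_pow, map_pow]
    have h1 : Commute (QuotientGroup.mk' f.range h) (QuotientGroup.mk' f.range h) := Commute.refl _
    have h2 := hπh a ha
    have h3 := hπh b hb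
    have h4 := hπA a ha b hb
    exact Commute.mul_left (Commute.mul_right (h1.pow_pow i j) (h3.symm.pow_left i))
      (Commute.mul_right (h2.pow_right j) h4)
  have hcomm_eq : commutator Q = f.range := by
    apply le_antisymm
    · rw [commutator_def, Subgroup.commutator_le]
      intro g₁ _ g₂ _
      have h1 := hcomm_all g₁ g₂
      rw [← commutatorElement_eq_one_iff_commute, ← map_commutatorElement, QuotientGroup.mk'_apply,
        QuotientGroup.eq_one_iff] at h1
      exact h1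
    · rintro _ ⟨x, rfl⟩
      rw [commutator_def]
      have h1 : f x = ⁅(x : Q), h⁆ := by rw [hfx, commutatorElement_def]
      rw [h1]
      exact Subgroup.commutator_mem_commutator (mem_top _) (mem_top _)
  rw [hcomm_eq]
  -- counting
  have hker : (f.ker).map A.subtype = centralizer ({h} : Set Q) ⊓ A := by
    ext y
    constructor
    · rintro ⟨x, hx, rfl⟩
      refine ⟨?_, x.2⟩
      show (x : Q) ∈ centralizer ({h} : Set Q)
      rw [mem_centralizer_singleton_iff]
      exact ((hf1 x).mp hx).eq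
    · rintro ⟨hyc, hyA⟩
      refine ⟨⟨y, hyA⟩, (hf1 ⟨y, hyA⟩).mpr ?_, rfl⟩
      have hyc' : y ∈ centralizer ({h} : Set Q) := hyc
      rw [mem_centralizer_singleton_iff] at hyc'
      exact hyc'
  have hcker : Nat.card f.ker = Nat.card ↥(centralizer ({h} : Set Q) ⊓ A) := by
    rw [← hker, Subgroup.card_map_of_injective A.subtype_injective]
  have hprod := Cfsg.Agent.Helper5.card_mul_set_mul_card_inf (centralizer ({h} : Set Q)) A
  have huniv : ((centralizer ({h} : Set Q) : Set Q) * (A : Set Q) : Set Q) = Set.univ := by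
    ext g
    simp only [Set.mem_univ, iff_true]
    obtain ⟨i, a, ha, rfl⟩ := hdec g
    refine Set.mul_mem_mul ?_ ha
    apply pow_mem
    show h ∈ centralizer ({h} : Set Q)
    rw [mem_centralizer_singleton_iff]
  rw [huniv, Nat.card_congr (Equiv.Set.univ Q)] at hprod
  have hA1 := A.index_mul_card
  have hC1 := (centralizer ({h} : Set Q)).index_mul_card
  rw [hidx] at hA1
  rw [hch] at hC1
  have hker2 := f.ker.card_mul_index
  rw [Subgroup.index_ker, hcker] at hker2
  have hppos : 0 < p := hp.pos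
  have hApos : 0 < Nat.card A := Nat.card_pos
  have hCApos : 0 < Nat.card ↥(centralizer ({h} : Set Q) ⊓ A) := Nat.card_pos
  have hAC : Nat.card A = Nat.card (centralizer ({h} : Set Q)) := by
    apply Nat.eq_of_mul_eq_mul_left hppos
    rw [hA1, hC1]
  -- `p * |A| * |C ⊓ A| = |C| * |A| = |A| * |A|`
  have h5 : p * Nat.card ↥(centralizer ({h} : Set Q) ⊓ A) = Nat.card A := by
    apply Nat.eq_of_mul_eq_mul_left hApos
    calc Nat.card A * (p * Nat.card ↥(centralizer ({h} : Set Q) ⊓ A))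
        = (p * Nat.card A) * Nat.card ↥(centralizer ({h} : Set Q) ⊓ A) := by ring
      _ = Nat.card Q * Nat.card ↥(centralizer ({h} : Set Q) ⊓ A) := by rw [hA1]
      _ = Nat.card (centralizer ({h} : Set Q)) * Nat.card A := hprod
      _ = Nat.card A * Nat.card A := by rw [hAC]
  apply Nat.eq_of_mul_eq_mul_left hCApos
  rw [hker2, ← h5, mul_comm]

end Cfsg.Agent.CS3
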