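import Mathlib
import Cfsg.Agent.CS3.Basic
import Cfsg.Agent.CS3.Prim
import Cfsg.Agent.CS3.PiEl
import Cfsg.Agent.CS3.NoTc
import Cfsg.Agent.Helper4.MaxPPartIndex
import Cfsg.Agent.Helper5.ProdCard

set_option autoImplicit false

/-!
# S4284, case P1 (some `p`-element has class size `m = p ^ a`): the normal `p`-complement

The group has a normal abelian `p`-complement `K`, centralized by the `p`-elements of class size
`m`.  For `x` in a Sylow `p`-subgroup `P`: `C(x) = C_K(x) C_P(x)`.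
-/

namespace Cfsg.Agent.CS3

open Subgroup
open Cfsg.Agent.CS4
open scoped Pointwise

variable {G : Type*} [Group G] [Finite G] {m n p a : ℕ}

/-- `|K : K ⊓ H| · |K ⊓ H| = |K|` -/
theorem cs3_relIndex_mul_card (H K : Subgroup G) :
    H.relIndex K * Nat.card ↥(H ⊓ K) = Nat.card K := by
  have h1 := (H.subgroupOf K).index_mul_card
  have h2 : Nat.card ↥(H.subgroupOf K) = Nat.card ↥(H ⊓ K) := by
    rw [← inf_subgroupOf_right H K]
    exact Nat.card_congr (subgroupOfEquivOfLe inf_le_right).toEquiv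
  rw [h2] at h1
  exact h1

/-- for `K` normal, `|K : K ⊓ C|` divides `|G : C|` -/
theorem cs3_relIndex_dvd_index_right (C K : Subgroup G) [K.Normal] : C.relIndex K ∣ C.index := by
  have h1 := Cfsg.Agent.Helper5.card_mul_set_mul_card_inf C K
  rw [← Subgroup.mul_normal C K] at h1
  have h1' : Nat.card ↥(C ⊔ K) * Nat.card ↥(C ⊓ K) = Nat.card C * Nat.card K := h1
  have h2 := cs3_relIndex_mul_card C K
  have h3 := cs3_relIndex_mul_card C (C ⊔ K)
  rw [inf_of_le_left (le_sup_left : C ≤ C ⊔ K)] at h3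
  have h4 : C.relIndex (C ⊔ K) = C.relIndex K := by
    have hpos : 0 < Nat.card C * Nat.card ↥(C ⊓ K) := Nat.mul_pos Nat.card_pos Nat.card_pos
    apply Nat.eq_of_mul_eq_mul_right hpos
    calc C.relIndex (C ⊔ K) * (Nat.card C * Nat.card ↥(C ⊓ K))
        = (C.relIndex (C ⊔ K) * Nat.card C) * Nat.card ↥(C ⊓ K) := by ring
      _ = Nat.card C * (C.relIndex K * Nat.card ↥(C ⊓ K)) := by rw [h3, h1', h2]
      _ = C.relIndex K * (Nat.card C * Nat.card ↥(C ⊓ K)) := by ring
  rw [← h4]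
  exact relIndex_dvd_index_of_le le_sup_left

/-- the situation of case P1: a normal abelian `p`-complement `K` centralized by some `p`-element of
class size `m = p ^ a`. -/
structure cs3_P1 (G : Type*) [Group G] (m n p a : ℕ) (K : Subgroup G) : Prop where
  base : cs3_H G m n
  hp : p.Prime
  hma : m = p ^ a
  Kn : K.Normal
  Kcard : Nat.card K = ordCompl[p] (Nat.card G)
  Kab : ∀ x ∈ K, ∀ y ∈ K, Commute x y
  exS : ∃ y : G, IsPEl p y ∧ idx y = m ∧ ∀ k ∈ K, Commute k y

theorem cs3_P1.a_pos {K : Subgroup G} (s : cs3_P1 G m n p a K) : 0 < a := by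
  rcases Nat.eq_zero_or_pos a with h0 | h0
  · exfalso
    have := s.hma
    rw [h0, pow_zero] at this
    have := s.base.hm
    omega
  · exact h0

theorem cs3_P1.p_dvd_m {K : Subgroup G} (s : cs3_P1 G m n p a K) : p ∣ m := by
  rw [s.hma]
  exact dvd_pow_self p s.a_pos.ne'

theorem cs3_P1.not_dvd_n {K : Subgroup G} (s : cs3_P1 G m n p a K) : ¬ p ∣ n := fun hd =>
  s.hp.one_lt.ne' (Nat.eq_one_of_dvd_coprimes s.base.cop s.p_dvd_m hd)

theorem cs3_P1.K_coprime {K : Subgroup G} (s : cs3_P1 G m n p a K) : (Nat.card K).Coprime p := by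
  rw [s.Kcard]
  exact (Nat.coprime_ordCompl s.hp Nat.card_pos.ne').symm

theorem cs3_P1.coprime_of_mem {K : Subgroup G} (s : cs3_P1 G m n p a K) {k : G} (hk : k ∈ K) :
    (orderOf k).Coprime p := by
  have h1 : orderOf k ∣ Nat.card K := by
    have := orderOf_dvd_natCard (⟨k, hk⟩ : K)
    rwa [Subgroup.orderOf_mk] at this
  exact Nat.Coprime.coprime_dvd_left h1 s.K_coprime

/-- a `p`-regular element lies in `K` -/
theorem cs3_P1.mem_of_coprime {K : Subgroup G} (s : cs3_P1 G m n p a K) {g : G}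
    (hg : (orderOf g).Coprime p) : g ∈ K := by
  have := s.Kn
  have hidx : K.index = p ^ (Nat.card G).factorization p := by
    have h1 := K.card_mul_index
    rw [s.Kcard] at h1
    have h2 := Nat.ordProj_mul_ordCompl_eq_self (Nat.card G) p
    have hpos : 0 < ordCompl[p] (Nat.card G) := Nat.ordCompl_pos p Nat.card_pos.ne'
    apply Nat.eq_of_mul_eq_mul_left hpos
    rw [h1, mul_comm, h2]
  have h1 : orderOf ((g : G) : G ⧸ K) ∣ orderOf g := orderOf_dvd_of_pow_eq_one (by
    rw [← QuotientGroup.mk_pow, pow_orderOf_eq_one, QuotientGroup.mk_one])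
  have h2 : orderOf ((g : G) : G ⧸ K) ∣ p ^ (Nat.card G).factorization p := by
    rw [← hidx]
    exact orderOf_dvd_natCard _
  have h3 : orderOf ((g : G) : G ⧸ K) = 1 := by
    have hc : (orderOf ((g : G) : G ⧸ K)).Coprime (p ^ (Nat.card G).factorization p) :=
      Nat.Coprime.pow_right _ (Nat.Coprime.coprime_dvd_left h1 hg)
    exact hc.eq_one_of_dvd h2
  rw [orderOf_eq_one_iff, QuotientGroup.eq_one_iff] at h3
  exact h3

/-- reaching the situation -/
theorem cs3_H.P1_sit (h : cs3_H G m n) [hp : Fact p.Prime] (hma : m = p ^ a)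
    (hex : ∃ y : G, IsPEl p y ∧ idx y = m) : ∃ K : Subgroup G, cs3_P1 G m n p a K := by
  obtain ⟨y, hy, hyS⟩ := hex
  have ha : 0 < a := by
    rcases Nat.eq_zero_or_pos a with h0 | h0
    · exfalso
      rw [h0, pow_zero] at hma
      have := h.hm
      omega
    · exact h0
  have hpm : p ∣ m := by
    rw [hma]
    exact dvd_pow_self p ha.ne'
  have hpn : ¬ p ∣ n := fun hd =>
    hp.out.one_lt.ne' (Nat.eq_one_of_dvd_coprimes h.cop hpm hd)
  have hmax : ∀ g : G, ¬ p ^ (a + 1) ∣ (centralizer ({g} : Set G)).index := by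
    intro g hd
    have h1 := hd.trans (h.idx_dvd_mn g)
    rw [hma, pow_succ] at h1
    exact hpn ((Nat.mul_dvd_mul_iff_left (pow_pos hp.out.pos a)).mp h1)
  obtain ⟨k, hk⟩ := hy
  obtain ⟨K, hKn, hKcard⟩ :=
    Cfsg.Agent.Helper4.MaxPPartIndex.main p a hmax y k hk (hyS.trans hma)
  have hKcop : (Nat.card K).Coprime p := by
    rw [hKcard]
    exact (Nat.coprime_ordCompl hp.out Nat.card_pos.ne').symm
  have hKreg : ∀ z ∈ K, (orderOf z).Coprime p := by
    intro z hz
    have h1 : orderOf z ∣ Nat.card K := by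
      have := orderOf_dvd_natCard (⟨z, hz⟩ : K)
      rwa [Subgroup.orderOf_mk] at this
    exact Nat.Coprime.coprime_dvd_left h1 hKcop
  have hKy : K ≤ centralizer ({y} : Set G) := by
    have h1 := cs3_relIndex_dvd_index_right (centralizer ({y} : Set G)) K
    have h2 : (centralizer ({y} : Set G)).relIndex K ∣ Nat.card K := relIndex_dvd_card _ _
    rw [show (centralizer ({y} : Set G)).index = p ^ a from hyS.trans hma] at h1
    have h3 : (centralizer ({y} : Set G)).relIndex K = 1 := by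
      have hc : ((centralizer ({y} : Set G)).relIndex K).Coprime (p ^ a) :=
        Nat.Coprime.pow_right _ (Nat.Coprime.coprime_dvd_left h2 hKcop)
      exact hc.eq_one_of_dvd h1
    exact relIndex_eq_one.mp h3
  have hTa := h.Ta_of_dvd hpm ⟨k, hk⟩ hyS
  refine ⟨K, h, hp.out, hma, hKn, hKcard, ?_,
    ⟨y, ⟨k, hk⟩, hyS, fun z hz => mem_cent_iff.mp (hKy hz)⟩⟩
  intro x hx z hz
  exact hTa z x (mem_cent_iff.mp (hKy hz)) (mem_cent_iff.mp (hKy hx)) (hKreg z hz)

theorem cs3_P1.inf_sylow {K : Subgroup G} (s : cs3_P1 G m n p a K) (P : Sylow p G) :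
    K ⊓ (P : Subgroup G) = ⊥ := by
  have : Fact p.Prime := ⟨s.hp⟩
  apply Subgroup.inf_eq_bot_of_coprime
  rw [P.card_eq_multiplicity]
  exact Nat.Coprime.pow_right _ s.K_coprime

theorem cs3_P1.card_mul {K : Subgroup G} (s : cs3_P1 G m n p a K) (P : Sylow p G) :
    Nat.card K * Nat.card P = Nat.card G := by
  have : Fact p.Prime := ⟨s.hp⟩
  rw [s.Kcard, P.card_eq_multiplicity, mul_comm]
  exact Nat.ordProj_mul_ordCompl_eq_self _ _

theorem cs3_P1.exists_mul {K : Subgroup G} (s : cs3_P1 G m n p a K) (P : Sylow p G) (g : G) :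
    ∃ k ∈ K, ∃ u ∈ P, g = k * u := by
  have : Fact p.Prime := ⟨s.hp⟩
  have hc : IsComplement' K (P : Subgroup G) := by
    apply isComplement'_of_coprime (s.card_mul P)
    rw [P.card_eq_multiplicity]
    exact Nat.Coprime.pow_right _ s.K_coprime
  obtain ⟨⟨⟨k, hk⟩, ⟨u, hu⟩⟩, hku⟩ := hc.2 g
  exact ⟨k, hk, u, hu, hku.symm⟩

/-- for `x ∈ P`, an element of `C(x)` is the product of an element of `C_K(x)` and an element of
`C_P(x)` -/
theorem cs3_P1.cent_mul {K : Subgroup G} (s : cs3_P1 G m n p a K) (P : Sylow p G) {x : G}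
    (hx : x ∈ P) {g : G} (hg : Commute g x) :
    ∃ k ∈ K, ∃ u ∈ P, g = k * u ∧ Commute k x ∧ Commute u x := by
  have := s.Kn
  obtain ⟨k, hk, u, hu, rfl⟩ := s.exists_mul P g
  have h1 : u * x * u⁻¹ = k⁻¹ * x * k := by
    have h0 : k * u * x = x * (k * u) := hg.eq
    calc u * x * u⁻¹ = k⁻¹ * (k * u * x) * u⁻¹ := by group
      _ = k⁻¹ * (x * (k * u)) * u⁻¹ := by rw [h0]
      _ = k⁻¹ * x * k := by group
  have h2 : x⁻¹ * (u * x * u⁻¹) ∈ K ⊓ (P : Subgroup G) := by
    constructor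
    · rw [h1]
      have h3 : x⁻¹ * (k⁻¹ * x * k) = (x⁻¹ * k⁻¹ * x⁻¹⁻¹) * k := by group
      rw [h3]
      exact K.mul_mem (s.Kn.conj_mem _ (K.inv_mem hk) _) hk
    · exact (P : Subgroup G).mul_mem ((P : Subgroup G).inv_mem hx)
        ((P : Subgroup G).mul_mem ((P : Subgroup G).mul_mem hu hx) ((P : Subgroup G).inv_mem hu))
  rw [s.inf_sylow P, mem_bot] at h2
  have hux : Commute u x := by
    have h3 : u * x * u⁻¹ = x := by
      have : u * x * u⁻¹ = x * (x⁻¹ * (u * x * u⁻¹)) := by group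
      rw [this, h2, mul_one]
    show u * x = x * u
    calc u * x = u * x * u⁻¹ * u := by group
      _ = x * u := by rw [h3]
  refine ⟨k, hk, u, hu, rfl, ?_, hux⟩
  show k * x = x * k
  have h0 : k * u * x = x * (k * u) := hg.eq
  calc k * x = k * u * x * u⁻¹ := by rw [mul_assoc k u x, hux.eq]; group
    _ = x * (k * u) * u⁻¹ := by rw [h0]
    _ = x * k := by group

theorem cs3_P1.card_cent {K : Subgroup G} (s : cs3_P1 G m n p a K) (P : Sylow p G) {x : G}
    (hx : x ∈ P) :
    Nat.card ↥(centralizer ({x} : Set G)) = Nat.card ↥(K ⊓ centralizer ({x} : Set G)) *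
      Nat.card ↥((P : Subgroup G) ⊓ centralizer ({x} : Set G)) := by
  have h1 := Cfsg.Agent.Helper5.card_mul_set_mul_card_inf (K ⊓ centralizer ({x} : Set G))
    ((P : Subgroup G) ⊓ centralizer ({x} : Set G))
  have h2 : (K ⊓ centralizer ({x} : Set G)) ⊓ ((P : Subgroup G) ⊓ centralizer ({x} : Set G)) = ⊥ := by
    rw [eq_bot_iff, ← s.inf_sylow P]
    exact inf_le_inf inf_le_left inf_le_left
  rw [h2, Subgroup.card_bot, mul_one] at h1
  rw [← h1]
  apply Nat.card_congr
  apply Equiv.setCongr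
  ext g
  constructor
  · intro hg
    obtain ⟨k, hk, u, hu, rfl, hkx, hux⟩ := s.cent_mul P hx (mem_cent_iff.mp hg)
    exact Set.mul_mem_mul ⟨hk, mem_cent_iff.mpr hkx⟩ ⟨hu, mem_cent_iff.mpr hux⟩
  · rintro ⟨k, hk, u, hu, rfl⟩
    exact (centralizer ({x} : Set G)).mul_mem hk.2 hu.2

/-- for `x ∈ P`: `idx x = |K : C_K(x)| · |P : C_P(x)|` -/
theorem cs3_P1.idx_eq {K : Subgroup G} (s : cs3_P1 G m n p a K) (P : Sylow p G) {x : G}
    (hx : x ∈ P) :
    idx x = (centralizer ({x} : Set G)).relIndex K *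
      (centralizer ({x} : Set G)).relIndex (P : Subgroup G) := by
  have h1 := (centralizer ({x} : Set G)).index_mul_card
  have h2 := s.card_mul P
  have h3 := s.card_cent P hx
  have h4 := cs3_relIndex_mul_card (centralizer ({x} : Set G)) K
  have h5 := cs3_relIndex_mul_card (centralizer ({x} : Set G)) (P : Subgroup G)
  rw [inf_comm] at h4 h5
  have hpos : 0 < Nat.card ↥(centralizer ({x} : Set G)) := Nat.card_pos
  apply Nat.eq_of_mul_eq_mul_right hpos
  calc idx x * Nat.card ↥(centralizer ({x} : Set G)) = Nat.card G := h1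
    _ = Nat.card K * Nat.card P := h2.symm
    _ = ((centralizer ({x} : Set G)).relIndex K * Nat.card ↥(K ⊓ centralizer ({x} : Set G))) *
        ((centralizer ({x} : Set G)).relIndex (P : Subgroup G) *
          Nat.card ↥((P : Subgroup G) ⊓ centralizer ({x} : Set G))) := by rw [h4, h5]
    _ = (centralizer ({x} : Set G)).relIndex K *
        (centralizer ({x} : Set G)).relIndex (P : Subgroup G) *
          Nat.card ↥(centralizer ({x} : Set G)) := by rw [h3]; ring

end Cfsg.Agent.CS3
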