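import Mathlib
import Cfsg.Agent.CS3.P1a

set_option autoImplicit false

/-!
# S4284, case P1: the subgroup `P₀ = C_P(K)`

For a Sylow `p`-subgroup `P`, the subgroup `P₀ = C_P(K)` is abelian of index `p ^ a`, it is the
centralizer in `P` of each of its noncentral elements and of each noncentral element of `K`.
-/

namespace Cfsg.Agent.CS3

open Subgroup
open Cfsg.Agent.CS4
open scoped Pointwise

variable {G : Type*} [Group G] [Finite G] {m n p a : ℕ} {K : Subgroup G}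

/-- splitting a product into its `p`-part and its `p'`-part -/
theorem cs3_coprime_split {p : ℕ} (hp : p.Prime) {A B c v a N : ℕ} (hA : A ∣ c)
    (hc : c.Coprime p) (hB : B ∣ p ^ v) (hN : N.Coprime p) (h : A * B = p ^ a * N) :
    A = N ∧ B = p ^ a := by
  obtain ⟨j, -, rfl⟩ := (Nat.dvd_prime_pow hp).mp hB
  have hAp : A.Coprime p := Nat.Coprime.coprime_dvd_left hA hc
  have h1 : p ^ j ∣ p ^ a := by
    have : p ^ j ∣ p ^ a * N := ⟨A, by rw [← h, mul_comm]⟩
    exact (Nat.Coprime.pow_left j hN.symm).dvd_of_dvd_mul_right this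
  have h2 : p ^ a ∣ p ^ j := by
    have : p ^ a ∣ A * p ^ j := ⟨N, h⟩
    exact (Nat.Coprime.pow_left a hAp.symm).dvd_of_dvd_mul_left this
  have h3 : p ^ j = p ^ a := Nat.dvd_antisymm h1 h2
  refine ⟨?_, h3⟩
  rw [h3, mul_comm] at h
  exact Nat.eq_of_mul_eq_mul_left (pow_pos hp.pos a) h

/-- the three cases for an element of a Sylow `p`-subgroup -/
theorem cs3_P1.rel_cases (s : cs3_P1 G m n p a K) (P : Sylow p G) {x : G} (hx : x ∈ P) :
    ((centralizer ({x} : Set G)).relIndex K = 1 ∧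
        (centralizer ({x} : Set G)).relIndex (P : Subgroup G) = 1 ∧ idx x = 1) ∨
      ((centralizer ({x} : Set G)).relIndex K = 1 ∧
        (centralizer ({x} : Set G)).relIndex (P : Subgroup G) = p ^ a ∧ idx x = m) ∨
      ((centralizer ({x} : Set G)).relIndex K = n ∧
        (centralizer ({x} : Set G)).relIndex (P : Subgroup G) = p ^ a ∧ idx x = m * n) := by
  have : Fact p.Prime := ⟨s.hp⟩
  have h1 := s.idx_eq P hx
  have hA : (centralizer ({x} : Set G)).relIndex K ∣ Nat.card K := relIndex_dvd_card _ _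
  have hB : (centralizer ({x} : Set G)).relIndex (P : Subgroup G) ∣
      p ^ (Nat.card G).factorization p := by
    rw [← P.card_eq_multiplicity]
    exact relIndex_dvd_card _ _
  have hn : n.Coprime p := (Nat.Prime.coprime_iff_not_dvd s.hp).mpr s.not_dvd_n |>.symm
  rcases s.base.cs x with h2 | h2 | h2
  · left
    have h3 : (centralizer ({x} : Set G)).relIndex K *
        (centralizer ({x} : Set G)).relIndex (P : Subgroup G) = p ^ 0 * 1 := by
      rw [← h1, h2]; norm_num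
    obtain ⟨h4, h5⟩ := cs3_coprime_split s.hp hA s.K_coprime hB (Nat.coprime_one_left p) h3
    exact ⟨h4, by rw [h5, pow_zero], h2⟩
  · right; left
    have h3 : (centralizer ({x} : Set G)).relIndex K *
        (centralizer ({x} : Set G)).relIndex (P : Subgroup G) = p ^ a * 1 := by
      rw [← h1, h2, s.hma, mul_one]
    obtain ⟨h4, h5⟩ := cs3_coprime_split s.hp hA s.K_coprime hB (Nat.coprime_one_left p) h3
    exact ⟨h4, h5, h2⟩
  · right; right
    have h3 : (centralizer ({x} : Set G)).relIndex K *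
        (centralizer ({x} : Set G)).relIndex (P : Subgroup G) = p ^ a * n := by
      rw [← h1, h2, s.hma]
    obtain ⟨h4, h5⟩ := cs3_coprime_split s.hp hA s.K_coprime hB hn h3
    exact ⟨h4, h5, h2⟩

/-- (R1), (R2): an element of `P` centralizes `K` iff it is not of class size `m * n` -/
theorem cs3_P1.centralizes_iff (s : cs3_P1 G m n p a K) (P : Sylow p G) {x : G} (hx : x ∈ P) :
    (∀ k ∈ K, Commute k x) ↔ idx x ≠ m * n := by
  have hmn := s.base.m_lt_mn
  have hm := s.base.hm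
  have hn := s.base.hn
  constructor
  · intro hK hidx
    have h1 : (centralizer ({x} : Set G)).relIndex K = 1 :=
      relIndex_eq_one.mpr (fun k hk => mem_cent_iff.mpr (hK k hk))
    rcases s.rel_cases P hx with ⟨-, -, h2⟩ | ⟨-, -, h2⟩ | ⟨h2, -, -⟩
    · rw [h2] at hidx; nlinarith
    · rw [h2] at hidx; omega
    · rw [h1] at h2; omega
  · intro hidx k hk
    rcases s.rel_cases P hx with ⟨h2, -, -⟩ | ⟨h2, -, -⟩ | ⟨-, -, h2⟩
    · exact mem_cent_iff.mp (relIndex_eq_one.mp h2 hk)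
    · exact mem_cent_iff.mp (relIndex_eq_one.mp h2 hk)
    · exact absurd h2 hidx

/-- (R3) a noncentral element of `P` has `|P : C_P(x)| = p ^ a` -/
theorem cs3_P1.card_cent_P (s : cs3_P1 G m n p a K) (P : Sylow p G) {x : G} (hx : x ∈ P)
    (hxz : x ∉ center G) :
    Nat.card ↥((P : Subgroup G) ⊓ centralizer ({x} : Set G)) * p ^ a = Nat.card P := by
  have h1 := cs3_relIndex_mul_card (centralizer ({x} : Set G)) (P : Subgroup G)
  rw [inf_comm] at h1
  rcases s.rel_cases P hx with ⟨-, -, h2⟩ | ⟨-, h2, -⟩ | ⟨-, h2, -⟩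
  · exact absurd ((idx_eq_one_iff x).mp h2) hxz
  · rw [h2] at h1; rw [mul_comm]; exact h1
  · rw [h2] at h1; rw [mul_comm]; exact h1

/-- (R4) a noncentral element of `K` has class size `m` and `|P : C_P(k)| = p ^ a` -/
theorem cs3_P1.card_cent_K (s : cs3_P1 G m n p a K) (P : Sylow p G) {k : G} (hk : k ∈ K)
    (hkz : k ∉ center G) :
    idx k = m ∧ Nat.card ↥((P : Subgroup G) ⊓ centralizer ({k} : Set G)) * p ^ a = Nat.card P := by
  have : Fact p.Prime := ⟨s.hp⟩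
  have hKC : K ≤ centralizer ({k} : Set G) := fun z hz => mem_cent_iff.mpr (s.Kab z hz k hk)
  -- `|C(k)| = |K| |C_P(k)|`
  have h1 := Cfsg.Agent.Helper5.card_mul_set_mul_card_inf K
    ((P : Subgroup G) ⊓ centralizer ({k} : Set G))
  have h2 : K ⊓ ((P : Subgroup G) ⊓ centralizer ({k} : Set G)) = ⊥ := by
    rw [eq_bot_iff, ← s.inf_sylow P]
    exact inf_le_inf le_rfl inf_le_left
  rw [h2, Subgroup.card_bot, mul_one] at h1
  have h3 : Nat.card ↥(centralizer ({k} : Set G)) =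
      Nat.card K * Nat.card ↥((P : Subgroup G) ⊓ centralizer ({k} : Set G)) := by
    rw [← h1]
    apply Nat.card_congr
    apply Equiv.setCongr
    ext g
    constructor
    · intro hg
      obtain ⟨k', hk', u, hu, rfl⟩ := s.exists_mul P g
      refine Set.mul_mem_mul hk' ⟨hu, ?_⟩
      have : u = k'⁻¹ * (k' * u) := by group
      rw [this]
      exact (centralizer ({k} : Set G)).mul_mem ((centralizer ({k} : Set G)).inv_mem (hKC hk')) hg
    · rintro ⟨k', hk', u, hu, rfl⟩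
      exact (centralizer ({k} : Set G)).mul_mem (hKC hk') hu.2
  have h4 := (centralizer ({k} : Set G)).index_mul_card
  have h5 := s.card_mul P
  have h6 : idx k * Nat.card ↥((P : Subgroup G) ⊓ centralizer ({k} : Set G)) = Nat.card P := by
    have hpos : 0 < Nat.card K := Nat.card_pos
    apply Nat.eq_of_mul_eq_mul_left hpos
    calc Nat.card K * (idx k * Nat.card ↥((P : Subgroup G) ⊓ centralizer ({k} : Set G)))
        = idx k * Nat.card ↥(centralizer ({k} : Set G)) := by rw [h3]; ring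
      _ = Nat.card K * Nat.card P := by rw [h4, h5]
  have h7 : idx k = m := by
    rcases s.base.idx_of_not_center hkz with h8 | h8
    · exact h8
    · exfalso
      have h9 : n ∣ Nat.card P := by
        rw [← h6, h8]
        exact (dvd_mul_left n m).mul_right _
      rw [P.card_eq_multiplicity] at h9
      have hn : n.Coprime (p ^ (Nat.card G).factorization p) :=
        Nat.Coprime.pow_right _
          ((Nat.Prime.coprime_iff_not_dvd s.hp).mpr s.not_dvd_n).symm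
      have := hn.eq_one_of_dvd h9
      have := s.base.hn
      omega
  refine ⟨h7, ?_⟩
  rw [h7, s.hma] at h6
  rw [mul_comm]
  exact h6

/-- (R5) `K` is not central -/
theorem cs3_P1.exists_K_noncentral (s : cs3_P1 G m n p a K) : ∃ k ∈ K, k ∉ center G := by
  have : Fact p.Prime := ⟨s.hp⟩
  by_contra hcon
  push Not at hcon
  obtain ⟨g, hg⟩ := s.base.exmn
  obtain ⟨c₁, c₂, hc₁, hc₂, hk, hc₂r, hc⟩ := Cfsg.Agent.Helper4.ItoTwo.exists_parts p s.hp g
  have hc₂K : c₂ ∈ K :=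
    s.mem_of_coprime ((Nat.Prime.coprime_iff_not_dvd s.hp).mpr hc₂r).symm
  have hc₂z : c₂ ∈ center G := hcon c₂ hc₂K
  have h1 : idx c₁ = m * n := by
    have hle : centralizer ({c₁} : Set G) ≤ centralizer ({g} : Set G) := by
      intro z hz
      rw [mem_cent_iff] at hz ⊢
      rw [← hc]
      exact hz.mul_right (mem_center_iff.mp hc₂z z)
    have h2 : idx g ∣ idx c₁ := index_dvd_of_le hle
    rw [hg] at h2
    exact Nat.dvd_antisymm (s.base.idx_dvd_mn _) h2
  obtain ⟨P⟩ : Nonempty (Sylow p G) := inferInstance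
  obtain ⟨w, hw⟩ := cs3_notc_conj_mem_sylow (t := p) hk P
  have h2 : idx (w * c₁ * w⁻¹) = m * n := by rw [idx_conj]; exact h1
  have h3 := (s.centralizes_iff P hw).mp (fun k hk => (mem_center_iff.mp (hcon k hk) _).symm)
  exact h3 h2

/-- the subgroup `P₀ = C_P(K)` -/
def cs3_P0 (P : Sylow p G) (K : Subgroup G) : Subgroup G :=
  (P : Subgroup G) ⊓ centralizer (K : Set G)

theorem cs3_mem_P0 {P : Sylow p G} {x : G} :
    x ∈ cs3_P0 P K ↔ x ∈ P ∧ ∀ k ∈ K, Commute k x := by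
  unfold cs3_P0
  rw [mem_inf, mem_centralizer_iff]
  constructor
  · rintro ⟨h1, h2⟩
    exact ⟨h1, fun k hk => h2 k hk⟩
  · rintro ⟨h1, h2⟩
    exact ⟨h1, fun k hk => (h2 k hk).eq⟩

theorem cs3_P0_le (P : Sylow p G) (K : Subgroup G) : cs3_P0 P K ≤ (P : Subgroup G) := inf_le_left

/-- `P₀` is normalized by `P` (even by `G` inside `P`) -/
theorem cs3_P1.P0_conj (s : cs3_P1 G m n p a K) (P : Sylow p G) {g x : G} (hg : g ∈ P)
    (hx : x ∈ cs3_P0 P K) : g * x * g⁻¹ ∈ cs3_P0 P K := by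
  rw [cs3_mem_P0] at hx ⊢
  refine ⟨(P : Subgroup G).mul_mem ((P : Subgroup G).mul_mem hg hx.1)
    ((P : Subgroup G).inv_mem hg), ?_⟩
  intro k hk
  have h1 : Commute (g⁻¹ * k * g⁻¹⁻¹) x := hx.2 _ (s.Kn.conj_mem k hk g⁻¹)
  show k * (g * x * g⁻¹) = g * x * g⁻¹ * k
  have h2 : g⁻¹ * k * g⁻¹⁻¹ * x = x * (g⁻¹ * k * g⁻¹⁻¹) := h1.eq
  calc k * (g * x * g⁻¹) = g * ((g⁻¹ * k * g⁻¹⁻¹) * x) * g⁻¹ := by group
    _ = g * (x * (g⁻¹ * k * g⁻¹⁻¹)) * g⁻¹ := by rw [h2]
    _ = g * x * g⁻¹ * k := by group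

/-- (Q3) `P₀` is not central -/
theorem cs3_P1.exists_P0_noncentral (s : cs3_P1 G m n p a K) (P : Sylow p G) :
    ∃ x ∈ cs3_P0 P K, x ∉ center G := by
  have : Fact p.Prime := ⟨s.hp⟩
  obtain ⟨y, hy, hyS, hyK⟩ := s.exS
  obtain ⟨w, hw⟩ := cs3_notc_conj_mem_sylow (t := p) hy P
  refine ⟨w * y * w⁻¹, cs3_mem_P0.mpr ⟨hw, ?_⟩, ?_⟩
  · intro k hk
    have h1 : Commute (w⁻¹ * k * w⁻¹⁻¹) y := hyK _ (s.Kn.conj_mem k hk w⁻¹)
    have h2 : w⁻¹ * k * w⁻¹⁻¹ * y = y * (w⁻¹ * k * w⁻¹⁻¹) := h1.eq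
    show k * (w * y * w⁻¹) = w * y * w⁻¹ * k
    calc k * (w * y * w⁻¹) = w * ((w⁻¹ * k * w⁻¹⁻¹) * y) * w⁻¹ := by group
      _ = w * (y * (w⁻¹ * k * w⁻¹⁻¹)) * w⁻¹ := by rw [h2]
      _ = w * y * w⁻¹ * k := by group
  · rw [← idx_eq_one_iff, idx_conj, hyS]
    have := s.base.hm
    omega

/-- (Q4) for a noncentral `x ∈ P₀`, `C_P(x) ≤ P₀` -/
theorem cs3_P1.cent_le_P0 (s : cs3_P1 G m n p a K) (P : Sylow p G) {x : G}
    (hx : x ∈ cs3_P0 P K) (hxz : x ∉ center G) :
    (P : Subgroup G) ⊓ centralizer ({x} : Set G) ≤ cs3_P0 P K := by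
  have : Fact p.Prime := ⟨s.hp⟩
  rw [cs3_mem_P0] at hx
  have hxp : IsPEl p x := IsPEl.of_mem P.isPGroup' hx.1
  have hidx : idx x = m := by
    rcases s.base.idx_of_not_center hxz with h1 | h1
    · exact h1
    · exact absurd h1 ((s.centralizes_iff P hx.1).mp hx.2)
  have hTa := s.base.Ta_of_dvd s.p_dvd_m hxp hidx
  intro u hu
  rw [cs3_mem_P0]
  refine ⟨hu.1, fun k hk => ?_⟩
  exact (hTa k u (hx.2 k hk) (mem_cent_iff.mp hu.2) (s.coprime_of_mem hk)).symm

/-- (Q5) `|P : P₀| = p ^ a` -/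
theorem cs3_P1.card_P0 (s : cs3_P1 G m n p a K) (P : Sylow p G) :
    Nat.card ↥(cs3_P0 P K) * p ^ a = Nat.card P := by
  obtain ⟨x₀, hx₀, hx₀z⟩ := s.exists_P0_noncentral P
  obtain ⟨k₀, hk₀, hk₀z⟩ := s.exists_K_noncentral
  have h1 := s.card_cent_P P (cs3_P0_le P K hx₀) hx₀z
  have h2 := (s.card_cent_K P hk₀ hk₀z).2
  have hle1 := s.cent_le_P0 P hx₀ hx₀z
  have hle2 : cs3_P0 P K ≤ (P : Subgroup G) ⊓ centralizer ({k₀} : Set G) := by
    intro u hu
    rw [cs3_mem_P0] at hu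
    exact ⟨hu.1, mem_cent_iff.mpr (hu.2 k₀ hk₀).symm⟩
  have h3 : Nat.card ↥((P : Subgroup G) ⊓ centralizer ({x₀} : Set G)) ≤ Nat.card ↥(cs3_P0 P K) :=
    Nat.card_le_card_of_injective _ (Subgroup.inclusion_injective hle1)
  have h4 : Nat.card ↥(cs3_P0 P K) ≤ Nat.card ↥((P : Subgroup G) ⊓ centralizer ({k₀} : Set G)) :=
    Nat.card_le_card_of_injective _ (Subgroup.inclusion_injective hle2)
  have hpos : 0 < p ^ a := pow_pos s.hp.pos a
  have h5 : Nat.card ↥((P : Subgroup G) ⊓ centralizer ({x₀} : Set G)) =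
      Nat.card ↥((P : Subgroup G) ⊓ centralizer ({k₀} : Set G)) :=
    Nat.eq_of_mul_eq_mul_right hpos (h1.trans h2.symm)
  have h6 : Nat.card ↥(cs3_P0 P K) = Nat.card ↥((P : Subgroup G) ⊓ centralizer ({x₀} : Set G)) := by
    omega
  rw [h6]
  exact h1

/-- (Q5') `C_P(x) = P₀` for a noncentral `x ∈ P₀` -/
theorem cs3_P1.cent_eq_P0 (s : cs3_P1 G m n p a K) (P : Sylow p G) {x : G}
    (hx : x ∈ cs3_P0 P K) (hxz : x ∉ center G) :
    (P : Subgroup G) ⊓ centralizer ({x} : Set G) = cs3_P0 P K := by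
  apply Subgroup.eq_of_le_of_card_ge (s.cent_le_P0 P hx hxz)
  have h1 := s.card_cent_P P (cs3_P0_le P K hx) hxz
  have h2 := s.card_P0 P
  have hpos : 0 < p ^ a := pow_pos s.hp.pos a
  exact (Nat.eq_of_mul_eq_mul_right hpos (h2.trans h1.symm)).le

/-- (Q5'') `C_P(k) = P₀` for a noncentral `k ∈ K` -/
theorem cs3_P1.cent_K_eq_P0 (s : cs3_P1 G m n p a K) (P : Sylow p G) {k : G} (hk : k ∈ K)
    (hkz : k ∉ center G) :
    (P : Subgroup G) ⊓ centralizer ({k} : Set G) = cs3_P0 P K := by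
  symm
  have hle : cs3_P0 P K ≤ (P : Subgroup G) ⊓ centralizer ({k} : Set G) := by
    intro u hu
    rw [cs3_mem_P0] at hu
    exact ⟨hu.1, mem_cent_iff.mpr (hu.2 k hk).symm⟩
  apply Subgroup.eq_of_le_of_card_ge hle
  have h1 := (s.card_cent_K P hk hkz).2
  have h2 := s.card_P0 P
  have hpos : 0 < p ^ a := pow_pos s.hp.pos a
  exact (Nat.eq_of_mul_eq_mul_right hpos (h1.trans h2.symm)).le

/-- (Q6) `P₀` is abelian -/
theorem cs3_P1.P0_abelian (s : cs3_P1 G m n p a K) (P : Sylow p G) :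
    ∀ x ∈ cs3_P0 P K, ∀ x' ∈ cs3_P0 P K, Commute x x' := by
  intro x hx x' hx'
  by_cases hxz : x ∈ center G
  · exact (mem_center_iff.mp hxz x').symm
  · have h1 : x' ∈ (P : Subgroup G) ⊓ centralizer ({x} : Set G) := by
      rw [s.cent_eq_P0 P hx hxz]
      exact hx'
    exact (mem_cent_iff.mp h1.2).symm

/-- (Q7) an element of `P \ P₀` commutes with no noncentral element of `P₀` -/
theorem cs3_P1.fix_P0 (s : cs3_P1 G m n p a K) (P : Sylow p G) {h x : G} (hh : h ∈ P)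
    (hh0 : h ∉ cs3_P0 P K) (hx : x ∈ cs3_P0 P K) (hhx : Commute h x) : x ∈ center G := by
  by_contra hxz
  apply hh0
  rw [← s.cent_eq_P0 P hx hxz]
  exact ⟨hh, mem_cent_iff.mpr hhx⟩

/-- (Q7') an element of `P \ P₀` commutes with no noncentral element of `K` -/
theorem cs3_P1.fix_K (s : cs3_P1 G m n p a K) (P : Sylow p G) {h k : G} (hh : h ∈ P)
    (hh0 : h ∉ cs3_P0 P K) (hk : k ∈ K) (hhk : Commute h k) : k ∈ center G := by
  by_contra hkz
  apply hh0
  rw [← s.cent_K_eq_P0 P hk hkz]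
  exact ⟨hh, mem_cent_iff.mpr hhk⟩

end Cfsg.Agent.CS3
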