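import Mathlib
import Cfsg.Agent.CS3.P1b
import Cfsg.Agent.CS3.CpCp

set_option autoImplicit false

/-!
# S4284, case P1: `m = p`

An element `u ∈ P₀ \ Z(P)` with `[u, P] ≤ Z(P)` and `u ^ p ∈ Z(P)` makes `P / P₀` elementary abelian;
as `P / P₀` acts on `K` with all nonidentity elements fixed-point-free modulo the centre, it has
order `p`.
-/

namespace Cfsg.Agent.CS3

open Subgroup
open Cfsg.Agent.CS4

/-- a normal subgroup of a finite `p`-group that is not central contains a noncentral element `u`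
whose commutators are central and whose `p`-th power is central. -/
theorem cs3_exists_second_center {Q : Type*} [Group Q] [Finite Q] {p : ℕ} [hp : Fact p.Prime]
    (hQ : IsPGroup p Q) (N : Subgroup Q) [hN : N.Normal] (hNZ : ¬ N ≤ center Q) :
    ∃ u ∈ N, u ∉ center Q ∧ (∀ g : Q, g * u * g⁻¹ * u⁻¹ ∈ center Q) ∧ u ^ p ∈ center Q := by
  have hNbn : (N.map (QuotientGroup.mk' (center Q))).Normal :=
    hN.map _ (QuotientGroup.mk'_surjective (center Q))
  have hpq : IsPGroup p (ConjAct (Q ⧸ center Q)) :=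
    (hQ.to_quotient (center Q)).of_injective
      (ConjAct.ofConjAct : ConjAct (Q ⧸ center Q) ≃* (Q ⧸ center Q)).toMonoidHom
      (MulEquiv.injective _)
  have hdvd : p ∣ Nat.card ↥(N.map (QuotientGroup.mk' (center Q))) := by
    have hNbp : IsPGroup p ↥(N.map (QuotientGroup.mk' (center Q))) :=
      (hQ.to_quotient (center Q)).to_subgroup _
    rcases hNbp.card_eq_or_dvd with h1 | h1
    · exfalso
      apply hNZ
      rw [Subgroup.card_eq_one] at h1
      intro x hx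
      have h2 : QuotientGroup.mk' (center Q) x ∈ N.map (QuotientGroup.mk' (center Q)) :=
        ⟨x, hx, rfl⟩
      rw [h1, mem_bot] at h2
      exact (QuotientGroup.eq_one_iff x).mp h2
    · exact h1
  have h1 : (1 : ↥(N.map (QuotientGroup.mk' (center Q)))) ∈
      MulAction.fixedPoints (ConjAct (Q ⧸ center Q)) ↥(N.map (QuotientGroup.mk' (center Q))) :=
    fun g => smul_one g
  obtain ⟨b, hb, hb1⟩ := hpq.exists_fixed_point_of_prime_dvd_card_of_fixed_point _ hdvd h1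
  obtain ⟨u, huN, hub⟩ := b.2
  -- the image of `u` is fixed by conjugation
  have hfix : ∀ g : Q ⧸ center Q, g * (u : Q ⧸ center Q) * g⁻¹ = (u : Q ⧸ center Q) := by
    intro g
    have h2 := hb (ConjAct.toConjAct g)
    have h3 := congrArg Subtype.val h2
    rw [ConjAct.Subgroup.val_conj_smul, ConjAct.smul_def, ConjAct.ofConjAct_toConjAct] at h3
    rw [← hub] at h3
    exact h3
  have hu1 : (u : Q ⧸ center Q) ≠ 1 := by
    intro h2
    apply hb1
    apply Subtype.ext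
    rw [← hub]
    exact h2.symm
  -- adjust the order
  obtain ⟨j, hj⟩ := (IsPGroup.iff_orderOf.mp (hQ.to_quotient (center Q))) (u : Q ⧸ center Q)
  have hj0 : j ≠ 0 := by
    intro h0
    rw [h0, pow_zero, orderOf_eq_one_iff] at hj
    exact hu1 hj
  obtain ⟨l, rfl⟩ := Nat.exists_eq_succ_of_ne_zero hj0
  refine ⟨u ^ p ^ l, N.pow_mem huN _, ?_, ?_, ?_⟩
  · intro h2
    have h3 : (u : Q ⧸ center Q) ^ p ^ l = 1 := by
      rw [← QuotientGroup.mk_pow]
      exact (QuotientGroup.eq_one_iff _).mpr h2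
    have h4 := orderOf_dvd_of_pow_eq_one h3
    rw [hj, pow_succ] at h4
    have h5 : p ^ l * p ≤ p ^ l := Nat.le_of_dvd (pow_pos hp.out.pos l) h4
    have h6 : p ^ l * 2 ≤ p ^ l * p := Nat.mul_le_mul_left _ hp.out.two_le
    have h7 : 0 < p ^ l := pow_pos hp.out.pos l
    omega
  · intro g
    rw [← QuotientGroup.eq_one_iff]
    have h2 := hfix (g : Q ⧸ center Q)
    have h3 : ((g * u ^ p ^ l * g⁻¹ * (u ^ p ^ l)⁻¹ : Q) : Q ⧸ center Q) =
        ((g : Q ⧸ center Q) * (u : Q ⧸ center Q) * (g : Q ⧸ center Q)⁻¹) ^ p ^ l *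
          ((u : Q ⧸ center Q) ^ p ^ l)⁻¹ := by
      rw [conj_pow]
      rfl
    rw [h3, h2, mul_inv_cancel]
  · rw [← QuotientGroup.eq_one_iff, QuotientGroup.mk_pow, QuotientGroup.mk_pow, ← pow_mul,
      ← pow_succ, ← hj, pow_orderOf_eq_one]

variable {G : Type*} [Group G]

/-- the commutator map with an element `u` whose commutators with `P` are central is a
homomorphism to the centre -/
theorem cs3_comm_hom (P : Subgroup G) (u : G) (hu : ∀ g ∈ P, g * u * g⁻¹ * u⁻¹ ∈ center G) :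
    ∃ f : ↥P →* ↥(center G), ∀ g : ↥P, ((f g : center G) : G) = (g : G) * u * (g : G)⁻¹ * u⁻¹ := by
  refine ⟨MonoidHom.mk' (fun g => ⟨(g : G) * u * (g : G)⁻¹ * u⁻¹, hu g.1 g.2⟩) ?_, fun g => rfl⟩
  intro g g'
  apply Subtype.ext
  show ((g * g' : ↥P) : G) * u * ((g * g' : ↥P) : G)⁻¹ * u⁻¹ =
    ((g : G) * u * (g : G)⁻¹ * u⁻¹) * ((g' : G) * u * (g' : G)⁻¹ * u⁻¹)
  have hz : ∀ x : G, x * ((g' : G) * u * (g' : G)⁻¹ * u⁻¹) =
      ((g' : G) * u * (g' : G)⁻¹ * u⁻¹) * x := fun x =>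
    (mem_center_iff.mp (hu g'.1 g'.2) x)
  rw [Subgroup.coe_mul]
  calc (g : G) * (g' : G) * u * ((g : G) * (g' : G))⁻¹ * u⁻¹
      = (g : G) * (((g' : G) * u * (g' : G)⁻¹ * u⁻¹) * u) * (g : G)⁻¹ * u⁻¹ := by group
    _ = (g : G) * ((g' : G) * u * (g' : G)⁻¹ * u⁻¹) * (u * (g : G)⁻¹ * u⁻¹) := by group
    _ = ((g' : G) * u * (g' : G)⁻¹ * u⁻¹) * (g : G) * (u * (g : G)⁻¹ * u⁻¹) := by rw [hz]
    _ = ((g' : G) * u * (g' : G)⁻¹ * u⁻¹) * ((g : G) * u * (g : G)⁻¹ * u⁻¹) := by group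
    _ = ((g : G) * u * (g : G)⁻¹ * u⁻¹) * ((g' : G) * u * (g' : G)⁻¹ * u⁻¹) := by rw [hz]

/-- if moreover `u ^ p` is central, the commutators have order dividing `p` -/
theorem cs3_comm_pow (u g : G) (p : ℕ) (hz : g * u * g⁻¹ * u⁻¹ ∈ center G)
    (hup : u ^ p ∈ center G) : (g * u * g⁻¹ * u⁻¹) ^ p = 1 := by
  have h1 : g * u * g⁻¹ = (g * u * g⁻¹ * u⁻¹) * u := by group
  have h2 : (g * u * g⁻¹) ^ p = g * u ^ p * g⁻¹ := conj_pow
  have h3 : g * u ^ p * g⁻¹ = u ^ p := by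
    rw [(mem_center_iff.mp hup g), mul_assoc, mul_inv_cancel, mul_one]
  have hc : Commute (g * u * g⁻¹ * u⁻¹) u := (mem_center_iff.mp hz u).symm
  have h4 : (g * u * g⁻¹) ^ p = (g * u * g⁻¹ * u⁻¹) ^ p * u ^ p := by
    rw [h1, hc.mul_pow]
    congr 1
    rw [← h1]
  rw [h2, h3] at h4
  exact (mul_eq_right.mp h4.symm)

variable [Finite G] {m n p a : ℕ} {K : Subgroup G}

/-- the centre of a Sylow `p`-subgroup is central in `G` -/
theorem cs3_P1.center_P (s : cs3_P1 G m n p a K) (P : Sylow p G) {z : ↥(P : Subgroup G)}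
    (hz : z ∈ center ↥(P : Subgroup G)) : (z : G) ∈ center G := by
  have : Fact p.Prime := ⟨s.hp⟩
  apply s.base.center_sylow s.p_dvd_m P z.2
  intro g hg
  have h1 := mem_center_iff.mp hz ⟨g, hg⟩
  exact congrArg Subtype.val h1

/-- an element `u ∈ P₀ \ Z(G)` with central commutators with `P` and central `p`-th power -/
theorem cs3_P1.exists_u (s : cs3_P1 G m n p a K) (P : Sylow p G) :
    ∃ u ∈ cs3_P0 P K, u ∉ center G ∧ (∀ g ∈ P, g * u * g⁻¹ * u⁻¹ ∈ center G) ∧
      u ^ p ∈ center G := by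
  have : Fact p.Prime := ⟨s.hp⟩
  have hN : ((cs3_P0 P K).subgroupOf (P : Subgroup G)).Normal := by
    constructor
    intro x hx g
    rw [mem_subgroupOf] at hx ⊢
    exact s.P0_conj P g.2 hx
  have hNZ : ¬ (cs3_P0 P K).subgroupOf (P : Subgroup G) ≤ center ↥(P : Subgroup G) := by
    intro hle
    obtain ⟨x₀, hx₀, hx₀z⟩ := s.exists_P0_noncentral P
    apply hx₀z
    have h1 : (⟨x₀, cs3_P0_le P K hx₀⟩ : ↥(P : Subgroup G)) ∈
        (cs3_P0 P K).subgroupOf (P : Subgroup G) := by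
      rw [mem_subgroupOf]; exact hx₀
    exact s.center_P P (hle h1)
  obtain ⟨u, huN, huz, hucomm, hup⟩ := cs3_exists_second_center P.isPGroup'
    ((cs3_P0 P K).subgroupOf (P : Subgroup G)) hNZ
  refine ⟨(u : G), mem_subgroupOf.mp huN, ?_, ?_, ?_⟩
  · intro h1
    apply huz
    rw [mem_center_iff]
    intro g
    apply Subtype.ext
    exact mem_center_iff.mp h1 (g : G)
  · intro g hg
    exact s.center_P P (hucomm ⟨g, hg⟩)
  · exact s.center_P P hup

/-- `m = p` -/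
theorem cs3_P1.a_eq_one (s : cs3_P1 G m n p a K) : a = 1 := by
  have : Fact p.Prime := ⟨s.hp⟩
  have ha := s.a_pos
  by_contra hne
  have ha2 : 2 ≤ a := by omega
  obtain ⟨P⟩ : Nonempty (Sylow p G) := inferInstance
  obtain ⟨u, hu0, huz, hucomm, hup⟩ := s.exists_u P
  obtain ⟨f, hf⟩ := cs3_comm_hom (P : Subgroup G) u hucomm
  -- the kernel of `f` is `P₀`
  have hker : ∀ g : ↥(P : Subgroup G), f g = 1 ↔ (g : G) ∈ cs3_P0 P K := by
    intro g
    rw [← s.cent_eq_P0 P hu0 huz]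
    constructor
    · intro h1
      have h2 : (g : G) * u * (g : G)⁻¹ * u⁻¹ = 1 := by
        rw [← hf, h1]; rfl
      refine ⟨g.2, mem_cent_iff.mpr ?_⟩
      show (g : G) * u = u * (g : G)
      calc (g : G) * u = ((g : G) * u * (g : G)⁻¹ * u⁻¹) * u * (g : G) := by group
        _ = u * (g : G) := by rw [h2, one_mul]
    · intro h1
      have h2 : (g : G) * u = u * (g : G) := (mem_cent_iff.mp h1.2).eq
      apply Subtype.ext
      rw [hf]
      show (g : G) * u * (g : G)⁻¹ * u⁻¹ = 1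
      rw [h2]
      group
  have hfp : ∀ g : ↥(P : Subgroup G), f g ^ p = 1 := by
    intro g
    apply Subtype.ext
    rw [Subgroup.coe_pow, hf]
    exact cs3_comm_pow u (g : G) p (hucomm g.1 g.2) hup
  -- `h₁ ∉ P₀`
  have hcard0 := s.card_P0 P
  obtain ⟨h₁, hh₁⟩ : ∃ h₁ : ↥(P : Subgroup G), (h₁ : G) ∉ cs3_P0 P K := by
    by_contra hcon
    push Not at hcon
    have hle : (P : Subgroup G) ≤ cs3_P0 P K := fun g hg => hcon ⟨g, hg⟩
    have h1 : cs3_P0 P K = (P : Subgroup G) := le_antisymm (cs3_P0_le P K) hle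
    rw [h1] at hcard0
    have h2 : 1 < p ^ a := Nat.one_lt_pow ha.ne' s.hp.one_lt
    have h3 : 0 < Nat.card (P : Subgroup G) := Nat.card_pos
    nlinarith
  have hf1 : f h₁ ≠ 1 := fun h1 => hh₁ ((hker h₁).mp h1)
  have hord1 : orderOf (f h₁) = p := orderOf_eq_prime (hfp h₁) hf1
  -- `h₂` with `f h₂ ∉ ⟨f h₁⟩`
  obtain ⟨h₂, hh₂⟩ : ∃ h₂ : ↥(P : Subgroup G), f h₂ ∉ zpowers (f h₁) := by
    by_contra hcon
    push Not at hcon
    have hle : f.range ≤ zpowers (f h₁) := by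
      rintro _ ⟨g, rfl⟩
      exact hcon g
    have h1 : Nat.card f.range ≤ Nat.card (zpowers (f h₁)) :=
      Nat.card_le_card_of_injective _ (Subgroup.inclusion_injective hle)
    rw [Nat.card_zpowers, hord1, ← Subgroup.index_ker] at h1
    have h2 : f.ker = (cs3_P0 P K).subgroupOf (P : Subgroup G) := by
      ext g
      rw [MonoidHom.mem_ker, hker, mem_subgroupOf]
    have h3 : ((cs3_P0 P K).subgroupOf (P : Subgroup G)).index = p ^ a := by
      have h4 := cs3_relIndex_mul_card (cs3_P0 P K) (P : Subgroup G)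
      rw [inf_of_le_left (cs3_P0_le P K)] at h4
      have hpos : 0 < Nat.card ↥(cs3_P0 P K) := Nat.card_pos
      apply Nat.eq_of_mul_eq_mul_right hpos
      show (cs3_P0 P K).relIndex (P : Subgroup G) * _ = _
      rw [h4, ← hcard0, mul_comm]
    rw [h2, h3] at h1
    have h5 : p ^ 2 ≤ p ^ a := Nat.pow_le_pow_right s.hp.pos ha2
    have h6 : p * 2 ≤ p * p := Nat.mul_le_mul_left _ s.hp.two_le
    have h7 := s.hp.pos
    nlinarith
  have hord2 : orderOf (f h₂) = p := orderOf_eq_prime (hfp h₂) (fun h1 => hh₂ (h1 ▸ one_mem _))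
  -- the fixed points
  have hnot : ∀ i j : ℕ, ¬ (p ∣ i ∧ p ∣ j) → ((h₁ ^ i * h₂ ^ j : ↥(P : Subgroup G)) : G) ∉
      cs3_P0 P K := by
    intro i j hij hmem
    have h1 : f (h₁ ^ i * h₂ ^ j) = 1 := (hker _).mpr hmem
    rw [map_mul, map_pow, map_pow] at h1
    by_cases hj : p ∣ j
    · have h2 : f h₂ ^ j = 1 := by
        rw [← hord2] at hj
        exact orderOf_dvd_iff_pow_eq_one.mp hj
      rw [h2, mul_one] at h1
      have h3 : p ∣ i := by
        rw [← hord1]
        exact orderOf_dvd_of_pow_eq_one h1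
      exact hij ⟨h3, hj⟩
    · apply hh₂
      have hcop : (j).Coprime (orderOf (f h₂)) := by
        rw [hord2]
        exact ((Nat.Prime.coprime_iff_not_dvd s.hp).mpr hj).symm
      obtain ⟨l, hl⟩ := exists_pow_eq_self_of_coprime hcop
      have h2 : f h₂ ^ j = (f h₁ ^ i)⁻¹ := eq_inv_of_mul_eq_one_right h1
      rw [← hl, h2]
      exact Subgroup.pow_mem _ (Subgroup.inv_mem _ (Subgroup.pow_mem _ (mem_zpowers _) _)) _
  -- the lemma on `C_p × C_p`
  have hP0K : ∀ x ∈ cs3_P0 P K, ∀ k ∈ K, Commute x k := fun x hx k hk =>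
    ((cs3_mem_P0.mp hx).2 k hk).symm
  have key := cs3_cpcp p K (center G) s.Kab (h₁ : G) (h₂ : G)
    (fun k hk => s.Kn.conj_mem k hk _) (fun k hk => s.Kn.conj_mem k hk _)
    (by
      intro k hk
      apply hP0K _ _ k hk
      have h1 : f (h₁ * h₂ * h₁⁻¹ * h₂⁻¹) = 1 := by
        have hcm : f h₁ * f h₂ = f h₂ * f h₁ :=
          Subtype.ext (mem_center_iff.mp (f h₂).2 (f h₁ : G))
        rw [map_mul, map_mul, map_mul, map_inv, map_inv]
        rw [hcm, mul_inv_cancel_right, mul_inv_cancel]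
      exact (hker _).mp h1)
    (by
      intro k hk
      apply hP0K _ _ k hk
      have h1 : f (h₁ ^ p) = 1 := by rw [map_pow, hfp]
      exact (hker _).mp h1)
    (by
      intro k hk
      apply hP0K _ _ k hk
      have h1 : f (h₂ ^ p) = 1 := by rw [map_pow, hfp]
      exact (hker _).mp h1)
    (by
      intro i j hij k hk hc
      exact s.fix_K P (h₁ ^ i * h₂ ^ j : ↥(P : Subgroup G)).2 (hnot i j hij) hk hc)
  obtain ⟨k₀, hk₀, hk₀z⟩ := s.exists_K_noncentral
  apply hk₀z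
  have hcop : (p).Coprime (orderOf k₀) := (s.coprime_of_mem hk₀).symm
  obtain ⟨l, hl⟩ := exists_pow_eq_self_of_coprime hcop
  rw [← hl]
  exact Subgroup.pow_mem _ (key k₀ hk₀) _

end Cfsg.Agent.CS3
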