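import Mathlib
import Cfsg.Agent.CS3.P1c
import Cfsg.Agent.CS3.P1T5

set_option autoImplicit false

/-!
# S4284, part P1d: the conclusion in situation P1

With `a = 1` (`cs3_P1.a_eq_one`), `m = p` is prime.  For a Sylow `p`-subgroup `P` and
`P₀ = C_P(K)`, `|P : P₀| = p`; an element `h ∈ P \ P₀` has class size `m * n` and
`|K : C_K(h)| = n`; counting fixed points of `⟨h⟩` on `K` gives `p ∣ n - 1`.  The subgroup
`M = C_G(K) = K × P₀` is abelian, normal, of index `p`, and is the set of elements of class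
size `1` or `m`.  `K` is the normal `p`-complement, and `|P'| = p` by `cs3_card_commutator`.
-/

namespace Cfsg.Agent.CS3

open Subgroup
open Cfsg.Agent.CS4

variable {G : Type*} [Group G] [Finite G] {m n p a : ℕ} {K : Subgroup G}

/-- a `p`-element `h` acting on a normal subgroup `K` by conjugation: `|K| ≡ |C_K(h)|` mod `p` -/
theorem cs3_card_modEq_cent (K : Subgroup G) [K.Normal] {p : ℕ} [Fact p.Prime] (h : G)
    (hh : IsPGroup p ↥(zpowers h)) :
    Nat.card K ≡ Nat.card ↥((centralizer ({h} : Set G)).subgroupOf K) [MOD p] := by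
  let φ : ↥(zpowers h) →* MulAut ↥K := (MulAut.conjNormal).comp (zpowers h).subtype
  let _ : MulAction ↥(zpowers h) ↥K := MulAction.compHom ↥K φ
  have h1 := hh.card_modEq_card_fixedPoints (↥K)
  have h2 : (MulAction.fixedPoints ↥(zpowers h) ↥K) =
      (((centralizer ({h} : Set G)).subgroupOf K : Subgroup K) : Set K) := by
    ext k
    rw [MulAction.mem_fixedPoints, SetLike.mem_coe, mem_subgroupOf, mem_cent_iff]
    constructor
    · intro hfix
      have h3 : (MulAut.conjNormal h k : ↥K) = k := hfix ⟨h, mem_zpowers h⟩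
      have h4 : (h * (k : G) * h⁻¹ : G) = k := by
        rw [← MulAut.conjNormal_apply]
        exact congrArg Subtype.val h3
      show (k : G) * h = h * k
      calc (k : G) * h = (h * (k : G) * h⁻¹) * h := by rw [h4]
        _ = h * k := by group
    · intro hc g
      have hg : Commute (g : G) (k : G) := by
        obtain ⟨i, hi⟩ := mem_zpowers_iff.mp g.2
        rw [← hi]
        exact (hc.symm.zpow_left i)
      apply Subtype.ext
      show ((MulAut.conjNormal (g : G) k : ↥K) : G) = k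
      rw [MulAut.conjNormal_apply, hg.eq, mul_inv_cancel_right]
  rw [h2] at h1
  exact h1

/-- `P₀ ≠ P`: there is an element of `P` outside `P₀` -/
theorem cs3_P1.exists_not_P0 (s : cs3_P1 G m n p a K) (P : Sylow p G) :
    ∃ h ∈ P, h ∉ cs3_P0 P K := by
  by_contra hcon
  push Not at hcon
  have h1 : cs3_P0 P K = (P : Subgroup G) := le_antisymm (cs3_P0_le P K) (fun x hx => hcon x hx)
  have h2 := s.card_P0 P
  rw [h1] at h2
  have h3 : 1 < p ^ a := Nat.one_lt_pow (Nat.pos_iff_ne_zero.mp s.a_pos) s.hp.one_lt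
  have h4 : 0 < Nat.card (P : Subgroup G) := Nat.card_pos
  have h5 : Nat.card (P : Subgroup G) * p ^ a = Nat.card (P : Subgroup G) * 1 := by
    rw [mul_one]; exact h2
  have h6 := Nat.eq_of_mul_eq_mul_left h4 h5
  omega

/-- an element of `P \ P₀` has class size `m * n`, `|K : C_K(h)| = n`, `|P : C_P(h)| = p ^ a` -/
theorem cs3_P1.of_not_P0 (s : cs3_P1 G m n p a K) (P : Sylow p G) {h : G} (hh : h ∈ P)
    (hh0 : h ∉ cs3_P0 P K) :
    (centralizer ({h} : Set G)).relIndex K = n ∧
      (centralizer ({h} : Set G)).relIndex (P : Subgroup G) = p ^ a ∧ idx h = m * n := by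
  have h1 : idx h = m * n := by
    by_contra hne
    exact hh0 (cs3_mem_P0.mpr ⟨hh, (s.centralizes_iff P hh).mpr hne⟩)
  have hmn := s.base.m_lt_mn
  have hm := s.base.hm
  rcases s.rel_cases P hh with ⟨-, -, h2⟩ | ⟨-, -, h2⟩ | h2
  · rw [h2] at h1; nlinarith
  · rw [h2] at h1; omega
  · exact h2

/-- `p ∣ n - 1` -/
theorem cs3_P1.p_dvd_pred (s : cs3_P1 G m n p a K) : p ∣ n - 1 := by
  have : Fact p.Prime := ⟨s.hp⟩
  have : K.Normal := s.Kn
  obtain ⟨P⟩ : Nonempty (Sylow p G) := inferInstance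
  obtain ⟨h, hh, hh0⟩ := s.exists_not_P0 P
  obtain ⟨h1, -, -⟩ := s.of_not_P0 P hh hh0
  have hz : IsPGroup p ↥(zpowers h) := P.isPGroup'.to_le (zpowers_le.mpr hh)
  have h2 := cs3_card_modEq_cent K h hz
  have h3 := ((centralizer ({h} : Set G)).subgroupOf K).card_mul_index
  have h4 : ((centralizer ({h} : Set G)).subgroupOf K).index = n := h1
  rw [h4] at h3
  set c := Nat.card ↥((centralizer ({h} : Set G)).subgroupOf K) with hc
  have h5 : c.Coprime p := Nat.Coprime.coprime_dvd_left (Dvd.intro _ h3) s.K_coprime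
  have h6 : c * n ≡ c * 1 [MOD p] := by rw [h3, mul_one]; exact h2
  have h7 : n ≡ 1 [MOD p] := Nat.ModEq.cancel_left_of_coprime h5.symm h6
  exact (Nat.modEq_iff_dvd' s.base.hn.le).mp h7.symm

omit [Finite G] in
/-- `K ≤ C_G(K)` -/
theorem cs3_P1.K_le_cent (s : cs3_P1 G m n p a K) : K ≤ centralizer (K : Set G) := by
  intro k hk
  rw [mem_centralizer_iff]
  intro k' hk'
  exact (s.Kab k' hk' k hk).eq

omit [Finite G] in
/-- `C_G(K) ⊓ P = P₀` -/
theorem cs3_cent_inf (P : Sylow p G) (K : Subgroup G) :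
    centralizer (K : Set G) ⊓ (P : Subgroup G) = cs3_P0 P K := by
  unfold cs3_P0
  exact inf_comm _ _

/-- every element of `C_G(K)` is `k * u` with `k ∈ K`, `u ∈ P₀` -/
theorem cs3_P1.exists_mul_cent (s : cs3_P1 G m n p a K) (P : Sylow p G) {x : G}
    (hx : x ∈ centralizer (K : Set G)) : ∃ k ∈ K, ∃ u ∈ cs3_P0 P K, x = k * u := by
  obtain ⟨k, hk, u, hu, hxku⟩ := s.exists_mul P x
  refine ⟨k, hk, u, ?_, hxku⟩
  rw [← cs3_cent_inf]
  refine ⟨?_, hu⟩
  have h1 : u = k⁻¹ * x := by rw [hxku]; group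
  rw [h1]
  exact (centralizer (K : Set G)).mul_mem ((centralizer (K : Set G)).inv_mem (s.K_le_cent hk)) hx

/-- `C_G(K)` is abelian -/
theorem cs3_P1.cent_abelian (s : cs3_P1 G m n p a K) :
    ∀ x ∈ centralizer (K : Set G), ∀ y ∈ centralizer (K : Set G), Commute x y := by
  have : Fact p.Prime := ⟨s.hp⟩
  obtain ⟨P⟩ : Nonempty (Sylow p G) := inferInstance
  intro x hx y hy
  obtain ⟨k, hk, u, hu, rfl⟩ := s.exists_mul_cent P hx
  obtain ⟨k', hk', u', hu', rfl⟩ := s.exists_mul_cent P hy
  have h1 : Commute k k' := s.Kab k hk k' hk'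
  have h2 : Commute u u' := s.P0_abelian P u hu u' hu'
  have h3 : Commute k u' := (cs3_mem_P0.mp hu').2 k hk
  have h4 : Commute k' u := (cs3_mem_P0.mp hu).2 k' hk'
  exact (h1.mul_right h3).mul_left (h4.symm.mul_right h2)

/-- `|G : C_G(K)| = p ^ a` -/
theorem cs3_P1.index_cent (s : cs3_P1 G m n p a K) : (centralizer (K : Set G)).index = p ^ a := by
  have : Fact p.Prime := ⟨s.hp⟩
  have : K.Normal := s.Kn
  obtain ⟨P⟩ : Nonempty (Sylow p G) := inferInstance
  have h1 : centralizer (K : Set G) ⊔ (P : Subgroup G) = ⊤ := by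
    rw [eq_top_iff]
    intro g _
    obtain ⟨k, hk, u, hu, rfl⟩ := s.exists_mul P g
    exact (centralizer (K : Set G) ⊔ (P : Subgroup G)).mul_mem
      ((le_sup_left : centralizer (K : Set G) ≤ _) (s.K_le_cent hk))
      ((le_sup_right : (P : Subgroup G) ≤ _) hu)
  have h2 : (centralizer (K : Set G)).relIndex (centralizer (K : Set G) ⊔ (P : Subgroup G)) =
      (centralizer (K : Set G)).relIndex (P : Subgroup G) := relIndex_sup_left _ _
  rw [h1, relIndex_top_right] at h2
  rw [h2]
  have h3 := cs3_relIndex_mul_card (centralizer (K : Set G)) (P : Subgroup G)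
  rw [cs3_cent_inf, ← s.card_P0 P, mul_comm] at h3
  exact Nat.eq_of_mul_eq_mul_left Nat.card_pos h3

/-- `C_G(K)` is the set of elements of class size `1` or `m` -/
theorem cs3_P1.mem_cent_K_iff (s : cs3_P1 G m n p a K) (x : G) :
    x ∈ centralizer (K : Set G) ↔ idx x = 1 ∨ idx x = m := by
  have : K.Normal := s.Kn
  have hmn := s.base.m_lt_mn
  have hm := s.base.hm
  constructor
  · intro hx
    have h1 : centralizer (K : Set G) ≤ centralizer ({x} : Set G) := by
      intro y hy
      exact mem_cent_iff.mpr (s.cent_abelian y hy x hx)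
    have h2 : idx x ∣ p ^ a := by
      rw [← s.index_cent]
      exact index_dvd_of_le h1
    rw [← s.hma] at h2
    rcases s.base.cs x with h3 | h3 | h3
    · exact Or.inl h3
    · exact Or.inr h3
    · rw [h3] at h2
      have := Nat.le_of_dvd (by omega) h2
      omega
  · intro hx
    have h1 : (centralizer ({x} : Set G)).relIndex K ∣ Nat.card K := relIndex_dvd_card _ _
    have h2 : (centralizer ({x} : Set G)).relIndex K ∣ p ^ a := by
      refine (cs3_relIndex_dvd_index_right _ K).trans ?_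
      rcases hx with hx | hx
      · show idx x ∣ p ^ a
        rw [hx]; exact one_dvd _
      · show idx x ∣ p ^ a
        rw [hx, s.hma]
    have h3 : (Nat.card K).Coprime (p ^ a) := Nat.Coprime.pow_right a s.K_coprime
    have h4 : (centralizer ({x} : Set G)).relIndex K = 1 :=
      Nat.eq_one_of_dvd_coprimes h3 h1 h2
    rw [mem_centralizer_iff]
    intro k hk
    exact (mem_cent_iff.mp (relIndex_eq_one.mp h4 hk)).eq

/-- the commutator subgroup of a Sylow `p`-subgroup has order `p ^ a` (and `a = 1`) -/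
theorem cs3_P1.card_commutator_sylow (s : cs3_P1 G m n p a K) (P : Sylow p G) :
    Nat.card (commutator ↥(P : Subgroup G)) = p := by
  have ha := s.a_eq_one
  have hpa : p ^ a = p := by rw [ha, pow_one]
  obtain ⟨h, hh, hh0⟩ := s.exists_not_P0 P
  obtain ⟨-, h1, -⟩ := s.of_not_P0 P hh hh0
  have hn : ((cs3_P0 P K).subgroupOf (P : Subgroup G)).Normal := by
    refine ⟨fun x hx g => ?_⟩
    rw [mem_subgroupOf] at hx ⊢
    exact s.P0_conj P g.2 hx
  have hA : ∀ x ∈ (cs3_P0 P K).subgroupOf (P : Subgroup G),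
      ∀ y ∈ (cs3_P0 P K).subgroupOf (P : Subgroup G), Commute x y := by
    intro x hx y hy
    rw [mem_subgroupOf] at hx hy
    exact Subtype.ext (s.P0_abelian P x.1 hx y.1 hy).eq
  have hidx : ((cs3_P0 P K).subgroupOf (P : Subgroup G)).index = p := by
    have h2 := cs3_relIndex_mul_card (cs3_P0 P K) (P : Subgroup G)
    rw [inf_eq_left.mpr (cs3_P0_le P K), ← s.card_P0 P, mul_comm, hpa] at h2
    exact Nat.eq_of_mul_eq_mul_left Nat.card_pos h2
  have hh' : (⟨h, hh⟩ : ↥(P : Subgroup G)) ∉ (cs3_P0 P K).subgroupOf (P : Subgroup G) := by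
    rw [mem_subgroupOf]
    exact hh0
  have hch : (centralizer ({(⟨h, hh⟩ : ↥(P : Subgroup G))} : Set ↥(P : Subgroup G))).index = p := by
    rw [index_centralizer_subtype]
    exact h1.trans hpa
  exact cs3_card_commutator s.hp ((cs3_P0 P K).subgroupOf (P : Subgroup G)) hA hidx ⟨h, hh⟩ hh' hch

/-- **Situation P1 gives the conclusion of S4284.** -/
theorem cs3_P1.concl (s : cs3_P1 G m n p a K) : cs3_Concl G m n := by
  have ha := s.a_eq_one
  have hmp : m = p := by rw [s.hma, ha, pow_one]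
  subst hmp
  have : Fact m.Prime := ⟨s.hp⟩
  have : K.Normal := s.Kn
  refine ⟨s.hp, s.p_dvd_pred, ⟨centralizer (K : Set G), inferInstance, ?_, ?_, ?_⟩,
    ⟨K, s.Kn, s.K_coprime, ?_⟩, ?_⟩
  · ext x
    exact s.mem_cent_K_iff x
  · rw [s.index_cent, ha, pow_one]
  · exact ⟨⟨fun x y => Subtype.ext (s.cent_abelian x.1 x.2 y.1 y.2).eq⟩⟩
  · obtain ⟨P⟩ : Nonempty (Sylow m G) := inferInstance
    refine ⟨(Nat.card G).factorization m, ?_⟩
    have h1 := K.card_mul_index
    have h2 := s.card_mul P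
    rw [← P.card_eq_multiplicity]
    exact Nat.eq_of_mul_eq_mul_left Nat.card_pos (h1.trans h2.symm)
  · intro P
    exact s.card_commutator_sylow P

/-- **Case P1 of S4284**: if `m = p ^ a` and some `p`-element has class size `m`, the conclusion
holds. -/
theorem cs3_H.P1 (h : cs3_H G m n) [Fact p.Prime] (hma : m = p ^ a)
    (hex : ∃ y : G, IsPEl p y ∧ idx y = m) : cs3_Concl G m n := by
  obtain ⟨K, s⟩ := h.P1_sit hma hex
  exact s.concl

end Cfsg.Agent.CS3
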