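import Mathlib
import Cfsg.Agent.CS3.Defs

set_option autoImplicit false

/-!
# S4284, case P2 (no `p`-element of class size `m`): the situation

After the first steps of the case: `m = p`, `n = q ^ b`, the order of `G` is a `{p, q}`-number, the
elements of prime power order and class size `m` are `q`-elements, and hypothesis `𝔄(p)` holds.
-/

namespace Cfsg.Agent.CS3

open Subgroup
open Cfsg.Agent.CS4

/-- the situation of case P2 -/
structure cs3_P2 (G : Type*) [Group G] (m n p q b : ℕ) : Prop where
  base : cs3_H G m n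
  hm : m = p
  hp : p.Prime
  hq : q.Prime
  hqp : q ≠ p
  hn : n = q ^ b
  hb : 0 < b
  noS : ∀ y : G, IsPEl p y → idx y ≠ m
  AA : cs3_AA p G
  primes : ∀ r : ℕ, r.Prime → r ∣ Nat.card G → r = p ∨ r = q
  Sq : ∀ r : ℕ, r.Prime → ∀ y : G, IsPEl r y → idx y = m → r = q

end Cfsg.Agent.CS3
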