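import Mathlib
import Cfsg.Agent.CS3.Defs
import Cfsg.Agent.CS3.Basic
import Cfsg.Agent.CS3.Prim
import Cfsg.Agent.CS3.PiEl
import Cfsg.Agent.CS3.NoTc
import Cfsg.Agent.CS3.P2Defs
import Cfsg.Agent.CS3.LemU2
import Cfsg.Agent.CS3.LemU3

set_option autoImplicit false
set_option linter.unusedVariables false
set_option linter.unusedSectionVars false

/-!
# S4284, case P2, slice (H-a): reaching the situation `cs3_P2`, and its first consequences
-/

namespace Cfsg.Agent.CS3

open Subgroup
open Cfsg.Agent.CS4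

variable {G : Type*} [Group G] [Finite G] {m n p q b : ℕ}

/-- a noncentral `r`-element `u` commuting with `g`: `|G|_r ≥ r · z_r · (idx g)_r`. -/
theorem cs3_p2a_fact_of_commute {r : ℕ} [hr : Fact r.Prime] {u g : G} (hu : IsPEl r u)
    (huz : u ∉ center G) (hug : Commute u g) :
    (Nat.card (center G)).factorization r + 1 + (idx g).factorization r ≤
      (Nat.card G).factorization r := by
  obtain ⟨Q, hQz, hQp, hQn, hQc⟩ := cs3_exists_central_part (G := G) r
  have hT : IsPGroup r (Q ⊔ zpowers u : Subgroup G) :=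
    hQp.to_sup_of_normal_left hu.isPGroup_zpowers
  have hTle : (Q ⊔ zpowers u : Subgroup G) ≤ centralizer ({g} : Set G) := by
    apply sup_le
    · intro z hz
      rw [mem_cent_iff]
      exact (mem_center_iff.mp (hQz hz) g).symm
    · rw [zpowers_le]
      exact mem_cent_iff.mpr hug
  obtain ⟨k, hk⟩ := IsPGroup.iff_card.mp hT
  have hzk : (Nat.card (center G)).factorization r + 1 ≤ k := by
    have h1 : Nat.card Q ∣ Nat.card (Q ⊔ zpowers u : Subgroup G) :=
      Subgroup.card_dvd_of_le le_sup_left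
    rw [hQc, hk] at h1
    have h2 := (Nat.pow_dvd_pow_iff_le_right hr.out.one_lt).mp h1
    rcases Nat.lt_or_ge ((Nat.card (center G)).factorization r) k with h3 | h3
    · exact h3
    · exfalso
      have h4 : k = (Nat.card (center G)).factorization r := le_antisymm h3 h2
      have h5 : Q = Q ⊔ zpowers u := by
        apply Subgroup.eq_of_le_of_card_ge le_sup_left
        rw [hQc, hk, h4]
      have h6 : u ∈ Q := by
        rw [h5]
        exact (le_sup_right : zpowers u ≤ Q ⊔ zpowers u) (mem_zpowers u)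
      exact huz (hQz h6)
  have h7 := card_pgroup_cent_dvd (Nat.ordProj_dvd (idx g) r) _ hT hTle
  rw [hk, ← pow_add] at h7
  have h8 := (Nat.pow_dvd_pow_iff_le_right hr.out.one_lt).mp h7
  omega

/-- an element all of whose prime divisors of the order are `q` is a `q`-element -/
theorem cs3_p2a_isPEl_of_unique {q : ℕ} {k : G}
    (hu : ∀ d : ℕ, d.Prime → d ∣ orderOf k → d = q) : IsPEl q k :=
  ⟨_, Nat.eq_prime_pow_of_unique_prime_dvd (orderOf_pos k).ne' (fun {d} hd hdk => hu d hd hdk)⟩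

/-- a prime dividing a power of a prime is that prime -/
theorem cs3_p2a_eq_of_dvd_pow {r q k : ℕ} (hr : r.Prime) (hq : q.Prime) (hd : r ∣ q ^ k) :
    r = q :=
  (Nat.prime_dvd_prime_iff_eq hr hq).mp (hr.dvd_of_dvd_pow hd)

/-- `P2_sit`, step (2): an `r`-element of `S` forces `n = r ^ k`, `k ≥ 1`, when no `p`-element
lies in `S`. -/
theorem cs3_H.p2a_pow (h : cs3_H G m n) [Fact p.Prime] (hpm : p ∣ m)
    (hno : ∀ y : G, IsPEl p y → idx y ≠ m) {r : ℕ} [Fact r.Prime] {y : G} (hy : IsPEl r y)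
    (hyS : idx y = m) : r ≠ p ∧ ∃ k : ℕ, 0 < k ∧ n = r ^ k := by
  have hpp : p.Prime := Fact.out
  have hrp : r.Prime := Fact.out
  have hne : r ≠ p := by
    rintro rfl
    exact hno y hy hyS
  refine ⟨hne, ?_⟩
  rcases h.Ta_or_pow hy hyS with hTa | ⟨k, hk⟩
  · exfalso
    obtain ⟨a', ha'p, ha'z, ha'y⟩ := h.exists_pel_commute hpm y
    have hle : centralizer ({y} : Set G) ≤ centralizer ({a'} : Set G) := by
      intro c hc
      exact mem_cent_iff.mpr
        (hTa a' c ha'y (mem_cent_iff.mp hc) (cs3_isPEl_coprime hpp hrp hne.symm ha'p))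
    exact hno a' ha'p (h.notc_cent_eq hyS ha'z hle).2
  · refine ⟨k, ?_, hk⟩
    rcases Nat.eq_zero_or_pos k with h0 | h0
    · rw [h0, pow_zero] at hk
      have := h.hn
      omega
    · exact h0

/-- there is an element of prime power order in `S` -/
theorem cs3_H.p2a_exists_S (h : cs3_H G m n) :
    ∃ r : ℕ, r.Prime ∧ ∃ y : G, IsPEl r y ∧ idx y = m := by
  obtain ⟨g, hg⟩ := h.exm
  have hgz : g ∉ center G := h.notc_not_center hg
  obtain ⟨ℓ, hℓ, y, hy, hyℓ, hyz⟩ := exists_primary_noncentral _ g rfl hgz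
  refine ⟨ℓ, hℓ, y, hyℓ, ?_⟩
  have hd : idx y ∣ idx g := idx_dvd_of_mem_zpowers hy
  rw [hg] at hd
  rcases h.idx_of_not_center hyz with h1 | h1
  · exact h1
  · exfalso
    rw [h1] at hd
    have := Nat.le_of_dvd h.m_pos hd
    have := h.m_lt_mn
    omega

/-- reaching the situation of case P2 -/
theorem cs3_H.P2_sit (h : cs3_H G m n) {a : ℕ} [Fact p.Prime] (hma : m = p ^ a)
    (hno : ∀ y : G, IsPEl p y → idx y ≠ m) : ∃ q b : ℕ, cs3_P2 G m n p q b := by
  have hpp : p.Prime := Fact.out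
  have ha0 : a ≠ 0 := by
    intro h0
    rw [h0, pow_zero] at hma
    have := h.hm
    omega
  have hpm : p ∣ m := by
    rw [hma]
    exact dvd_pow_self p ha0
  obtain ⟨q, hq, y₀, hy₀, hy₀S⟩ := h.p2a_exists_S
  have : Fact q.Prime := ⟨hq⟩
  obtain ⟨hqp, b, hb, hn⟩ := h.p2a_pow hpm hno hy₀ hy₀S
  have hy₀z : y₀ ∉ center G := h.notc_not_center hy₀S
  have hqn : q ∣ n := by
    rw [hn]
    exact dvd_pow_self q hb.ne'
  have hqm : ¬ q ∣ m := by
    intro hd
    exact hq.one_lt.ne' (Nat.eq_one_of_dvd_coprimes h.cop hd hqn)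
  -- hypothesis `𝔄(p)`
  have hAA : cs3_AA p G := by
    intro x hx hxz
    have hxL : idx x = m * n := by
      rcases h.idx_of_not_center hxz with h1 | h1
      · exact absurd h1 (hno x hx)
      · exact h1
    have hnot : ¬ ∀ z : G, Commute z x → (orderOf z).Coprime p → z ∈ center G := by
      intro hall
      obtain ⟨a', ha'p, ha'z, ha'y⟩ := h.exists_pel_commute hpm y₀
      have ha'L : idx a' = m * n := by
        rcases h.idx_of_not_center ha'z with h1 | h1
        · exact absurd h1 (hno a' ha'p)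
        · exact h1
      have h1 := cs3_p2a_fact_of_commute hy₀ hy₀z ha'y.symm
      rw [ha'L, ← hxL] at h1
      obtain ⟨k, hkq, hkz, hkx⟩ := cs3_exists_rel_of_fact x h1
      exact hkz (hall k hkx (cs3_isPEl_coprime hq hpp hqp hkq))
    rcases h.lemma9 hx hxL with h1 | h1
    · exact absurd h1 hnot
    · refine ⟨h1, ?_⟩
      push Not at hnot
      obtain ⟨z, hzx, hzp, hzc⟩ := hnot
      exact ⟨z, hzx, hzp, hzc⟩
  refine ⟨q, b, ⟨h, ?_, hpp, hq, hqp, hn, hb, hno, hAA, ?_, ?_⟩⟩
  · -- `m = p`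
    have h1 := h.U_mp hpm hAA
    rw [hma, Nat.factorization_pow] at h1
    simp [hpp.factorization_self] at h1
    rw [hma, h1, pow_one]
  · intro r hr hrd
    rcases h.prime_dvd_card hr hrd with h1 | h1
    · left
      rw [hma] at h1
      exact cs3_p2a_eq_of_dvd_pow hr hpp h1
    · right
      rw [hn] at h1
      exact cs3_p2a_eq_of_dvd_pow hr hq h1
  · intro r hr y hy hyS
    have : Fact r.Prime := ⟨hr⟩
    obtain ⟨-, k, hk, hnk⟩ := h.p2a_pow hpm hno hy hyS
    have h1 : r ∣ q ^ b := by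
      rw [← hn, hnk]
      exact dvd_pow_self r hk.ne'
    exact cs3_p2a_eq_of_dvd_pow hr hq h1

/-! ### first consequences of the situation -/

theorem cs3_P2.p2a_dvd (s : cs3_P2 G m n p q b) : p ∣ m := by
  rw [s.hm]

/-- a `p`-regular element is a `q`-element -/
theorem cs3_P2.isPEl_of_coprime (s : cs3_P2 G m n p q b) {k : G} (hk : (orderOf k).Coprime p) :
    IsPEl q k := by
  apply cs3_p2a_isPEl_of_unique
  intro d hd hdk
  rcases s.primes d hd (hdk.trans (orderOf_dvd_natCard k)) with h1 | h1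
  · exfalso
    rw [h1] at hdk
    have := Nat.Coprime.eq_one_of_dvd hk.symm hdk
    exact s.hp.one_lt.ne' this
  · exact h1

theorem cs3_P2.idx_pel (s : cs3_P2 G m n p q b) {a : G} (ha : IsPEl p a) (haz : a ∉ center G) :
    idx a = m * n := by
  rcases s.base.idx_of_not_center haz with h1 | h1
  · exact absurd h1 (s.noS a ha)
  · exact h1

theorem cs3_P2.cent_abelian (s : cs3_P2 G m n p q b) {a : G} (ha : IsPEl p a)
    (haz : a ∉ center G) : ∀ c d : G, Commute c a → Commute d a → Commute c d :=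
  (s.AA a ha haz).1

theorem cs3_P2.exists_qel (s : cs3_P2 G m n p q b) {a : G} (ha : IsPEl p a) (haz : a ∉ center G) :
    ∃ k : G, IsPEl q k ∧ Commute k a ∧ k ∉ center G := by
  obtain ⟨k, hka, hkp, hkz⟩ := (s.AA a ha haz).2
  exact ⟨k, s.isPEl_of_coprime hkp, hka, hkz⟩

/-- commuting noncentral `p`-elements have the same centralizer -/
theorem cs3_P2.commute_trans (s : cs3_P2 G m n p q b) {a a' c : G} (ha : IsPEl p a)
    (haz : a ∉ center G) (ha' : IsPEl p a') (ha'z : a' ∉ center G) (haa : Commute a a')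
    (hc : Commute c a) : Commute c a' :=
  s.cent_abelian ha haz c a' hc haa.symm

theorem cs3_P2.exists_S (s : cs3_P2 G m n p q b) : ∃ y : G, IsPEl q y ∧ idx y = m := by
  obtain ⟨r, hr, y, hy, hyS⟩ := s.base.p2a_exists_S
  have := s.Sq r hr y hy hyS
  subst this
  exact ⟨y, hy, hyS⟩

/-- `|P| = p² z_p` (`U_card`) -/
theorem cs3_P2.card_sylow (s : cs3_P2 G m n p q b) :
    (Nat.card G).factorization p = (Nat.card (center G)).factorization p + 2 := by
  have : Fact p.Prime := ⟨s.hp⟩
  exact s.base.U_card s.p2a_dvd s.AA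

/-- (`U_block`) -/
theorem cs3_P2.block (s : cs3_P2 G m n p q b) (P : Sylow p G) {x : G} (hx : x ∈ P)
    (hxz : x ∉ center G) :
    Nat.card ↥((P : Subgroup G) ⊓ centralizer ({x} : Set G)) * p = Nat.card P := by
  have : Fact p.Prime := ⟨s.hp⟩
  exact s.base.U_block s.p2a_dvd s.AA P hx hxz

end Cfsg.Agent.CS3
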