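import Mathlib
import Cfsg.Agent.CS3.Defs
import Cfsg.Agent.CS3.P2Defs
import Cfsg.Agent.CS3.PiEl
import Cfsg.Agent.CS3.NoTc

set_option autoImplicit false

/-!
# S4284, case P2, slice (H-b): steps (i), (ii), (iii-a)

In the situation `s : cs3_P2 G m n p q b` (`m = p`, `n = q ^ b`, hypothesis `𝔄(p)`):
* `cs3_P2.step1`: a `q`-element `t` of class size `m` commutes with every `q`-element of the
  centralizer of a noncentral `p`-element;
* `cs3_P2.step2`: a `q`-element of class size `≠ m n` commutes with every `q`-element;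
* `cs3_P2.step3a`: a noncentral `p`-element commuting with a `q`-element of class size `m n`
  commutes with every `q`-element of class size `≠ m n`.
-/

namespace Cfsg.Agent.CS3

open Subgroup
open Cfsg.Agent.CS4

variable {G : Type*} [Group G] [Finite G] {m n p q b : ℕ}

/-- if `t` commutes with `a' ^ (j - i)`, `0 < j - i < p`, and `a'` is a `p`-element, then `t`
commutes with `a'`. -/
theorem cs3_p2b_commute_of_pow {a' t : G} (hp : p.Prime) (ha' : IsPEl p a') {i j : ℕ}
    (hij : i < j) (hj : j < p) (h : (a' ^ i)⁻¹ * a' ^ j ∈ centralizer ({t} : Set G)) :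
    Commute t a' := by
  obtain ⟨e, he⟩ := ha'
  have h1 : (a' ^ i)⁻¹ * a' ^ j = a' ^ (j - i) := by
    rw [inv_mul_eq_iff_eq_mul, ← pow_add]
    congr 1
    omega
  rw [h1] at h
  have hd : (j - i).Coprime (orderOf a') := by
    rw [he]
    apply Nat.Coprime.pow_right
    rw [Nat.coprime_comm]
    apply (Nat.Prime.coprime_iff_not_dvd hp).mpr
    intro hdvd
    have := Nat.le_of_dvd (by omega) hdvd
    omega
  obtain ⟨k, hk⟩ := exists_pow_eq_self_of_coprime hd
  have h2 : Commute (a' ^ (j - i)) t := mem_cent_iff.mp h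
  rw [← hk]
  exact (h2.pow_left k).symm

/-- if `t` commutes with `x * k` for commuting `x`, `k` of coprime orders then `t` commutes with
`k`. -/
theorem cs3_p2b_commute_of_mul {x k t : G} (hxk : Commute x k)
    (hcop : (orderOf x).Coprime (orderOf k)) (h : x * k ∈ centralizer ({t} : Set G)) :
    Commute t k := by
  have h1 : Commute (x * k) t := mem_cent_iff.mp h
  have h2 : t ∈ centralizer ({x * k} : Set G) := mem_cent_iff.mpr h1.symm
  rw [cent_mul_of_coprime hxk hcop] at h2
  exact mem_cent_iff.mp h2.2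

/-- (i) a `q`-element `t ∈ S` commutes with every `q`-element `k` of the centralizer of a
noncentral `p`-element `a'`. -/
theorem cs3_P2.step1 (s : cs3_P2 G m n p q b) {t a' k : G} (ht : IsPEl q t) (htS : idx t = m)
    (ha' : IsPEl p a') (ha'z : a' ∉ center G) (hk : IsPEl q k) (hka : Commute k a') :
    Commute t k := by
  have hp := s.hp
  have hq := s.hq
  have hab := (s.AA a' ha' ha'z).1
  -- it suffices to show that `t` commutes with `a'` or with `k`
  suffices hsuff : Commute t a' ∨ Commute t k by
    rcases hsuff with h1 | h1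
    · exact hab t k h1 hka
    · exact h1
  have hidx : (centralizer ({t} : Set G)).index = p := by
    rw [← s.hm]
    exact htS
  haveI : Fintype (G ⧸ centralizer ({t} : Set G)) := Fintype.ofFinite _
  have hcard : Fintype.card (G ⧸ centralizer ({t} : Set G)) = p := by
    rw [← Nat.card_eq_fintype_card]
    exact hidx
  let f : Option (Fin p) → G ⧸ centralizer ({t} : Set G) := fun o =>
    match o with
    | none => ((k : G) : G ⧸ centralizer ({t} : Set G))
    | some i => ((a' ^ (i : ℕ) : G) : G ⧸ centralizer ({t} : Set G))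
  have hlt : Fintype.card (G ⧸ centralizer ({t} : Set G)) < Fintype.card (Option (Fin p)) := by
    rw [hcard, Fintype.card_option, Fintype.card_fin]
    omega
  obtain ⟨x, y, hxy, hfxy⟩ := Fintype.exists_ne_map_eq_of_card_lt f hlt
  have key1 : ∀ i : Fin p, f (some i) = f none → Commute t k := by
    intro i hi
    have h1 : (a' ^ (i : ℕ))⁻¹ * k ∈ centralizer ({t} : Set G) := QuotientGroup.eq.mp hi
    have hx : IsPEl p (a' ^ (i : ℕ))⁻¹ :=
      (IsPEl.of_mem_zpowers hp ha' (pow_mem (mem_zpowers a') _)).inv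
    have hxk : Commute (a' ^ (i : ℕ))⁻¹ k := ((hka.pow_right (i : ℕ)).inv_right).symm
    exact cs3_p2b_commute_of_mul hxk (IsPEl.coprime hp hq s.hqp.symm hx hk) h1
  have key2 : ∀ i j : Fin p, i < j → f (some i) = f (some j) → Commute t a' := by
    intro i j hij hi
    have h1 : (a' ^ (i : ℕ))⁻¹ * a' ^ (j : ℕ) ∈ centralizer ({t} : Set G) :=
      QuotientGroup.eq.mp hi
    exact cs3_p2b_commute_of_pow hp ha' (Fin.lt_def.mp hij) j.isLt h1
  rcases x with _ | i <;> rcases y with _ | j
  · exact absurd rfl hxy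
  · exact Or.inr (key1 j hfxy.symm)
  · exact Or.inr (key1 i hfxy)
  · have hij : i ≠ j := fun e => hxy (by rw [e])
    rcases lt_or_gt_of_ne hij with h1 | h1
    · exact Or.inl (key2 i j h1 hfxy)
    · exact Or.inl (key2 j i h1 hfxy.symm)

/-- (ii) a `q`-element of `M` commutes with every `q`-element. -/
theorem cs3_P2.step2 (s : cs3_P2 G m n p q b) {t g : G} (ht : IsPEl q t) (htM : idx t ≠ m * n)
    (hg : IsPEl q g) : Commute t g := by
  have : Fact p.Prime := ⟨s.hp⟩
  rcases s.base.idx_of_ne htM with h1 | h1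
  · have htz : t ∈ center G := (idx_eq_one_iff t).mp h1
    exact ((mem_center_iff.mp htz) g).symm
  · obtain ⟨a', ha', ha'z, hag⟩ :=
      s.base.exists_pel_commute (p := p) (by rw [s.hm]) g
    exact s.step1 ht h1 ha' ha'z hg hag.symm

/-- (iii-a) a noncentral `p`-element commuting with a `q`-element `c ∈ L` commutes with every
`q`-element of `M`. -/
theorem cs3_P2.step3a (s : cs3_P2 G m n p q b) {c a t : G} (hc : IsPEl q c) (hcL : idx c = m * n)
    (ha : IsPEl p a) (haz : a ∉ center G) (hac : Commute a c) (ht : IsPEl q t)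
    (htM : idx t ≠ m * n) : Commute a t := by
  have : Fact q.Prime := ⟨s.hq⟩
  have hcop : (orderOf a).Coprime q := by
    obtain ⟨e, he⟩ := ha
    rw [he]
    exact Nat.Coprime.pow_left e ((Nat.coprime_primes s.hp s.hq).mpr s.hqp.symm)
  rcases s.base.lemma9 hc hcL with h1 | h1
  · exact absurd (h1 a hac hcop) haz
  · exact h1 a t hac (s.step2 ht htM hc)

end Cfsg.Agent.CS3
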