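import Mathlib
import Cfsg.Agent.CS3.Defs
import Cfsg.Agent.CS3.P2Defs
import Cfsg.Agent.CS3.Basic
import Cfsg.Agent.CS3.Prim
import Cfsg.Agent.CS3.Types
import Cfsg.Agent.CS3.PiEl
import Cfsg.Agent.CS3.P2a
import Cfsg.Agent.CS3.P2b

set_option autoImplicit false

/-!
# S4284, case P2, slice (H-c): steps (iii-b), (iv)

In the situation `cs3_P2 G m n p q b`: no noncentral `p`-element commutes with all `q`-elements of
class size `≠ m * n`; hence no `q`-element has class size `m * n`, and the `q`-elements commute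
pairwise.
-/

namespace Cfsg.Agent.CS3

open Subgroup
open Cfsg.Agent.CS4

variable {G : Type*} [Group G] [Finite G] {m n p q b : ℕ}

/-- `|K ⊓ H| · |K : K ⊓ H| = |K|` -/
theorem cs3_card_inf_mul_relIndex (H K : Subgroup G) :
    Nat.card ↥(K ⊓ H) * H.relIndex K = Nat.card K := by
  have h1 := relIndex_mul_relIndex (⊥ : Subgroup G) (K ⊓ H) K bot_le inf_le_left
  rw [relIndex_bot_left, relIndex_bot_left, inf_comm, inf_relIndex_right] at h1
  rw [inf_comm]
  exact h1

/-- a Sylow `p`-subgroup has at most `idx y` cosets of its intersection with `C(y)` -/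
theorem cs3_card_le_card_inf_mul_idx (P : Subgroup G) (y : G) :
    Nat.card P ≤ Nat.card ↥(P ⊓ centralizer ({y} : Set G)) * idx y := by
  rw [← cs3_card_inf_mul_relIndex (centralizer ({y} : Set G)) P]
  exact Nat.mul_le_mul_left _ (relIndex_cent_le_idx y P)

/-- (iii-b) no noncentral `p`-element commutes with all `q`-elements of `M`. -/
theorem cs3_P2.step3b (s : cs3_P2 G m n p q b) {a : G} (ha : IsPEl p a) (haz : a ∉ center G) :
    ∃ t : G, IsPEl q t ∧ idx t ≠ m * n ∧ ¬ Commute a t := by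
  by_contra hcon
  push Not at hcon
  have hp : p.Prime := s.hp
  have hq : q.Prime := s.hq
  haveI : Fact p.Prime := ⟨hp⟩
  haveI : Fact q.Prime := ⟨hq⟩
  have h := s.base
  have hppos : 0 < p := hp.pos
  -- a `q`-element `y` of class size `m = p`
  obtain ⟨y, hyq, hyS⟩ := s.exists_S
  have hyM : idx y ≠ m * n := by rw [hyS]; exact h.m_lt_mn.ne
  have hay : Commute a y := hcon y hyq hyM
  -- a Sylow `p`-subgroup containing `a`
  obtain ⟨P, hP⟩ := IsPGroup.exists_le_sylow ha.isPGroup_zpowers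
  have haP : a ∈ P := hP (mem_zpowers a)
  -- `B₁ = P ⊓ C(a) = P ⊓ C(y)`
  have hblock := s.block P haP haz
  have hBy_ab : ∀ c ∈ (P : Subgroup G) ⊓ centralizer ({y} : Set G),
      ∀ d ∈ (P : Subgroup G) ⊓ centralizer ({y} : Set G), Commute c d :=
    h.Tb_abelian (r := q) hyq hyS (Or.inr ⟨b, s.hn⟩) (s := p) s.hqp.symm _
      (P.isPGroup'.to_le inf_le_left) inf_le_right
  have haBy : a ∈ (P : Subgroup G) ⊓ centralizer ({y} : Set G) :=
    ⟨haP, mem_cent_iff.2 hay⟩
  have hle : (P : Subgroup G) ⊓ centralizer ({y} : Set G) ≤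
      (P : Subgroup G) ⊓ centralizer ({a} : Set G) := fun c hc =>
    ⟨hc.1, mem_cent_iff.2 (hBy_ab c hc a haBy)⟩
  have hB : (P : Subgroup G) ⊓ centralizer ({y} : Set G) =
      (P : Subgroup G) ⊓ centralizer ({a} : Set G) := by
    apply Subgroup.eq_of_le_of_card_ge hle
    have h1 := cs3_card_le_card_inf_mul_idx (P : Subgroup G) y
    rw [hyS, s.hm, ← hblock] at h1
    exact Nat.le_of_mul_le_mul_right h1 hppos
  -- an element `a₂ ∈ P` outside `B₁`
  have hlt : (P : Subgroup G) ⊓ centralizer ({a} : Set G) < (P : Subgroup G) := by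
    refine lt_of_le_of_ne inf_le_left (fun he => ?_)
    rw [he] at hblock
    have hpos : 0 < Nat.card (P : Subgroup G) := Nat.card_pos
    have h1 : Nat.card (P : Subgroup G) * p = Nat.card (P : Subgroup G) * 1 := by
      rw [mul_one]; exact hblock
    have := Nat.eq_of_mul_eq_mul_left hpos h1
    exact hp.one_lt.ne' this
  obtain ⟨a₂, ha₂P, ha₂B⟩ := SetLike.exists_of_lt hlt
  have ha₂a : ¬ Commute a₂ a := fun hc => ha₂B ⟨ha₂P, mem_cent_iff.2 hc⟩
  have ha₂z : a₂ ∉ center G := fun hz => ha₂a ((mem_center_iff.1 hz a).symm)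
  have ha₂p : IsPEl p a₂ := IsPEl.of_mem P.isPGroup' ha₂P
  -- a noncentral `q`-element `k₂` of `C(a₂)`
  obtain ⟨k₂, hk₂q, hk₂a, hk₂z⟩ := s.exists_qel ha₂p ha₂z
  by_cases hk₂L : idx k₂ = m * n
  · -- `k₂ ∈ L`: then `a₂` commutes with `y`
    have h1 : Commute a₂ y := s.step3a hk₂q hk₂L ha₂p ha₂z hk₂a.symm hyq hyM
    have h2 : a₂ ∈ (P : Subgroup G) ⊓ centralizer ({y} : Set G) := ⟨ha₂P, mem_cent_iff.2 h1⟩
    rw [hB] at h2
    exact ha₂B h2
  · -- `k₂ ∈ M`
    have hak₂ : Commute a k₂ := hcon k₂ hk₂q hk₂L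
    have hk₂S : idx k₂ = m := by
      rcases h.idx_of_not_center hk₂z with h1 | h1
      · exact h1
      · exact absurd h1 hk₂L
    have hab := s.cent_abelian ha₂p ha₂z
    have hle2 : (P : Subgroup G) ⊓ centralizer ({a₂} : Set G) ≤
        (P : Subgroup G) ⊓ centralizer ({k₂} : Set G) := fun c hc =>
      ⟨hc.1, mem_cent_iff.2 (hab c k₂ (mem_cent_iff.1 hc.2) hk₂a)⟩
    have hblock2 := s.block P ha₂P ha₂z
    have hdvd := card_pgroup_cent_dvd (p := p) (g := k₂) (a := 1)
      (by rw [hk₂S, s.hm, pow_one]) ((P : Subgroup G) ⊓ centralizer ({k₂} : Set G))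
      (P.isPGroup'.to_le inf_le_left) inf_le_right
    rw [pow_one, ← P.card_eq_multiplicity, ← hblock2] at hdvd
    have hcardle : Nat.card ↥((P : Subgroup G) ⊓ centralizer ({k₂} : Set G)) ≤
        Nat.card ↥((P : Subgroup G) ⊓ centralizer ({a₂} : Set G)) := by
      have h1 := Nat.le_of_dvd (Nat.mul_pos Nat.card_pos hppos) hdvd
      exact Nat.le_of_mul_le_mul_right h1 hppos
    have hB2 := Subgroup.eq_of_le_of_card_ge hle2 hcardle
    have h3 : a ∈ (P : Subgroup G) ⊓ centralizer ({k₂} : Set G) := ⟨haP, mem_cent_iff.2 hak₂⟩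
    rw [← hB2] at h3
    exact ha₂a (mem_cent_iff.1 h3.2).symm

/-- (iv) no `q`-element lies in `L`. -/
theorem cs3_P2.qel_not_L (s : cs3_P2 G m n p q b) {c : G} (hc : IsPEl q c) : idx c ≠ m * n := by
  intro hcL
  have h := s.base
  haveI : Fact p.Prime := ⟨s.hp⟩
  have hpm : p ∣ m := by rw [s.hm]
  obtain ⟨a, hap, haz, hac⟩ := h.exists_pel_commute hpm c
  obtain ⟨t, htq, htM, hat⟩ := s.step3b hap haz
  exact hat (s.step3a hc hcL hap haz hac htq htM)

/-- so the `q`-elements commute pairwise (ii) -/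
theorem cs3_P2.qel_commute (s : cs3_P2 G m n p q b) {c d : G} (hc : IsPEl q c) (hd : IsPEl q d) :
    Commute c d :=
  s.step2 hc (s.qel_not_L hc) hd

end Cfsg.Agent.CS3
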