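import Mathlib
import Cfsg.Agent.CS3.P2Defs
import Cfsg.Agent.CS3.PiEl
import Cfsg.Agent.CS3.P2a
import Cfsg.Agent.CS3.P2c

set_option autoImplicit false

/-!
# S4284, case P2, slice (H-d): the final count

In the situation `cs3_P2 G m n p q b` all `q`-elements commute, so a Sylow `q`-subgroup `Q` is the
set of all `q`-elements.  Counting the commuting pairs in `P × Q` (`P` a Sylow `p`-subgroup) in two
ways gives `(p + 1) β = p + q ^ b β` with `β > 1` a power of `q`, so `q ∣ p`: a contradiction.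
-/

namespace Cfsg.Agent.CS3

open Subgroup
open Cfsg.Agent.CS4

variable {G : Type*} [Group G] [Finite G] {m n p q b : ℕ}

/-! ### generic counting lemmas -/

omit [Finite G] in
/-- the elements of `K` lying in `H`, as a subgroup of `K` and as a subgroup of `G` -/
theorem cs3_p2d_card_subgroupOf (H K : Subgroup G) :
    Nat.card (H.subgroupOf K) = Nat.card ↥(K ⊓ H) := by
  rw [← inf_subgroupOf_left]
  exact Nat.card_congr (subgroupOfEquivOfLe (inf_le_left : K ⊓ H ≤ K)).toEquiv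

omit [Finite G] in
/-- the number of elements of `K` commuting with `x`, as a sum -/
theorem cs3_p2d_card_cent (K : Subgroup G) [Fintype K] (x : G)
    [∀ t : K, Decidable (Commute (t : G) x)] :
    Nat.card ((centralizer ({x} : Set G)).subgroupOf K) =
      ∑ t : K, if Commute (t : G) x then 1 else 0 := by
  rw [Finset.sum_boole]
  simp only [Nat.cast_id]
  exact Nat.subtype_card _ (by intro t; simp [mem_subgroupOf, mem_cent_iff])

omit [Finite G] in
/-- double count of the commuting pairs in `P × Q` -/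
theorem cs3_p2d_double (P Q : Subgroup G) [Fintype P] [Fintype Q] :
    ∑ x : P, Nat.card ((centralizer ({(x : G)} : Set G)).subgroupOf Q) =
      ∑ t : Q, Nat.card ((centralizer ({(t : G)} : Set G)).subgroupOf P) := by
  classical
  simp_rw [cs3_p2d_card_cent]
  rw [Finset.sum_comm]
  refine Finset.sum_congr rfl fun t _ => Finset.sum_congr rfl fun x _ => ?_
  exact if_congr ⟨Commute.symm, Commute.symm⟩ rfl rfl

omit [Finite G] in
/-- a sum over a subgroup `K` of a function with one value on `K ⊓ Z` and another outside -/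
theorem cs3_p2d_sum_ite (K Z : Subgroup G) [Fintype K] [DecidablePred fun x : K => (x : G) ∈ Z]
    (f : K → ℕ) (u v : ℕ) (hf : ∀ x : K, f x = if (x : G) ∈ Z then u else v) :
    ∃ a₁ a₂ : ℕ, a₁ = Nat.card ↥(K ⊓ Z) ∧ a₁ + a₂ = Nat.card K ∧
      ∑ x : K, f x = a₁ * u + a₂ * v := by
  refine ⟨(Finset.univ.filter fun x : K => (x : G) ∈ Z).card,
    (Finset.univ.filter fun x : K => ¬ (x : G) ∈ Z).card, ?_, ?_, ?_⟩
  · rw [← cs3_p2d_card_subgroupOf Z K]
    exact (Nat.subtype_card _ (by intro x; simp [mem_subgroupOf])).symm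
  · rw [Finset.card_filter_add_card_filter_not, Finset.card_univ, Nat.card_eq_fintype_card]
  · simp_rw [hf]
    rw [Finset.sum_ite, Finset.sum_const, Finset.sum_const, smul_eq_mul, smul_eq_mul]

/-- the central part of a Sylow `p`-subgroup has order the `p`-part of `|Z(G)|` -/
theorem cs3_p2d_card_inf_center {p : ℕ} [hp : Fact p.Prime] (P : Sylow p G) :
    Nat.card ↥((P : Subgroup G) ⊓ center G) = p ^ (Nat.card (center G)).factorization p := by
  obtain ⟨Z₀, hZ₀z, hZ₀p, -, hZ₀c⟩ := cs3_exists_central_part (G := G) p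
  have h1 : Z₀ ≤ (P : Subgroup G) ⊓ center G := by
    refine le_inf (fun x hx => ?_) hZ₀z
    exact mem_sylow_of_centralizes P (IsPEl.of_mem hZ₀p hx)
      (fun v _ => (mem_center_iff.mp (hZ₀z hx) v).symm)
  have h2 : IsPGroup p ↥((P : Subgroup G) ⊓ center G) := P.isPGroup'.to_le inf_le_left
  obtain ⟨k, hk⟩ := IsPGroup.iff_card.mp h2
  have h3 : Nat.card ↥((P : Subgroup G) ⊓ center G) ∣ Nat.card (center G) :=
    card_dvd_of_le inf_le_right
  have h4 : k ≤ (Nat.card (center G)).factorization p := by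
    rw [hk] at h3
    exact (hp.out.pow_dvd_iff_le_factorization Nat.card_pos.ne').mp h3
  apply Nat.dvd_antisymm
  · rw [hk]; exact pow_dvd_pow _ h4
  · rw [← hZ₀c]; exact card_dvd_of_le h1

/-! ### the situation -/

/-- a Sylow `q`-subgroup contains every `q`-element -/
theorem cs3_P2.qel_mem_sylow (s : cs3_P2 G m n p q b) [Fact q.Prime] (Q : Sylow q G) {g : G}
    (hg : IsPEl q g) : g ∈ Q :=
  mem_sylow_of_centralizes Q hg fun _ hv => s.qel_commute hg (IsPEl.of_mem Q.isPGroup' hv)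

/-- `|Q ⊓ C(x)| q ^ b = |Q|` for a noncentral `p`-element `x` -/
theorem cs3_P2.card_Q_cent (s : cs3_P2 G m n p q b) [Fact q.Prime] (Q : Sylow q G) {x : G}
    (hx : IsPEl p x) (hxz : x ∉ center G) :
    Nat.card ↥((Q : Subgroup G) ⊓ centralizer ({x} : Set G)) * q ^ b = Nat.card Q := by
  have hidx : idx x = q ^ b * p := by rw [s.idx_pel hx hxz, s.hm, s.hn, mul_comm]
  have hqp : ¬ q ∣ p := fun hd => s.hqp ((Nat.prime_dvd_prime_iff_eq s.hq s.hp).mp hd)
  obtain ⟨T, hT, hTle, hTc⟩ := exists_pgroup_cent hidx hqp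
  have hQc : Nat.card Q = q ^ (Nat.card G).factorization q := Q.card_eq_multiplicity
  have hTQ : T ≤ (Q : Subgroup G) ⊓ centralizer ({x} : Set G) :=
    le_inf (fun g hg => s.qel_mem_sylow Q (IsPEl.of_mem hT hg)) hTle
  have h1 : Nat.card T ∣ Nat.card ↥((Q : Subgroup G) ⊓ centralizer ({x} : Set G)) :=
    card_dvd_of_le hTQ
  have h2 : Nat.card ↥((Q : Subgroup G) ⊓ centralizer ({x} : Set G)) * q ^ b ∣
      q ^ (Nat.card G).factorization q :=
    card_pgroup_cent_dvd (by rw [hidx]; exact dvd_mul_right _ _) _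
      (Q.isPGroup'.to_le inf_le_left) inf_le_right
  rw [hQc]
  apply Nat.dvd_antisymm h2
  rw [← hTc]
  exact Nat.mul_dvd_mul_right h1 _

/-- `|P ⊓ C(t)| p = |P|` for a noncentral `q`-element `t` -/
theorem cs3_P2.card_P_cent (s : cs3_P2 G m n p q b) [Fact p.Prime] (P : Sylow p G) {t : G}
    (ht : IsPEl q t) (htz : t ∉ center G) :
    Nat.card ↥((P : Subgroup G) ⊓ centralizer ({t} : Set G)) * p = Nat.card P := by
  have hidx : idx t = p := by
    rcases s.base.idx_of_not_center htz with h | h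
    · rw [h, s.hm]
    · exact absurd h (s.qel_not_L ht)
  have h2 : Nat.card ↥((P : Subgroup G) ⊓ centralizer ({t} : Set G)) * p ^ 1 ∣
      p ^ (Nat.card G).factorization p :=
    card_pgroup_cent_dvd (by rw [hidx, pow_one]) _ (P.isPGroup'.to_le inf_le_left) inf_le_right
  rw [pow_one, ← P.card_eq_multiplicity] at h2
  have h3 : (centralizer ({t} : Set G)).relIndex P ≤ p := hidx ▸ relIndex_cent_le_idx t P
  have h4 : Nat.card ((centralizer ({t} : Set G)).subgroupOf P) *
      (centralizer ({t} : Set G)).relIndex P = Nat.card P :=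
    ((centralizer ({t} : Set G)).subgroupOf P).card_mul_index
  rw [cs3_p2d_card_subgroupOf] at h4
  apply le_antisymm (Nat.le_of_dvd Nat.card_pos h2)
  rw [← h4]
  exact Nat.mul_le_mul_left _ h3

/-- the final count -/
theorem cs3_P2.false (s : cs3_P2 G m n p q b) : False := by
  classical
  have : Fact p.Prime := ⟨s.hp⟩
  have : Fact q.Prime := ⟨s.hq⟩
  obtain ⟨P⟩ : Nonempty (Sylow p G) := inferInstance
  obtain ⟨Q⟩ : Nonempty (Sylow q G) := inferInstance
  let _ : Fintype (P : Subgroup G) := Fintype.ofFinite _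
  let _ : Fintype (Q : Subgroup G) := Fintype.ofFinite _
  have hp2 : 2 ≤ p := s.hp.two_le
  -- the orders
  obtain ⟨A, hA⟩ : ∃ A : ℕ, A = Nat.card ↥((P : Subgroup G) ⊓ center G) := ⟨_, rfl⟩
  obtain ⟨B, hB⟩ : ∃ B : ℕ, B = Nat.card ↥((Q : Subgroup G) ⊓ center G) := ⟨_, rfl⟩
  have hApos : 0 < A := hA ▸ Nat.card_pos
  have hBpos : 0 < B := hB ▸ Nat.card_pos
  have hPA : Nat.card (P : Subgroup G) = p ^ 2 * A := by
    rw [hA, cs3_p2d_card_inf_center P, P.card_eq_multiplicity, s.card_sylow, pow_add, mul_comm]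
  -- a noncentral element of `P`
  obtain ⟨x₀, hx₀P, hx₀z⟩ : ∃ x ∈ (P : Subgroup G), x ∉ center G := by
    by_contra hcon
    have hcon' : ∀ x ∈ (P : Subgroup G), x ∈ center G := fun x hx => by
      by_contra hxz
      exact hcon ⟨x, hx, hxz⟩
    have hle : (P : Subgroup G) ≤ (P : Subgroup G) ⊓ center G := le_inf le_rfl hcon'
    have h1 : Nat.card (P : Subgroup G) ≤ A := by
      rw [hA]; exact Nat.le_of_dvd Nat.card_pos (card_dvd_of_le hle)
    rw [hPA] at h1
    have h4 : 4 * A ≤ p ^ 2 * A := Nat.mul_le_mul_right _ (by nlinarith)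
    omega
  have hx₀p : IsPEl p x₀ := IsPEl.of_mem P.isPGroup' hx₀P
  obtain ⟨c, hc⟩ : ∃ c : ℕ, c = Nat.card ↥((Q : Subgroup G) ⊓ centralizer ({x₀} : Set G)) :=
    ⟨_, rfl⟩
  have hcQ : c * q ^ b = Nat.card (Q : Subgroup G) := hc ▸ s.card_Q_cent Q hx₀p hx₀z
  -- `q B ∣ c`
  have hBc : q * B ∣ c := by
    obtain ⟨k, hk, hkx, hkz⟩ := s.exists_qel hx₀p hx₀z
    have hle : (Q : Subgroup G) ⊓ center G ≤ (Q : Subgroup G) ⊓ centralizer ({x₀} : Set G) :=
      inf_le_inf_left _ (center_le_centralizer _)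
    have hkm : k ∈ (Q : Subgroup G) ⊓ centralizer ({x₀} : Set G) :=
      ⟨s.qel_mem_sylow Q hk, mem_cent_iff.mpr hkx⟩
    obtain ⟨i, hi⟩ := IsPGroup.iff_card.mp
      (Q.isPGroup'.to_le (inf_le_left : (Q : Subgroup G) ⊓ center G ≤ Q))
    obtain ⟨j, hj⟩ := IsPGroup.iff_card.mp
      (Q.isPGroup'.to_le (inf_le_left : (Q : Subgroup G) ⊓ centralizer ({x₀} : Set G) ≤ Q))
    have hdvd : q ^ i ∣ q ^ j := by
      rw [← hi, ← hj]; exact card_dvd_of_le hle
    have hij : i ≤ j := (Nat.pow_dvd_pow_iff_le_right s.hq.one_lt).mp hdvd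
    have hne : i ≠ j := by
      intro hij'
      have heq : (Q : Subgroup G) ⊓ center G = (Q : Subgroup G) ⊓ centralizer ({x₀} : Set G) :=
        eq_of_le_of_card_ge hle (by rw [hi, hj, hij'])
      rw [← heq] at hkm
      exact hkz hkm.2
    have hlt : i + 1 ≤ j := Nat.lt_of_le_of_ne hij hne
    rw [hB, hc, hi, hj, ← pow_succ']
    exact pow_dvd_pow _ hlt
  -- the two fibre counts
  have hP : ∀ x : (P : Subgroup G),
      Nat.card ((centralizer ({(x : G)} : Set G)).subgroupOf (Q : Subgroup G)) =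
        if (x : G) ∈ center G then Nat.card (Q : Subgroup G) else c := by
    intro x
    rw [cs3_p2d_card_subgroupOf]
    split_ifs with hxz
    · have h1 : (Q : Subgroup G) ⊓ centralizer ({(x : G)} : Set G) = Q :=
        inf_eq_left.mpr fun g _ => mem_cent_iff.mpr (mem_center_iff.mp hxz g)
      rw [h1]
    · have h1 := s.card_Q_cent Q (IsPEl.of_mem P.isPGroup' x.2) hxz
      exact Nat.eq_of_mul_eq_mul_right (pow_pos s.hq.pos b) (h1.trans hcQ.symm)
  have hQ : ∀ t : (Q : Subgroup G),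
      Nat.card ((centralizer ({(t : G)} : Set G)).subgroupOf (P : Subgroup G)) =
        if (t : G) ∈ center G then Nat.card (P : Subgroup G) else p * A := by
    intro t
    rw [cs3_p2d_card_subgroupOf]
    split_ifs with htz
    · have h1 : (P : Subgroup G) ⊓ centralizer ({(t : G)} : Set G) = P :=
        inf_eq_left.mpr fun g _ => mem_cent_iff.mpr (mem_center_iff.mp htz g)
      rw [h1]
    · have h1 := s.card_P_cent P (IsPEl.of_mem Q.isPGroup' t.2) htz
      rw [hPA] at h1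
      exact Nat.eq_of_mul_eq_mul_right s.hp.pos (h1.trans (by ring))
  obtain ⟨a₁, a₂, ha₁, ha₁₂, hsumP⟩ :=
    cs3_p2d_sum_ite (P : Subgroup G) (center G) _ (Nat.card (Q : Subgroup G)) c hP
  obtain ⟨b₁, b₂, hb₁, hb₁₂, hsumQ⟩ :=
    cs3_p2d_sum_ite (Q : Subgroup G) (center G) _ (Nat.card (P : Subgroup G)) (p * A) hQ
  have hcount := cs3_p2d_double (P : Subgroup G) (Q : Subgroup G)
  rw [hsumP, hsumQ] at hcount
  have ha : a₁ = A := ha₁.trans hA.symm
  have hb : b₁ = B := hb₁.trans hB.symm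
  rw [ha] at ha₁₂ hcount
  rw [hb] at hb₁₂ hcount
  rw [hPA] at ha₁₂ hcount
  rw [← hcQ] at hb₁₂ hcount
  -- arithmetic
  obtain ⟨c', hc'⟩ := hBc
  have e1 : (a₂ : ℤ) = (p : ℤ) ^ 2 * A - A := by
    have := congrArg (Nat.cast : ℕ → ℤ) ha₁₂
    push_cast at this
    linarith
  have e2 : (b₂ : ℤ) = (c : ℤ) * (q : ℤ) ^ b - B := by
    have := congrArg (Nat.cast : ℕ → ℤ) hb₁₂
    push_cast at this
    linarith
  have e3 : (A : ℤ) * ((c : ℤ) * (q : ℤ) ^ b) + a₂ * c =
      B * ((p : ℤ) ^ 2 * A) + b₂ * (p * A) := by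
    have := congrArg (Nat.cast : ℕ → ℤ) hcount
    push_cast at this
    linarith
  have key : (A : ℤ) * ((p : ℤ) - 1) * ((c : ℤ) * ((p : ℤ) + 1 - (q : ℤ) ^ b) - B * p) = 0 := by
    linear_combination e3 - (c : ℤ) * e1 + (p : ℤ) * A * e2
  have hA0 : (A : ℤ) ≠ 0 := by exact_mod_cast hApos.ne'
  have hp1 : (p : ℤ) - 1 ≠ 0 := by
    have : (2 : ℤ) ≤ p := by exact_mod_cast hp2
    intro h0; linarith
  have key2 : (c : ℤ) * ((p : ℤ) + 1 - (q : ℤ) ^ b) - B * p = 0 := by
    rcases mul_eq_zero.mp key with h | h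
    · rcases mul_eq_zero.mp h with h | h
      · exact absurd h hA0
      · exact absurd h hp1
    · exact h
  have hB0 : (B : ℤ) ≠ 0 := by exact_mod_cast hBpos.ne'
  have hc'Z : (c : ℤ) = q * B * c' := by exact_mod_cast hc'
  have key3 : (B : ℤ) * ((q : ℤ) * c' * ((p : ℤ) + 1 - (q : ℤ) ^ b) - p) = 0 := by
    rw [hc'Z] at key2
    linear_combination key2
  have key4 : (q : ℤ) * c' * ((p : ℤ) + 1 - (q : ℤ) ^ b) - p = 0 := by
    rcases mul_eq_zero.mp key3 with h | h
    · exact absurd h hB0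
    · exact h
  have hdvd : (q : ℤ) ∣ (p : ℤ) :=
    ⟨c' * ((p : ℤ) + 1 - (q : ℤ) ^ b), by linear_combination -key4⟩
  have hdvd' : q ∣ p := by exact_mod_cast hdvd
  exact s.hqp ((Nat.prime_dvd_prime_iff_eq s.hq s.hp).mp hdvd')

theorem cs3_H.P2 (h : cs3_H G m n) {a : ℕ} [Fact p.Prime] (hma : m = p ^ a)
    (hno : ∀ y : G, IsPEl p y → idx y ≠ m) : False := by
  obtain ⟨q, b, s⟩ := h.P2_sit hma hno
  exact s.false

end Cfsg.Agent.CS3
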