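import Mathlib

/-!
# CS3 / T5 (generic part): a group with `|G : Z(G)| = p²` has `|G'| = p`

Pure group theory, no finiteness assumption on `G`:
* `cs3_t5_commutator_le_center` : `G' ≤ Z(G)`;
* `cs3_t5_pow_mem_center` : `x ^ p ∈ Z(G)`;
* `cs3_t5_index_centralizer` : `|G : C_G(a)| = p` for `a ∉ Z(G)`;
* `cs3_t5_card_commutator` : `|G'| = p`;
* `cs3_t5_commutator_eq_zpowers` : `G' = ⟨[x,y]⟩` for non-commuting `x`, `y`;
* `cs3_t5_commutator_pow` : `[x,y] ^ p = 1`.
-/

namespace Cfsg.Agent.CS3

open Subgroup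
open scoped commutatorElement

variable {G : Type*} [Group G] {p : ℕ}

/-- `G / Z(G)` of order `p²` is abelian, so `G' ≤ Z(G)`. -/
theorem cs3_t5_commutator_le_center (hp : p.Prime) (h : (center G).index = p ^ 2) :
    commutator G ≤ center G := by
  have : Fact p.Prime := ⟨hp⟩
  have hc : Nat.card (G ⧸ center G) = p ^ 2 := by rw [← Subgroup.index_eq_card]; exact h
  have := IsPGroup.isMulCommutative_of_card_eq_prime_sq hc
  exact Subgroup.Normal.quotient_commutative_iff_commutator_le.mp this

theorem cs3_t5_comm_mem_center (hp : p.Prime) (h : (center G).index = p ^ 2) (a b : G) :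
    ⁅a, b⁆ ∈ center G :=
  cs3_t5_commutator_le_center hp h
    (by rw [_root_.commutator_def]; exact Subgroup.commutator_mem_commutator (mem_top a) (mem_top b))

/-- `G` is not commutative. -/
theorem cs3_t5_center_ne_top (hp : p.Prime) (h : (center G).index = p ^ 2) :
    center G ≠ ⊤ := by
  intro ht
  rw [ht, Subgroup.index_top] at h
  have : 1 < p ^ 2 := Nat.one_lt_pow (by norm_num) hp.one_lt
  omega

/-- `G / Z(G)` is not cyclic, hence of exponent `p`. -/
theorem cs3_t5_pow_mem_center (hp : p.Prime) (h : (center G).index = p ^ 2) (x : G) :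
    x ^ p ∈ center G := by
  have hc : Nat.card (G ⧸ center G) = p ^ 2 := by rw [← Subgroup.index_eq_card]; exact h
  have : Finite (G ⧸ center G) :=
    Nat.finite_of_card_ne_zero (by rw [hc]; exact pow_ne_zero _ hp.ne_zero)
  have hd : orderOf (x : G ⧸ center G) ∣ p ^ 2 := by
    rw [← hc]; exact orderOf_dvd_natCard _
  obtain ⟨k, hk, hkeq⟩ := (Nat.dvd_prime_pow hp).mp hd
  have hk2 : k ≠ 2 := by
    rintro rfl
    have : IsCyclic (G ⧸ center G) :=
      isCyclic_of_orderOf_eq_card (x : G ⧸ center G) (by rw [hkeq, hc])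
    have hcomm := MonoidHom.isMulCommutative_of_isCyclic_of_ker_le_center
      (QuotientGroup.mk' (center G)) (by rw [QuotientGroup.ker_mk'])
    apply cs3_t5_center_ne_top hp h
    rw [eq_top_iff]
    intro g _
    rw [Subgroup.mem_center_iff]
    intro y
    exact (hcomm.is_comm.comm y g)
  have hk1 : k ≤ 1 := by omega
  have hdp : orderOf (x : G ⧸ center G) ∣ p := by
    rw [hkeq]
    calc p ^ k ∣ p ^ 1 := pow_dvd_pow p hk1
      _ = p := pow_one p
  have h1 : (x : G ⧸ center G) ^ p = 1 := orderOf_dvd_iff_pow_eq_one.mp hdp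
  have h2 : ((x ^ p : G) : G ⧸ center G) = 1 := by
    rw [QuotientGroup.mk_pow]; exact h1
  exact (QuotientGroup.eq_one_iff _).mp h2

/-- For `a ∉ Z(G)` the centralizer of `a` has index `p`. -/
theorem cs3_t5_index_centralizer (hp : p.Prime) (h : (center G).index = p ^ 2) {a : G}
    (ha : a ∉ center G) : (centralizer ({a} : Set G)).index = p := by
  have hle : center G ≤ centralizer ({a} : Set G) := Subgroup.center_le_centralizer _
  have hmul := Subgroup.relIndex_mul_index hle
  rw [h] at hmul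
  have hd : (centralizer ({a} : Set G)).index ∣ p ^ 2 := Dvd.intro_left _ hmul
  obtain ⟨k, hk, hkeq⟩ := (Nat.dvd_prime_pow hp).mp hd
  have hk0 : k ≠ 0 := by
    rintro rfl
    rw [pow_zero, Subgroup.index_eq_one] at hkeq
    apply ha
    rw [Subgroup.mem_center_iff]
    intro g
    have : g ∈ centralizer ({a} : Set G) := by rw [hkeq]; exact mem_top g
    exact (Subgroup.mem_centralizer_singleton_iff.mp this)
  have hk2 : k ≠ 2 := by
    rintro rfl
    rw [hkeq] at hmul
    have hpos : 0 < p ^ 2 := pow_pos hp.pos 2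
    have h1 : (center G).relIndex (centralizer ({a} : Set G)) = 1 := by
      have : (center G).relIndex (centralizer ({a} : Set G)) * p ^ 2 = 1 * p ^ 2 := by
        rw [hmul, one_mul]
      exact Nat.eq_of_mul_eq_mul_right hpos this
    rw [Subgroup.relIndex_eq_one] at h1
    exact ha (h1 (Subgroup.mem_centralizer_singleton_iff.mpr rfl))
  have : k = 1 := by omega
  rw [hkeq, this, pow_one]

/-- In class two, `g ↦ [a,g]` is a homomorphism. -/
def cs3_t5_commHom (hp : p.Prime) (h : (center G).index = p ^ 2) (a : G) : G →* G :=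
  MonoidHom.mk' (fun g => ⁅a, g⁆) (by
    intro g k
    have hz := cs3_t5_comm_mem_center hp h a k
    rw [Subgroup.mem_center_iff] at hz
    have e : ⁅a, g * k⁆ = ⁅a, g⁆ * (g * ⁅a, k⁆ * g⁻¹) := by
      simp only [commutatorElement_def]; group
    rw [e, hz g]
    group)

@[simp] theorem cs3_t5_commHom_apply (hp : p.Prime) (h : (center G).index = p ^ 2) (a g : G) :
    cs3_t5_commHom hp h a g = ⁅a, g⁆ := rfl

theorem cs3_t5_commHom_ker (hp : p.Prime) (h : (center G).index = p ^ 2) (a : G) :
    (cs3_t5_commHom hp h a).ker = centralizer ({a} : Set G) := by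
  ext g
  rw [MonoidHom.mem_ker, cs3_t5_commHom_apply, commutatorElement_eq_one_iff_commute,
    Subgroup.mem_centralizer_singleton_iff]
  exact ⟨fun hc => hc.eq.symm, fun hc => hc.symm⟩

theorem cs3_t5_card_range (hp : p.Prime) (h : (center G).index = p ^ 2) {a : G}
    (ha : a ∉ center G) : Nat.card (cs3_t5_commHom hp h a).range = p := by
  rw [← Subgroup.index_ker, cs3_t5_commHom_ker, cs3_t5_index_centralizer hp h ha]

/-- A subgroup of prime order is generated by each of its nontrivial elements. -/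
theorem cs3_t5_zpowers_eq (hp : p.Prime) {R : Subgroup G} (hR : Nat.card R = p) {c : G}
    (hc : c ∈ R) (hc1 : c ≠ 1) : zpowers c = R := by
  have : Finite R := Nat.finite_of_card_ne_zero (by rw [hR]; exact hp.ne_zero)
  apply Subgroup.eq_of_le_of_card_ge (Subgroup.zpowers_le.mpr hc)
  rw [Nat.card_zpowers, hR]
  have hd : orderOf c ∣ p := by rw [← hR]; exact Subgroup.orderOf_dvd_natCard R hc
  rcases (Nat.dvd_prime hp).mp hd with h1 | h1
  · exact absurd (orderOf_eq_one_iff.mp h1) hc1
  · exact h1.ge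

theorem cs3_t5_range_eq_of_not_commute (hp : p.Prime) (h : (center G).index = p ^ 2) {a b : G}
    (hab : ¬ Commute a b) :
    (cs3_t5_commHom hp h a).range = (cs3_t5_commHom hp h b).range := by
  have ha : a ∉ center G := fun hz => hab ((Subgroup.mem_center_iff.mp hz b).symm)
  have hb : b ∉ center G := fun hz => hab (Subgroup.mem_center_iff.mp hz a)
  have hne : ⁅a, b⁆ ≠ 1 := fun e => hab (commutatorElement_eq_one_iff_commute.mp e)
  have h1 : ⁅a, b⁆ ∈ (cs3_t5_commHom hp h a).range := ⟨b, rfl⟩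
  have h2 : ⁅a, b⁆ ∈ (cs3_t5_commHom hp h b).range := by
    have : ⁅a, b⁆ = (⁅b, a⁆)⁻¹ := (commutatorElement_inv b a).symm
    rw [this]
    exact inv_mem ⟨a, rfl⟩
  rw [← cs3_t5_zpowers_eq hp (cs3_t5_card_range hp h ha) h1 hne,
    cs3_t5_zpowers_eq hp (cs3_t5_card_range hp h hb) h2 hne]

theorem cs3_t5_comm_mul_left (hp : p.Prime) (h : (center G).index = p ^ 2) (a y b : G) :
    ⁅a * y, b⁆ = ⁅a, b⁆ * ⁅y, b⁆ := by
  have hz := cs3_t5_comm_mem_center hp h y b
  rw [Subgroup.mem_center_iff] at hz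
  have e : ⁅a * y, b⁆ = a * ⁅y, b⁆ * a⁻¹ * ⁅a, b⁆ := by
    simp only [commutatorElement_def]; group
  rw [e, hz a, hz (⁅a, b⁆)]
  group

/-- Every commutator lies in the range of `[x, ·]`, for any fixed `x ∉ Z(G)`. -/
theorem cs3_t5_comm_mem_range (hp : p.Prime) (h : (center G).index = p ^ 2) {x : G}
    (hx : x ∉ center G) (a b : G) : ⁅a, b⁆ ∈ (cs3_t5_commHom hp h x).range := by
  by_cases hab : Commute a b
  · rw [commutatorElement_eq_one_iff_commute.mpr hab]; exact one_mem _
  have h1 : ⁅a, b⁆ ∈ (cs3_t5_commHom hp h a).range := ⟨b, rfl⟩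
  by_cases hax : Commute a x
  swap
  · rw [← cs3_t5_range_eq_of_not_commute hp h hax]; exact h1
  by_cases hbx : Commute b x
  swap
  · rw [← cs3_t5_range_eq_of_not_commute hp h hbx, ← cs3_t5_range_eq_of_not_commute hp h hab]
    exact h1
  -- both commute with `x`: pick `y` not commuting with `x`
  obtain ⟨y, hy⟩ : ∃ y, ¬ Commute y x := by
    by_contra hcon
    apply hx
    rw [Subgroup.mem_center_iff]
    intro g
    by_contra hg
    exact hcon ⟨g, fun hc => hg hc.eq⟩
  have hayx : ¬ Commute (a * y) x := by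
    intro hc
    apply hy
    have : Commute (a⁻¹ * (a * y)) x := (hax.inv_left).mul_left hc
    simpa using this
  have e1 : ⁅a * y, b⁆ ∈ (cs3_t5_commHom hp h x).range := by
    rw [← cs3_t5_range_eq_of_not_commute hp h hayx]; exact ⟨b, rfl⟩
  have e2 : ⁅y, b⁆ ∈ (cs3_t5_commHom hp h x).range := by
    rw [← cs3_t5_range_eq_of_not_commute hp h hy]; exact ⟨b, rfl⟩
  have e3 : ⁅a, b⁆ = ⁅a * y, b⁆ * (⁅y, b⁆)⁻¹ := by
    rw [cs3_t5_comm_mul_left hp h]; group
  rw [e3]
  exact mul_mem e1 (inv_mem e2)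

theorem cs3_t5_commutator_eq_range (hp : p.Prime) (h : (center G).index = p ^ 2) {x : G}
    (hx : x ∉ center G) : commutator G = (cs3_t5_commHom hp h x).range := by
  apply le_antisymm
  · rw [commutator_eq_closure, Subgroup.closure_le]
    rintro c ⟨a, b, rfl⟩
    exact cs3_t5_comm_mem_range hp h hx a b
  · rintro c ⟨g, rfl⟩
    rw [cs3_t5_commHom_apply, _root_.commutator_def]
    exact Subgroup.commutator_mem_commutator (mem_top x) (mem_top g)

/-- **T5 (generic)**: if `|G : Z(G)| = p²` then `|G'| = p`. -/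
theorem cs3_t5_card_commutator (hp : p.Prime) (h : (center G).index = p ^ 2) :
    Nat.card (commutator G) = p := by
  obtain ⟨x, hx⟩ : ∃ x, x ∉ center G := by
    by_contra hcon
    apply cs3_t5_center_ne_top hp h
    rw [eq_top_iff]
    intro g _
    by_contra hg
    exact hcon ⟨g, hg⟩
  rw [cs3_t5_commutator_eq_range hp h hx]
  exact cs3_t5_card_range hp h hx

/-- `G' = ⟨[x,y]⟩` for any two non-commuting elements. -/
theorem cs3_t5_commutator_eq_zpowers (hp : p.Prime) (h : (center G).index = p ^ 2) {x y : G}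
    (hxy : ¬ Commute x y) : commutator G = zpowers ⁅x, y⁆ := by
  have hne : ⁅x, y⁆ ≠ 1 := fun e => hxy (commutatorElement_eq_one_iff_commute.mp e)
  have hmem : ⁅x, y⁆ ∈ commutator G := by
    rw [_root_.commutator_def]; exact Subgroup.commutator_mem_commutator (mem_top x) (mem_top y)
  exact (cs3_t5_zpowers_eq hp (cs3_t5_card_commutator hp h) hmem hne).symm

theorem cs3_t5_commutator_pow (hp : p.Prime) (h : (center G).index = p ^ 2) (x y : G) :
    ⁅x, y⁆ ^ p = 1 := by
  have hmem : ⁅x, y⁆ ∈ commutator G := by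
    rw [_root_.commutator_def]; exact Subgroup.commutator_mem_commutator (mem_top x) (mem_top y)
  have hd := Subgroup.orderOf_dvd_natCard (commutator G) hmem
  rw [cs3_t5_card_commutator hp h] at hd
  exact orderOf_dvd_iff_pow_eq_one.mp hd

end Cfsg.Agent.CS3
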