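import Mathlib
import Cfsg.Agent.CS3.Defs
import Cfsg.Agent.CS3.Basic
import Cfsg.Agent.CS3.Prim
import Cfsg.Agent.CS3.PiEl
import Cfsg.Agent.CS3.NoTc
import Cfsg.Agent.CS3.LemUa

set_option autoImplicit false
set_option linter.unusedVariables false
set_option linter.unusedSectionVars false

/-!
# S4284, package (F): `m` is a prime power (Theorem P)
-/

namespace Cfsg.Agent.CS3

open Subgroup
open Cfsg.Agent.CS4

variable {G : Type*} [Group G] [Finite G] {m n : ℕ}

/-- Step 1: for two primes `p ≠ p'` dividing `m`, a noncentral `p`-element `a` and a noncentral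
`p'`-element `t` that commute have the same centralizer, which is abelian. -/
theorem cs3_H.P_step1 (h : cs3_H G m n) {p p' : ℕ} [Fact p.Prime] [Fact p'.Prime] (hne : p ≠ p')
    (hp : p ∣ m) (hp' : p' ∣ m) {a t : G} (ha : IsPEl p a) (ht : IsPEl p' t)
    (haz : a ∉ center G) (htz : t ∉ center G) (hat : Commute a t) :
    centralizer ({a} : Set G) = centralizer ({t} : Set G) ∧
      ∀ c d : G, Commute c a → Commute d a → Commute c d := by
  have hpp : p.Prime := Fact.out
  have hpp' : p'.Prime := Fact.out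
  have hap' : (orderOf a).Coprime p' := cs3_isPEl_coprime hpp hpp' hne ha
  have htp : (orderOf t).Coprime p := cs3_isPEl_coprime hpp' hpp hne.symm ht
  have hcop : (orderOf a).Coprime (orderOf t) := cs3_coprime_of_isPEl ha htp
  -- it is enough to have `C(a) = C(t)` and the two centrality statements
  have key : centralizer ({a} : Set G) = centralizer ({t} : Set G) →
      (∀ z ∈ centralizer ({a} : Set G), (orderOf z).Coprime p →
        ∀ c ∈ centralizer ({a} : Set G), Commute c z) →
      (∀ z ∈ centralizer ({t} : Set G), (orderOf z).Coprime p' →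
        ∀ c ∈ centralizer ({t} : Set G), Commute c z) →
      centralizer ({a} : Set G) = centralizer ({t} : Set G) ∧
        ∀ c d : G, Commute c a → Commute d a → Commute c d := by
    intro hCeq h1 h2
    refine ⟨hCeq, ?_⟩
    have hab := cs3_abelian_of_two_primes hpp hpp' hne (centralizer ({a} : Set G)) h1
      (by rw [hCeq]; exact h2)
    intro c d hc hd
    exact hab c (mem_cent_iff.mpr hc) d (mem_cent_iff.mpr hd)
  -- (B2) for an element of `L`
  have hB2 : ∀ {r : ℕ} {x : G}, IsPEl r x → idx x = m * n →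
      ∀ z ∈ centralizer ({x} : Set G), (orderOf z).Coprime r →
        ∀ c ∈ centralizer ({x} : Set G), Commute c z := by
    intro r x hx hxL z hz hzr c hc
    have hzx : Commute z x := mem_cent_iff.mp hz
    exact mem_cent_iff.mp (h.cent_le_of_L hxL hzx.symm (cs3_coprime_of_isPEl hx hzr) hc)
  -- type (6a) for an element of `S`
  have hTa : ∀ {r : ℕ} {x : G}, cs3_Ta r x →
      ∀ z ∈ centralizer ({x} : Set G), (orderOf z).Coprime r →
        ∀ c ∈ centralizer ({x} : Set G), Commute c z := by
    intro r x hT z hz hzr c hc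
    exact hT z c (mem_cent_iff.mp hz) (mem_cent_iff.mp hc) hzr
  rcases h.idx_of_not_center haz with haS | haL
  · rcases h.idx_of_not_center htz with htS | htL
    · -- both in `S`
      exact key (h.claimX hne ha ht haS htS hat) (hTa (h.Ta_of_dvd hp ha haS))
        (hTa (h.Ta_of_dvd hp' ht htS))
    · -- `a ∈ S`, `t ∈ L`: impossible
      exfalso
      have hle : centralizer ({a} : Set G) ≤ centralizer ({t} : Set G) := by
        intro c hc
        exact mem_cent_iff.mpr
          (h.Ta_of_dvd hp ha haS t c hat.symm (mem_cent_iff.mp hc) htp)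
      have hd : idx t ∣ idx a := idx_dvd_of_cent_le hle
      rw [haS, htL] at hd
      have := Nat.le_of_dvd h.m_pos hd
      have := h.m_lt_mn
      omega
  · rcases h.idx_of_not_center htz with htS | htL
    · -- `a ∈ L`, `t ∈ S`: impossible
      exfalso
      have hle : centralizer ({t} : Set G) ≤ centralizer ({a} : Set G) := by
        intro c hc
        exact mem_cent_iff.mpr
          (h.Ta_of_dvd hp' ht htS a c hat (mem_cent_iff.mp hc) hap')
      have hd : idx a ∣ idx t := idx_dvd_of_cent_le hle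
      rw [htS, haL] at hd
      have := Nat.le_of_dvd h.m_pos hd
      have := h.m_lt_mn
      omega
    · -- both in `L`
      have h1 : centralizer ({a} : Set G) ≤ centralizer ({t} : Set G) :=
        h.cent_le_of_L haL hat hcop
      have h2 : centralizer ({t} : Set G) ≤ centralizer ({a} : Set G) :=
        h.cent_le_of_L htL hat.symm hcop.symm
      exact key (le_antisymm h1 h2) (hB2 ha haL) (hB2 ht htL)

/-- Step 2: so `cs3_AA p G` holds (B5 for `p'`). -/
theorem cs3_H.P_step2 (h : cs3_H G m n) {p p' : ℕ} [Fact p.Prime] [Fact p'.Prime] (hne : p ≠ p')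
    (hp : p ∣ m) (hp' : p' ∣ m) : cs3_AA p G := by
  intro a ha haz
  obtain ⟨t, ht, htz, hta⟩ := h.exists_pel_commute hp' a
  refine ⟨(h.P_step1 hne hp hp' ha ht haz htz hta.symm).2, t, hta, ?_, htz⟩
  exact cs3_isPEl_coprime Fact.out Fact.out hne.symm ht

/-- Step 3: `m_p < β' := |G|_{p'} / (m_{p'} z_{p'}) ≤ m_{p'}`. -/
theorem cs3_H.P_lt (h : cs3_H G m n) {p p' : ℕ} [Fact p.Prime] [Fact p'.Prime] (hne : p ≠ p')
    (hp : p ∣ m) (hp' : p' ∣ m) : p ^ m.factorization p < p' ^ m.factorization p' := by
  have hpp : p.Prime := Fact.out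
  have hpp' : p'.Prime := Fact.out
  have hA : cs3_AA p G := h.P_step2 hne hp hp'
  have hA' : cs3_AA p' G := h.P_step2 hne.symm hp' hp
  obtain ⟨u, hup, huz, hU⟩ := h.U_orbit hp hA
  have hdiv := hU p' hpp' hne.symm
  have hgt := h.card_sylow_gt hp'
  have hle := h.U_beta_le hp' hA'
  -- the `p'`-part of `|C(u)|`
  have hfac : (Nat.card (centralizer ({u} : Set G))).factorization p' + m.factorization p' =
      (Nat.card G).factorization p' := by
    have h1 : Nat.card (centralizer ({u} : Set G)) * idx u = Nat.card G :=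
      (centralizer ({u} : Set G)).card_mul_index
    have h2 := h.factorization_idx hpp' hp' huz
    rw [← h1, Nat.factorization_mul Nat.card_pos.ne' (idx_pos u).ne']
    simp [h2]
  set A := (Nat.card (centralizer ({u} : Set G))).factorization p' with hAdef
  set M' := m.factorization p' with hM'def
  set Z' := (Nat.card (center G)).factorization p' with hZ'def
  set G' := (Nat.card G).factorization p' with hG'def
  set M := m.factorization p with hMdef
  -- exponent inequalities
  have e1 : M' + Z' < G' := by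
    rw [← pow_add] at hgt
    exact (Nat.pow_lt_pow_iff_right hpp'.one_lt).mp hgt
  have e2 : G' ≤ 2 * M' + Z' := by
    rw [← pow_mul, ← pow_add] at hle
    have := (Nat.pow_le_pow_iff_right hpp'.one_lt).mp hle
    omega
  have hAZ : Z' < A := by omega
  obtain ⟨d, hd⟩ : ∃ d, A = Z' + d := ⟨A - Z', by omega⟩
  have hd0 : 0 < d := by omega
  have hdM : d ≤ M' := by omega
  -- `p ^ M ∣ p' ^ Z' * (p' ^ d - 1)`
  have h3 : p' ^ A - p' ^ Z' = p' ^ Z' * (p' ^ d - 1) := by
    rw [hd, pow_add, Nat.mul_sub, mul_one]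
  rw [h3] at hdiv
  have hcop : (p ^ M).Coprime (p' ^ Z') :=
    Nat.Coprime.pow _ _ ((Nat.coprime_primes hpp hpp').mpr hne)
  have h4 : p ^ M ∣ p' ^ d - 1 := hcop.dvd_of_dvd_mul_left hdiv
  have h5 : 1 < p' ^ d := Nat.one_lt_pow hd0.ne' hpp'.one_lt
  have h6 : p ^ M ≤ p' ^ d - 1 := Nat.le_of_dvd (by omega) h4
  have h7 : p' ^ d ≤ p' ^ M' := Nat.pow_le_pow_right hpp'.pos hdM
  omega

/-- Theorem P -/
theorem cs3_H.m_prime_pow (h : cs3_H G m n) : ∃ p a : ℕ, p.Prime ∧ 0 < a ∧ m = p ^ a := by
  obtain ⟨p, hp, hpm⟩ := Nat.exists_prime_and_dvd h.hm.ne'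
  have huniq : ∀ {d : ℕ}, d.Prime → d ∣ m → d = p := by
    intro d hd hdm
    by_contra hne
    have : Fact p.Prime := ⟨hp⟩
    have : Fact d.Prime := ⟨hd⟩
    have h1 := h.P_lt hne hdm hpm
    have h2 := h.P_lt (Ne.symm hne) hpm hdm
    omega
  have hm := Nat.eq_prime_pow_of_unique_prime_dvd h.m_pos.ne' huniq
  refine ⟨p, m.primeFactorsList.length, hp, ?_, hm⟩
  rcases Nat.eq_zero_or_pos m.primeFactorsList.length with h0 | h0
  · rw [h0, pow_zero] at hm
    have := h.hm
    omega
  · exact h0

end Cfsg.Agent.CS3
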